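import Mathlib.Combinatorics.Enumerative.DoubleCounting
import Mathlib.Data.Set.Card
import Mathlib.Data.Set.Card.Arithmetic

/-!
Double counting of a finite incidence relation between two sets.
-/

set_option autoImplicit false

namespace CfsgLib.SylowFix

variable {X Y : Type*} [Finite X] [Finite Y]


/-- The incidences of a relation between two sets. -/
def inc (A : Set X) (B : Set Y) (r : X → Y → Prop) : Set (X × Y) :=
  {z | z.1 ∈ A ∧ z.2 ∈ B ∧ r z.1 z.2}

theorem ncard_inc_swap (A : Set X) (B : Set Y) (r : X → Y → Prop) :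
    (inc A B r).ncard = (inc B A (fun y x => r x y)).ncard := by
  rw [← Set.ncard_image_of_injective _ Prod.swap_injective]
  congr 1
  ext ⟨y, x⟩
  simp [inc, and_left_comm]

theorem ncard_inc_eq_sum [Fintype X] (A : Set X)
    [DecidablePred (· ∈ A)] (B : Set Y) (r : X → Y → Prop) :
    (inc A B r).ncard = ∑ a : A, {b ∈ B | r a b}.ncard := by
  simp only [← Nat.card_coe_set_eq]
  rw [← Nat.card_sigma]
  exact Nat.card_congr
    { toFun := fun z => ⟨⟨z.1.1, z.2.1⟩, ⟨z.1.2, z.2.2⟩⟩
      invFun := fun z => ⟨(z.1.1, z.2.1), z.1.2, z.2.2⟩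
      left_inv := fun _ => rfl
      right_inv := fun _ => rfl }

theorem ncard_inc_left {A : Set X} {B : Set Y} {r : X → Y → Prop} {k : ℕ}
    (h : ∀ a ∈ A, {b ∈ B | r a b}.ncard = k) : (inc A B r).ncard = A.ncard * k := by
  classical
  have := Fintype.ofFinite X
  rw [ncard_inc_eq_sum, Finset.sum_congr rfl (fun (a : A) _ => h a a.2), Finset.sum_const,
    smul_eq_mul, Finset.card_univ, ← Nat.card_eq_fintype_card, Nat.card_coe_set_eq]

theorem ncard_inc_le {A : Set X} {B : Set Y} {r : X → Y → Prop} {k : ℕ}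
    (h : ∀ a ∈ A, {b ∈ B | r a b}.ncard ≤ k) : (inc A B r).ncard ≤ A.ncard * k := by
  classical
  have := Fintype.ofFinite X
  rw [ncard_inc_eq_sum]
  refine le_trans (Finset.sum_le_sum (fun (a : A) _ => h a a.2)) ?_
  rw [Finset.sum_const, smul_eq_mul, Finset.card_univ, ← Nat.card_eq_fintype_card,
    Nat.card_coe_set_eq]

theorem ncard_inc_union {A A' : Set X} (hd : Disjoint A A') (B : Set Y) (r : X → Y → Prop) :
    (inc (A ∪ A') B r).ncard = (inc A B r).ncard + (inc A' B r).ncard := by
  rw [← Set.ncard_union_eq ?_ (Set.toFinite _) (Set.toFinite _)]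
  · congr 1
    ext z
    simp [inc, or_and_right]
  · rw [Set.disjoint_left]
    intro z h1 h2
    exact Set.disjoint_left.mp hd h1.1 h2.1

/-- Double counting. -/
theorem double_count {A : Set X} {B : Set Y} {r : X → Y → Prop} {k l : ℕ}
    (hA : ∀ a ∈ A, {b ∈ B | r a b}.ncard = k) (hB : ∀ b ∈ B, {a ∈ A | r a b}.ncard = l) :
    A.ncard * k = B.ncard * l := by
  rw [← ncard_inc_left hA, ncard_inc_swap]
  exact ncard_inc_left hB

end CfsgLib.SylowFix
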