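import Mathlib.GroupTheory.Sylow
import Mathlib.GroupTheory.GroupAction.Blocks
import Mathlib.Algebra.Group.Pointwise.Set.Card
import Mathlib.Tactic.LinearCombination
import Cfsg.Agent.Lib.SylowFix.Count

/-!
Fixed points of Sylow subgroups: basic notions.

For a finite group `G` acting on a finite set, `sylFix p x` is the set of Sylow `p`-subgroups
fixing `x`, `lab p x y` the set of those fixing two points, `gen S` the subgroup generated by a set
of Sylow subgroups and `dev p P O = (p - 1)|O| - (2p - 1)|O ∩ Fix P|`.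
-/

set_option autoImplicit false

open scoped Pointwise
open MulAction

namespace CfsgLib.SylowFix

universe u v

variable {G : Type u} [Group G] {α : Type v} [MulAction G α]

/-- Points fixed by every element of a subgroup. -/
def Fix (P : Subgroup G) : Set α := {x | P ≤ stabilizer G x}

theorem mem_Fix {P : Subgroup G} {x : α} : x ∈ Fix P ↔ ∀ g ∈ P, g • x = x := Iff.rfl

/-- The Sylow subgroups fixing a point. -/
def sylFix (p : ℕ) (x : α) : Set (Sylow p G) := {Q | (Q : Subgroup G) ≤ stabilizer G x}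

/-- The Sylow subgroups fixing two points. -/
def lab (p : ℕ) (x y : α) : Set (Sylow p G) := sylFix p x ∩ sylFix p y

/-- The subgroup generated by a set of Sylow subgroups. -/
def gen {p : ℕ} (S : Set (Sylow p G)) : Subgroup G := ⨆ Q ∈ S, (Q : Subgroup G)

/-- `(p - 1)|O| - (2p - 1)|O ∩ Fix P|`. -/
noncomputable def dev (p : ℕ) (P : Subgroup G) (O : Set α) : ℤ :=
  ((p : ℤ) - 1) * O.ncard - (2 * (p : ℤ) - 1) * (O ∩ Fix P).ncard

/-- The group is generated by its Sylow `p`-subgroups. -/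
def SylGen (p : ℕ) (G : Type u) [Group G] : Prop := gen (Set.univ : Set (Sylow p G)) = ⊤

variable {p : ℕ}

theorem mem_sylFix {Q : Sylow p G} {x : α} : Q ∈ sylFix p x ↔ x ∈ Fix (Q : Subgroup G) := Iff.rfl

theorem mem_lab {Q : Sylow p G} {x y : α} :
    Q ∈ lab p x y ↔ x ∈ Fix (Q : Subgroup G) ∧ y ∈ Fix (Q : Subgroup G) := Iff.rfl

theorem lab_comm (x y : α) : lab p x y = (lab p y x : Set (Sylow p G)) := Set.inter_comm _ _

theorem lab_subset_left (x y : α) : lab p x y ⊆ (sylFix p x : Set (Sylow p G)) :=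
  Set.inter_subset_left

theorem lab_subset_right (x y : α) : lab p x y ⊆ (sylFix p y : Set (Sylow p G)) :=
  Set.inter_subset_right

theorem le_gen {S : Set (Sylow p G)} {Q : Sylow p G} (h : Q ∈ S) : (Q : Subgroup G) ≤ gen S :=
  le_iSup₂ (f := fun (Q : Sylow p G) (_ : Q ∈ S) => (Q : Subgroup G)) Q h

theorem gen_le {S : Set (Sylow p G)} {H : Subgroup G} :
    gen S ≤ H ↔ ∀ Q ∈ S, (Q : Subgroup G) ≤ H := iSup₂_le_iff

theorem gen_mono {S T : Set (Sylow p G)} (h : S ⊆ T) : gen S ≤ gen T :=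
  gen_le.2 fun _ hQ => le_gen (h hQ)

theorem gen_sylFix_le (x : α) : gen (sylFix p x : Set (Sylow p G)) ≤ stabilizer G x :=
  gen_le.2 fun _ hQ => hQ

theorem smul_eq_of_mem_gen {S : Set (Sylow p G)} {x : α} (hS : S ⊆ sylFix p x) {g : G}
    (hg : g ∈ gen S) : g • x = x :=
  mem_stabilizer_iff.1 (gen_sylFix_le x (gen_mono hS hg))

theorem le_stabilizer_smul_iff (g : G) (Q : Sylow p G) (x : α) :
    ((g • Q : Sylow p G) : Subgroup G) ≤ stabilizer G (g • x) ↔
      (Q : Subgroup G) ≤ stabilizer G x := by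
  have h : ∀ y : G, (MulAut.conj g • y) • (g • x) = g • (y • x) := fun y => by
    rw [MulAut.smul_def, MulAut.conj_apply]
    simp [mul_smul]
  rw [Sylow.coe_subgroup_smul]
  constructor
  · intro hle q hq
    have := hle (Subgroup.smul_mem_pointwise_smul q (MulAut.conj g) _ hq)
    rw [mem_stabilizer_iff, h] at this
    exact mem_stabilizer_iff.2 (smul_left_cancel g this)
  · intro hle y hy
    obtain ⟨q, hq, rfl⟩ := (Subgroup.mem_smul_pointwise_iff_exists _ _ _).1 hy
    rw [mem_stabilizer_iff, h, mem_stabilizer_iff.1 (hle hq)]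

theorem smul_sylFix (g : G) (x : α) : g • (sylFix p x : Set (Sylow p G)) = sylFix p (g • x) := by
  ext Q
  rw [Set.mem_smul_set_iff_inv_smul_mem]
  have := le_stabilizer_smul_iff (α := α) g (g⁻¹ • Q) x
  rw [smul_inv_smul] at this
  exact this.symm

theorem smul_lab (g : G) (x y : α) :
    g • (lab p x y : Set (Sylow p G)) = lab p (g • x) (g • y) := by
  simp only [lab, Set.smul_set_inter, smul_sylFix]

theorem ncard_sylFix_smul (g : G) (x : α) :
    (sylFix p (g • x) : Set (Sylow p G)).ncard = (sylFix p x : Set (Sylow p G)).ncard := by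
  rw [← smul_sylFix, Set.ncard_smul_set]

theorem smul_eq_self_of_mem_gen {S : Set (Sylow p G)} {g : G} (hg : g ∈ gen S) (Q : Sylow p G)
    (hQ : (Q : Subgroup G) ≤ gen S) : ((g • Q : Sylow p G) : Subgroup G) ≤ gen S := by
  rw [Sylow.coe_subgroup_smul]
  intro y hy
  obtain ⟨q, hq, rfl⟩ := (Subgroup.mem_smul_pointwise_iff_exists _ _ _).1 hy
  rw [MulAut.smul_def, MulAut.conj_apply]
  exact mul_mem (mul_mem hg (hQ hq)) (inv_mem hg)

theorem gen_smul (g : G) (S : Set (Sylow p G)) : gen (g • S) = MulAut.conj g • gen S := by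
  apply le_antisymm
  · refine gen_le.2 fun Q hQ => ?_
    obtain ⟨R, hR, rfl⟩ := Set.mem_smul_set.1 hQ
    rw [Sylow.coe_subgroup_smul]
    exact Subgroup.pointwise_smul_le_pointwise_smul_iff.2 (le_gen hR)
  · rw [Subgroup.pointwise_smul_subset_iff]
    refine gen_le.2 fun R hR => ?_
    rw [← Subgroup.pointwise_smul_subset_iff, ← Sylow.coe_subgroup_smul]
    exact le_gen (Set.smul_mem_smul_set hR)

/-! ### `dev` -/

theorem dev_union [Finite α] (P : Subgroup G) {U V : Set α} (h : Disjoint U V) :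
    dev p P (U ∪ V) = dev p P U + dev p P V := by
  simp only [dev, Set.union_inter_distrib_right]
  rw [Set.ncard_union_eq h, Set.ncard_union_eq
    (h.mono Set.inter_subset_left Set.inter_subset_left)]
  push_cast
  ring

@[simp] theorem dev_empty (P : Subgroup G) : dev p P (∅ : Set α) = 0 := by simp [dev]

theorem dev_eq_dev_add_dev_diff [Finite α] (P : Subgroup G) {U V : Set α} (h : U ⊆ V) :
    dev p P V = dev p P U + dev p P (V \ U) := by
  rw [← dev_union P Set.disjoint_sdiff_right, Set.union_diff_cancel h]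

theorem mem_Fix_smul_iff (g : G) (Q : Sylow p G) (x : α) :
    g • x ∈ Fix ((g • Q : Sylow p G) : Subgroup G) ↔ x ∈ Fix (Q : Subgroup G) :=
  le_stabilizer_smul_iff g Q x

theorem ncard_inter_Fix_smul (g : G) (Q : Sylow p G) (O : Set α) :
    ((g • O) ∩ Fix ((g • Q : Sylow p G) : Subgroup G)).ncard =
      (O ∩ Fix (Q : Subgroup G)).ncard := by
  rw [← Set.ncard_smul_set g (O ∩ Fix (Q : Subgroup G))]
  congr 1
  ext x
  rw [Set.mem_smul_set_iff_inv_smul_mem, Set.mem_inter_iff, Set.mem_inter_iff,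
    Set.mem_smul_set_iff_inv_smul_mem]
  constructor
  · rintro ⟨h1, h2⟩
    refine ⟨h1, (mem_Fix_smul_iff g Q _).1 ?_⟩
    rwa [smul_inv_smul]
  · rintro ⟨h1, h2⟩
    refine ⟨h1, ?_⟩
    have := (mem_Fix_smul_iff g Q _).2 h2
    rwa [smul_inv_smul] at this

theorem dev_smul (g : G) (Q : Sylow p G) (O : Set α) :
    dev p ((g • Q : Sylow p G) : Subgroup G) (g • O) = dev p (Q : Subgroup G) O := by
  rw [dev, dev, ncard_inter_Fix_smul, Set.ncard_smul_set]

/-! ### Orbits of `p`-groups -/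

section PGroup

variable {β : Type*} [MulAction G β] [Finite β] [hp : Fact p.Prime]

theorem le_stabilizer_of_small_orbit {P : Subgroup G} (hP : IsPGroup p P) {x : β}
    {U : Set β} (hx : x ∈ U) (hinv : ∀ g ∈ P, ∀ y ∈ U, g • y ∈ U) (hU : U.ncard < p) :
    P ≤ stabilizer G x := by
  obtain ⟨k, hk⟩ := hP.card_orbit x
  have hsub : orbit P x ⊆ U := by
    rintro _ ⟨g, rfl⟩
    exact hinv g g.2 x hx
  rw [Nat.card_coe_set_eq] at hk
  have hlt : (orbit P x).ncard < p := lt_of_le_of_lt (Set.ncard_le_ncard hsub) hU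
  rcases Nat.eq_zero_or_pos k with rfl | hk0
  · rw [pow_zero] at hk
    obtain ⟨z, hz⟩ := Set.ncard_eq_one.1 hk
    intro g hg
    have h1 : g • x ∈ orbit P x := ⟨⟨g, hg⟩, rfl⟩
    have h2 : x ∈ orbit P x := mem_orbit_self x
    rw [hz, Set.mem_singleton_iff] at h1 h2
    rw [mem_stabilizer_iff, h1, h2]
  · exact absurd (hk ▸ hlt) (not_lt.2 (Nat.le_self_pow hk0.ne' p))

theorem le_ncard_orbit {P : Subgroup G} (hP : IsPGroup p P) {x : β}
    (hx : ¬ P ≤ stabilizer G x) : p ≤ (orbit P x).ncard := by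
  by_contra h
  refine hx (le_stabilizer_of_small_orbit hP (mem_orbit_self x) ?_ (not_le.1 h))
  rintro g hg _ ⟨k, rfl⟩
  exact ⟨⟨g, hg⟩ * k, by simp [mul_smul, Subgroup.smul_def]⟩

theorem ncard_orbit_eq {P : Subgroup G} (hP : IsPGroup p P) {x : β}
    (hx : ¬ P ≤ stabilizer G x) (hlt : (orbit P x).ncard < p * p) : (orbit P x).ncard = p := by
  obtain ⟨k, hk⟩ := hP.card_orbit x
  rw [Nat.card_coe_set_eq] at hk
  have h1 := le_ncard_orbit hP hx
  rw [hk] at h1 hlt ⊢
  have hp1 : 1 < p := hp.out.one_lt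
  have hk1 : k = 1 := by
    rcases Nat.lt_or_ge k 1 with h | h
    · interval_cases k
      simp at h1
      omega
    rcases Nat.lt_or_ge k 2 with h2 | h2
    · omega
    · have : p ^ 2 ≤ p ^ k := Nat.pow_le_pow_right hp.out.pos h2
      rw [sq] at this
      omega
  rw [hk1, pow_one]

theorem dvd_ncard_diff_Fix {P : Subgroup G} (hP : IsPGroup p P) {U : Set α} [Finite α]
    (hinv : ∀ g ∈ P, ∀ y ∈ U, g • y ∈ U) : p ∣ (U \ Fix P).ncard := by
  let A : SubMulAction P α :=
    { carrier := U \ Fix P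
      smul_mem' := by
        rintro ⟨g, hg⟩ y ⟨hy, hny⟩
        refine ⟨hinv g hg y hy, fun hc => hny ?_⟩
        intro q hq
        have h1 : (g * q * g⁻¹) • (g • y) = g • y :=
          hc (mul_mem (mul_mem hg hq) (inv_mem hg))
        rw [smul_smul, inv_mul_cancel_right, mul_smul] at h1
        exact mem_stabilizer_iff.2 (smul_left_cancel g h1) }
  have h0 : IsEmpty (fixedPoints P A) := ⟨fun ⟨⟨y, hy, hny⟩, hfix⟩ =>
    hny fun q hq => mem_stabilizer_iff.2 (congrArg Subtype.val (hfix ⟨q, hq⟩))⟩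
  have h := hP.card_modEq_card_fixedPoints A
  rw [Nat.card_of_isEmpty (α := fixedPoints P A)] at h
  rw [← Nat.card_coe_set_eq]
  exact Nat.modEq_zero_iff_dvd.1 h

/-- An invariant set splits into fixed points and a multiple of `p` moved points. -/
theorem exists_ncard_eq_Fix_add {P : Subgroup G} (hP : IsPGroup p P) {U : Set α} [Finite α]
    (hinv : ∀ g ∈ P, ∀ y ∈ U, g • y ∈ U) :
    ∃ t : ℕ, U.ncard = (U ∩ Fix P).ncard + p * t := by
  obtain ⟨t, ht⟩ := dvd_ncard_diff_Fix hP hinv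
  exact ⟨t, by rw [← ht, Set.ncard_inter_add_ncard_diff_eq_ncard]⟩

theorem dvd_dev {P : Subgroup G} (hP : IsPGroup p P) {U : Set α} [Finite α]
    (hinv : ∀ g ∈ P, ∀ y ∈ U, g • y ∈ U) : (p : ℤ) ∣ dev p P U := by
  obtain ⟨t, ht⟩ := exists_ncard_eq_Fix_add hP hinv
  refine ⟨((p : ℤ) - 1) * t - (U ∩ Fix P).ncard, ?_⟩
  rw [dev, ht]
  push_cast
  ring

end PGroup

/-! ### Sylow subgroups of a subgroup -/

section SubSylow

variable [Finite G] [hp : Fact p.Prime] {K : Subgroup G}

theorem exists_mem_smul_eq {Q R : Sylow p G} (hQ : (Q : Subgroup G) ≤ K)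
    (hR : (R : Subgroup G) ≤ K) : ∃ k ∈ K, k • Q = R := by
  obtain ⟨k, hk⟩ := MulAction.exists_smul_eq K (Q.subtype hQ) (R.subtype hR)
  rw [Sylow.smul_subtype hQ] at hk
  exact ⟨k, k.2, Sylow.subtype_injective hk⟩

/-- The Sylow subgroup of `G` given by a Sylow subgroup of a subgroup. -/
noncomputable def upSylow (P' : Sylow p K) : Sylow p G :=
  (Sylow.exists_comap_subtype_eq P').choose

theorem map_subtype_eq {P₀ : Sylow p G} (h₀ : (P₀ : Subgroup G) ≤ K) (P' : Sylow p K) :
    ((upSylow P' : Sylow p G) : Subgroup G) ≤ K ∧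
      (P' : Subgroup K).map K.subtype = (upSylow P' : Sylow p G) := by
  obtain ⟨k, hk⟩ := MulAction.exists_smul_eq K (P₀.subtype h₀) P'
  rw [Sylow.smul_subtype h₀] at hk
  have hle : ((k • P₀ : Sylow p G) : Subgroup G) ≤ K := Sylow.smul_le h₀ k
  have hmap : (P' : Subgroup K).map K.subtype = ((k • P₀ : Sylow p G) : Subgroup G) := by
    rw [← hk, Sylow.coe_subtype]
    exact Subgroup.map_subgroupOf_eq_of_le hle
  have hspec : ((upSylow P' : Sylow p G) : Subgroup G).comap K.subtype = P' :=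
    (Sylow.exists_comap_subtype_eq P').choose_spec
  have hsub : (P' : Subgroup K).map K.subtype ≤ (upSylow P' : Sylow p G) := by
    rw [← hspec]
    exact Subgroup.map_comap_le _ _
  rw [hmap] at hsub
  have heq : upSylow P' = k • P₀ :=
    Sylow.ext ((k • P₀ : Sylow p G).3 (upSylow P').2 hsub)
  rw [heq]
  exact ⟨hle, hmap⟩

theorem upSylow_subtype {P : Sylow p G} (hP : (P : Subgroup G) ≤ K) :
    upSylow (P.subtype hP) = P := by
  refine Sylow.ext ?_
  rw [← (map_subtype_eq hP (P.subtype hP)).2, Sylow.coe_subtype,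
    Subgroup.map_subgroupOf_eq_of_le hP]

theorem upSylow_injective {P₀ : Sylow p G} (h₀ : (P₀ : Subgroup G) ≤ K) :
    Function.Injective (upSylow : Sylow p K → Sylow p G) := fun A B h => by
  refine Sylow.ext (Subgroup.map_injective K.subtype_injective ?_)
  rw [(map_subtype_eq h₀ A).2, (map_subtype_eq h₀ B).2, h]

theorem sylGen_gen {S : Set (Sylow p G)} : SylGen p (gen S) := by
  refine eq_top_iff.2 ?_
  intro x _
  have : gen S ≤ (gen (Set.univ : Set (Sylow p (gen S)))).map (gen S).subtype := by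
    refine gen_le.2 fun Q hQ => ?_
    rw [← Subgroup.map_subgroupOf_eq_of_le (le_gen hQ)]
    refine Subgroup.map_mono ?_
    exact (le_gen (Q := Q.subtype (le_gen hQ)) (Set.mem_univ _) :
      (Q.subtype (le_gen hQ) : Subgroup (gen S)) ≤ gen Set.univ)
  obtain ⟨y, hy, hyx⟩ := this x.2
  rwa [← Subgroup.subtype_injective _ hyx]

variable [Finite α]

/-- The number of fixed points in a `K`-orbit, against the number of Sylow subgroups fixing a
point of it. -/
theorem orbit_ratio {P : Sylow p G} (hP : (P : Subgroup G) ≤ K) (x : α) :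
    {Q : Sylow p G | (Q : Subgroup G) ≤ K}.ncard * (orbit K x ∩ Fix (P : Subgroup G)).ncard =
      (orbit K x).ncard * {Q : Sylow p G | (Q : Subgroup G) ≤ K ∧ Q ∈ sylFix p x}.ncard := by
  refine double_count (r := fun (Q : Sylow p G) (y : α) => Q ∈ sylFix p y) ?_ ?_
  · intro Q hQ
    obtain ⟨k, hk, rfl⟩ := exists_mem_smul_eq hP hQ
    rw [show {y ∈ orbit K x | (k • P : Sylow p G) ∈ sylFix p y} =
      orbit K x ∩ Fix ((k • P : Sylow p G) : Subgroup G) from rfl]
    conv_lhs => rw [show orbit K x = k • orbit K x from (smul_orbit (⟨k, hk⟩ : K) x).symm]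
    exact ncard_inter_Fix_smul k P _
  · rintro y ⟨⟨k, hk⟩, rfl⟩
    rw [← Set.ncard_smul_set k {Q : Sylow p G | (Q : Subgroup G) ≤ K ∧ Q ∈ sylFix p x}]
    congr 1
    ext Q
    rw [Set.mem_smul_set_iff_inv_smul_mem]
    simp only [Set.mem_setOf_eq, Subgroup.mk_smul]
    rw [← smul_sylFix, Set.mem_smul_set_iff_inv_smul_mem]
    constructor
    · rintro ⟨h1, h2⟩
      exact ⟨Sylow.smul_le h1 (⟨k⁻¹, inv_mem hk⟩ : K), h2⟩
    · rintro ⟨h1, h2⟩
      refine ⟨?_, h2⟩
      have := Sylow.smul_le h1 (⟨k, hk⟩ : K)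
      rwa [Subgroup.mk_smul, smul_inv_smul] at this

end SubSylow

/-- A Sylow subgroup normalising a nonempty set of Sylow subgroups given as those fixing a set
of points belongs to it. -/
theorem mem_of_normalizes [Finite G] [Fact p.Prime] {T : Set α} {S : Set (Sylow p G)}
    (hS : ∀ Q : Sylow p G, Q ∈ S ↔ ∀ x ∈ T, x ∈ Fix (Q : Subgroup G))
    (hne : S.Nonempty) {Q : Sylow p G} (hQ : (Q : Subgroup G) ≤ stabilizer G S) : Q ∈ S := by
  obtain ⟨R, hR⟩ := hne
  have h1 : ∀ g ∈ stabilizer G S, MulAut.conj g • gen S = gen S := fun g hg => by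
    rw [← gen_smul, mem_stabilizer_iff.1 hg]
  have h2 : (R : Subgroup G) ≤ stabilizer G S ⊔ gen S := (le_gen hR).trans le_sup_right
  obtain ⟨n, hn, rfl⟩ := exists_mem_smul_eq h2 (hQ.trans le_sup_left)
  have hN : stabilizer G S ⊔ gen S ≤ Subgroup.normalizer (gen S : Set G) := by
    refine sup_le (Subgroup.le_normalizer_iff.2 fun g hg y hy => ?_) Subgroup.le_normalizer
    rw [← h1 g hg]
    exact (Subgroup.mem_smul_pointwise_iff_exists _ _ _).2 ⟨y, hy, by simp [MulAut.conj_apply]⟩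
  have hle : ((n • R : Sylow p G) : Subgroup G) ≤ gen S := by
    rw [Sylow.coe_subgroup_smul]
    intro y hy
    obtain ⟨z, hz, rfl⟩ := (Subgroup.mem_smul_pointwise_iff_exists _ _ _).1 hy
    exact (Subgroup.mem_normalizer_iff.1 (hN hn) z).1 (le_gen hR hz)
  refine (hS _).2 fun x hx => hle.trans (gen_le.2 fun W hW => (hS W).1 hW x hx)

end CfsgLib.SylowFix
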