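import Cfsg.Agent.Lib.SylowFix.Basic

/-!
A pairwise balanced block design with a `p`-group fixing fewer than `p` points, moving the other `p`
transitively and moving at most `2p` blocks, has more than that many points on a block.
-/

set_option autoImplicit false

open scoped Pointwise
open MulAction

namespace CfsgLib.SylowFix

variable {G X : Type*} [Group G] [MulAction G X] [Finite X] {p : ℕ} [hp : Fact p.Prime]

theorem no_design (hp2 : p ≠ 2) {P : Subgroup G} (hP : IsPGroup p P) {Θ : Set X}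
    {ℬ : Set (Set X)} {k r lam : ℕ} (hsub : ∀ B ∈ ℬ, B ⊆ Θ)
    (hΘ : ∀ g ∈ P, ∀ θ ∈ Θ, g • θ ∈ Θ) (hPB : ∀ g ∈ P, ∀ B ∈ ℬ, g • B ∈ ℬ)
    (hM : (Θ \ Fix P).ncard = p)
    (htrans : ∀ z ∈ Θ \ Fix P, ∀ z' ∈ Θ \ Fix P, ∃ g ∈ P, g • z = z')
    (hF : (Θ ∩ Fix P).ncard < p) (hk : 1 ≤ k) (hkF : k ≤ (Θ ∩ Fix P).ncard)
    (hcard : ∀ B ∈ ℬ, B.ncard = k)
    (hpt : ∀ θ ∈ Θ, {B ∈ ℬ | θ ∈ B}.ncard = r)
    (hpair : ∀ θ ∈ Θ, ∀ θ' ∈ Θ, θ ≠ θ' → {B ∈ ℬ | θ ∈ B ∧ θ' ∈ B}.ncard = lam)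
    (hlam : 1 ≤ lam)
    (hmov : {B ∈ ℬ | B ∉ Fix P}.ncard ≤ 2 * p) : False := by
  set F := Θ ∩ Fix P with hFdef
  set M := Θ \ Fix P with hMdef
  set ℳ := {B ∈ ℬ | B ∉ Fix P} with hℳdef
  have hp3 : 3 ≤ p := by have := hp.out.two_le; omega
  have hgF : ∀ g ∈ P, ∀ θ ∈ F, g • θ = θ := fun g hg θ hθ => mem_Fix.1 hθ.2 g hg
  have hgM : ∀ g ∈ P, ∀ θ ∈ M, g • θ ∈ M := by
    rintro g hg θ ⟨hθ, hθn⟩
    refine ⟨hΘ g hg θ hθ, fun hc => hθn ?_⟩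
    have := mem_Fix.1 hc g⁻¹ (inv_mem hg)
    rw [inv_smul_smul] at this
    rwa [← this] at hc
  have hsplit : ∀ B ∈ ℬ, k = (B ∩ F).ncard + (B ∩ M).ncard := by
    intro B hB
    rw [← hcard B hB, ← Set.ncard_union_eq ?_]
    · congr 1
      rw [← Set.inter_union_distrib_left, hFdef, hMdef, Set.inter_union_sdiff,
        Set.inter_eq_left.2 (hsub B hB)]
    · rw [Set.disjoint_left]
      exact fun x hx hx' => hx'.2.2 hx.2.2
  have hmem : ∀ B ∈ ℬ, (B ∈ ℳ ↔ (B ∩ M).Nonempty) := by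
    intro B hB
    constructor
    · rintro ⟨-, hn⟩
      by_contra he
      refine hn (mem_Fix.2 fun g hg => ?_)
      have hall : ∀ θ ∈ B, g • θ = θ := fun θ hθ => hgF g hg θ
        ⟨hsub B hB hθ, by_contra fun h => he ⟨θ, hθ, hsub B hB hθ, h⟩⟩
      ext θ
      constructor
      · rintro ⟨θ', hθ', rfl⟩
        show g • θ' ∈ B
        rw [hall θ' hθ']
        exact hθ'
      · exact fun hθ => ⟨θ, hθ, hall θ hθ⟩
    · rintro ⟨z, hzB, hzM⟩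
      refine ⟨hB, fun hfix => ?_⟩
      have hMB : M ⊆ B ∩ M := fun z' hz' => by
        obtain ⟨g, hg, rfl⟩ := htrans z hzM z' hz'
        exact ⟨mem_Fix.1 hfix g hg ▸ Set.smul_mem_smul_set hzB, hz'⟩
      have := Set.ncard_le_ncard hMB
      have := hsplit B hB
      omega
  have hℳinv : ∀ g ∈ P, ∀ B ∈ ℳ, g • B ∈ ℳ := by
    intro g hg B hB
    rw [hmem _ (hPB g hg B hB.1)]
    obtain ⟨z, hzB, hzM⟩ := (hmem B hB.1).1 hB
    exact ⟨g • z, Set.smul_mem_smul_set hzB, hgM g hg z hzM⟩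
  have horb : ∀ B ∈ ℳ, orbit P B ⊆ ℳ ∧ (orbit P B).ncard = p := by
    intro B hB
    have h1 : orbit P B ⊆ ℳ := by rintro _ ⟨g, rfl⟩; exact hℳinv g g.2 B hB
    refine ⟨h1, ncard_orbit_eq hP hB.2 ?_⟩
    have := Set.ncard_le_ncard h1
    have : 3 * p ≤ p * p := Nat.mul_le_mul_right p hp3
    omega
  have hA : ∀ B, ∀ B' ∈ orbit P B, B' ∩ F = B ∩ F ∧ (B' ∩ M).ncard = (B ∩ M).ncard := by
    rintro B _ ⟨⟨g, hg⟩, rfl⟩
    constructor
    · ext θ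
      constructor
      · rintro ⟨⟨θ', hθ', rfl⟩, hθF⟩
        have h1 := hgF g⁻¹ (inv_mem hg) _ hθF
        change g⁻¹ • g • θ' = g • θ' at h1
        rw [inv_smul_smul] at h1
        refine ⟨?_, hθF⟩
        show g • θ' ∈ B
        rw [← h1]
        exact hθ'
      · rintro ⟨hθ, hθF⟩
        exact ⟨⟨θ, hθ, hgF g hg θ hθF⟩, hθF⟩
    · change (g • B ∩ M).ncard = (B ∩ M).ncard
      rw [← Set.ncard_smul_set g (B ∩ M), Set.smul_set_inter]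
      congr 2
      ext θ
      constructor
      · intro h
        exact ⟨g⁻¹ • θ, hgM _ (inv_mem hg) θ h, smul_inv_smul g θ⟩
      · rintro ⟨θ', h, rfl⟩
        exact hgM g hg θ' h
  have horbcount : ∀ B ∈ ℳ, ∀ z ∈ M,
      {B' ∈ orbit P B | z ∈ B'}.ncard = (B ∩ M).ncard := by
    intro B hB z hz
    have hconst : ∀ z' ∈ M, {B' ∈ orbit P B | z' ∈ B'}.ncard =
        {B' ∈ orbit P B | z ∈ B'}.ncard := by
      intro z' hz'
      obtain ⟨g, hg, rfl⟩ := htrans z hz z' hz'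
      rw [← Set.ncard_smul_set g {B' ∈ orbit P B | z ∈ B'}]
      congr 1
      ext B'
      rw [Set.mem_smul_set_iff_inv_smul_mem]
      constructor
      · rintro ⟨⟨l, hl⟩, hz''⟩
        refine ⟨⟨(⟨g⁻¹, inv_mem hg⟩ : P) * l, ?_⟩, Set.mem_smul_set_iff_inv_smul_mem.2 ?_⟩
        · rw [← hl]
          simp [Subgroup.smul_def, mul_smul]
        · rwa [inv_inv]
      · rintro ⟨⟨l, hl⟩, hz''⟩
        refine ⟨⟨(⟨g, hg⟩ : P) * l, ?_⟩, ?_⟩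
        · change (g * (l : G)) • B = B'
          rw [mul_smul]
          change g • (l • B) = B'
          rw [show l • B = g⁻¹ • B' from hl, smul_inv_smul]
        · rwa [Set.mem_smul_set_iff_inv_smul_mem, inv_inv] at hz''
    have := double_count (A := M) (B := orbit P B) (r := fun z B' => z ∈ B')
      (k := {B' ∈ orbit P B | z ∈ B'}.ncard) (l := (B ∩ M).ncard) hconst (fun B' hB' => by
        rw [← (hA B B' hB').2]
        congr 1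
        ext θ
        exact and_comm)
    rw [hM, (horb B hB).2] at this
    exact Nat.eq_of_mul_eq_mul_left hp.out.pos this
  have hex : ∀ y ∈ F, ∀ z ∈ M, ∃ B ∈ ℳ, y ∈ B ∧ z ∈ B := by
    intro y hy z hz
    have hne : y ≠ z := fun h => hz.2 (h ▸ hy.2)
    obtain ⟨B, hB, hyB, hzB⟩ := Set.nonempty_of_ncard_ne_zero
      (s := {B ∈ ℬ | y ∈ B ∧ z ∈ B}) (by rw [hpair y hy.1 z hz.1 hne]; omega)
    exact ⟨B, (hmem B hB).2 ⟨z, hzB, hz⟩, hyB, hzB⟩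
  obtain ⟨y₀, hy₀⟩ : F.Nonempty := Set.nonempty_of_ncard_ne_zero (by omega)
  obtain ⟨z₀, hz₀⟩ : M.Nonempty := Set.nonempty_of_ncard_ne_zero (by omega)
  obtain ⟨B₁, hB₁, -, -⟩ := hex y₀ hy₀ z₀ hz₀
  -- no moved block contains all fixed points
  have hnotall : ∀ B ∈ ℳ, ¬ F ⊆ B := by
    intro B hB hFB
    have h1 := hsplit B hB.1
    have h2 : 1 ≤ (B ∩ M).ncard := (Set.ncard_pos).2 ((hmem B hB.1).1 hB)
    rw [Set.inter_eq_right.2 hFB] at h1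
    omega
  have hinF : ∀ B B', B' ∈ orbit P B → ∀ y ∈ F, (y ∈ B' ↔ y ∈ B) := fun B B' h y hy =>
    ⟨fun hy' => ((Set.ext_iff.1 (hA B B' h).1 y).1 ⟨hy', hy⟩).1,
      fun hy' => ((Set.ext_iff.1 (hA B B' h).1 y).2 ⟨hy', hy⟩).1⟩
  by_cases hone : ℳ ⊆ orbit P B₁
  · refine hnotall B₁ hB₁ fun y hy => ?_
    obtain ⟨B, hB, hyB, -⟩ := hex y hy z₀ hz₀
    exact (hinF B₁ B (hone hB) y hy).1 hyB
  obtain ⟨B₂, hB₂, hB₂n⟩ := Set.not_subset.1 hone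
  have hdisj : Disjoint (orbit P B₁) (orbit P B₂) := by
    rw [Set.disjoint_left]
    intro B h1 h2
    exact hB₂n (orbit_eq_iff.2 h1 ▸ orbit_eq_iff.2 h2 ▸ mem_orbit_self B₂)
  have hunion : ℳ = orbit P B₁ ∪ orbit P B₂ := by
    refine (Set.eq_of_subset_of_ncard_le (Set.union_subset (horb B₁ hB₁).1 (horb B₂ hB₂).1) ?_).symm
    rw [Set.ncard_union_eq hdisj, (horb B₁ hB₁).2, (horb B₂ hB₂).2]
    omega
  set w₁ := (B₁ ∩ M).ncard with hw₁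
  set w₂ := (B₂ ∩ M).ncard with hw₂
  have hrz : ∀ z ∈ M, {B ∈ ℳ | z ∈ B}.ncard = r := by
    intro z hz
    rw [← hpt z hz.1]
    congr 1
    ext B
    exact ⟨fun h => ⟨h.1.1, h.2⟩, fun h => ⟨(hmem B h.1).2 ⟨z, h.2, hz⟩, h.2⟩⟩
  have hr : r = w₁ + w₂ := by
    rw [← hrz z₀ hz₀, hw₁, hw₂, ← horbcount B₁ hB₁ z₀ hz₀, ← horbcount B₂ hB₂ z₀ hz₀,
      ← Set.ncard_union_eq (hdisj.mono (Set.sep_subset _ _) (Set.sep_subset _ _))]
    congr 1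
    rw [hunion]
    ext B
    simp [or_and_right]
  have hk₁ := hsplit B₁ hB₁.1
  have hk₂ := hsplit B₂ hB₂.1
  -- the fixed parts of the two orbits partition `F`
  have hexcl : ∀ y ∈ F, ¬ (y ∈ B₁ ∧ y ∈ B₂) := by
    rintro y hy ⟨h1, h2⟩
    have hsub' : ℳ ⊆ {B ∈ ℬ | y ∈ B} := by
      intro B hB
      refine ⟨hB.1, ?_⟩
      rw [hunion] at hB
      rcases hB with hB | hB
      · exact (hinF B₁ B hB y hy).2 h1
      · exact (hinF B₂ B hB y hy).2 h2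
    have := Set.ncard_le_ncard hsub'
    rw [hpt y hy.1, hunion, Set.ncard_union_eq hdisj, (horb B₁ hB₁).2, (horb B₂ hB₂).2] at this
    omega
  have hcover : ∀ y ∈ F, y ∈ B₁ ∨ y ∈ B₂ := by
    intro y hy
    obtain ⟨B, hB, hyB, -⟩ := hex y hy z₀ hz₀
    rw [hunion] at hB
    rcases hB with hB | hB
    · exact Or.inl ((hinF B₁ B hB y hy).1 hyB)
    · exact Or.inr ((hinF B₂ B hB y hy).1 hyB)
  have hFsum : F.ncard = (B₁ ∩ F).ncard + (B₂ ∩ F).ncard := by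
    rw [← Set.ncard_union_eq ?_]
    · congr 1
      ext y
      exact ⟨fun hy => (hcover y hy).imp (⟨·, hy⟩) (⟨·, hy⟩), fun h => h.elim And.right And.right⟩
    · rw [Set.disjoint_left]
      exact fun y h1 h2 => hexcl y h1.2 ⟨h1.1, h2.1⟩
  -- pairs with one point fixed
  have hlamw : ∀ B B', B ∈ ℳ → B' ∈ ℳ → (∀ y ∈ F, ¬ (y ∈ B ∧ y ∈ B')) →
      ℳ = orbit P B ∪ orbit P B' → ∀ y ∈ B ∩ F, lam = (B ∩ M).ncard := by
    intro B B' hB hB' hex' hU y hy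
    have hne : y ≠ z₀ := fun h => hz₀.2 (h ▸ hy.2.2)
    rw [← hpair y hy.2.1 z₀ hz₀.1 hne, ← horbcount B hB z₀ hz₀]
    congr 1
    ext C
    constructor
    · rintro ⟨hC, hyC, hzC⟩
      have hCm : C ∈ ℳ := (hmem C hC).2 ⟨z₀, hzC, hz₀⟩
      rw [hU] at hCm
      rcases hCm with hCm | hCm
      · exact ⟨hCm, hzC⟩
      · exact absurd ⟨hy.1, (hinF B' C hCm y hy.2).1 hyC⟩ (hex' y hy.2)
    · rintro ⟨hC, hzC⟩
      exact ⟨((horb B hB).1 hC).1, (hinF B C hC y hy.2).2 hy.1, hzC⟩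
  have hne₁ : (B₁ ∩ F).Nonempty := by
    by_contra he
    exact hnotall B₂ hB₂ fun y hy => (hcover y hy).resolve_left fun h => he ⟨y, h, hy⟩
  have hne₂ : (B₂ ∩ F).Nonempty := by
    by_contra he
    exact hnotall B₁ hB₁ fun y hy => (hcover y hy).resolve_right fun h => he ⟨y, h, hy⟩
  obtain ⟨y₁, hy₁⟩ := hne₁
  obtain ⟨y₂, hy₂⟩ := hne₂
  have hl₁ : lam = w₁ := hlamw B₁ B₂ hB₁ hB₂ hexcl hunion y₁ hy₁
  have hl₂ : lam = w₂ := hlamw B₂ B₁ hB₂ hB₁ (fun y hy h => hexcl y hy ⟨h.2, h.1⟩)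
    (by rw [hunion, Set.union_comm]) y₂ hy₂
  -- pairs of moved points
  have hw : ∀ B ∈ ℳ, (B ∩ M).ncard = lam := by
    intro B hB
    rw [hunion] at hB
    rcases hB with hB | hB
    · rw [(hA B₁ B hB).2, ← hw₁, hl₁]
    · rw [(hA B₂ B hB).2, ← hw₂, hl₂]
  have hmm := double_count (A := M \ {z₀}) (B := {B ∈ ℳ | z₀ ∈ B}) (r := fun z B => z ∈ B)
    (k := lam) (l := lam - 1) (fun z hz => by
      rw [← hpair z hz.1.1 z₀ hz₀.1 hz.2]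
      congr 1
      ext B
      exact ⟨fun h => ⟨h.1.1.1, h.2, h.1.2⟩,
        fun h => ⟨⟨(hmem B h.1).2 ⟨z₀, h.2.2, hz₀⟩, h.2.2⟩, h.2.1⟩⟩) (fun B hB => by
      rw [← hw B hB.1, ← Set.ncard_sdiff_singleton_of_mem (s := B ∩ M) (a := z₀) ⟨hB.2, hz₀⟩]
      congr 1
      ext z
      exact ⟨fun h => ⟨⟨h.2, h.1.1⟩, h.1.2⟩, fun h => ⟨⟨h.1.2, h.2⟩, h.1.1⟩⟩)
  rw [Set.ncard_sdiff_singleton_of_mem hz₀, hM, hrz z₀ hz₀, hr, ← hl₁, ← hl₂] at hmm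
  have h3 : p - 1 = 2 * (lam - 1) := by
    have : (p - 1) * lam = 2 * (lam - 1) * lam := by rw [hmm]; ring
    exact Nat.eq_of_mul_eq_mul_right (by omega) this
  omega

end CfsgLib.SylowFix
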