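import Cfsg.Agent.Lib.SylowFix.Totals

/-!
Lines of two points: the graph of good pairs is complete, which forces the Sylow subgroups to
have a single moved orbit.
-/

set_option autoImplicit false

open scoped Pointwise
open MulAction

namespace CfsgLib.SylowFix

universe u v

variable {p : ℕ} {G : Type u} [Group G] {α : Type v} [MulAction G α] {m : ℕ}
  [Finite G] [hp : Fact p.Prime] [Finite α] (hS : Setting p G α)

include hS

theorem no_line_two {a b : α} (hab : Edge p G m 1 a b) : False := by
  have := hS.prim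
  set S := nb p G m 1 a b with hSdef
  have hm := hab.1.2.1.2.1
  rw [hab.2.1] at hm
  have huniq : ∀ w ∈ S, ∀ w' ∈ S, (lab p a w : Set (Sylow p G)) = lab p a w' → w = w' := by
    intro w hw w' hw' he
    exact (Set.ncard_le_one (Set.toFinite _)).1 (nb_class hS hab hw.2).le w ⟨hw, rfl⟩ w'
      ⟨hw', he.symm⟩
  have hadjS : ∀ w ∈ S, ∀ c ∈ S, Edge p G m 1 w c → c ∈ tri p G m 1 a w := fun w hw c hc he =>
    ⟨by rw [nb_eq_of_mem hw]; exact hc, he, fun h => he.1.1 (huniq c hc w hw h).symm⟩
  have hmove : ∀ w ∈ S, ∀ w' ∈ S, (tri p G m 1 a w).Nonempty → (tri p G m 1 a w').Nonempty := by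
    intro w hw w' hw' ht
    obtain ⟨g, hg, hgl⟩ := mem_Theta.1
      (show (lab p a w' : Set (Sylow p G)) ∈ Theta p G a w from
        (Theta_eq_of_mem hw.2).symm ▸ hw'.2)
    obtain rfl : g • w = w' := huniq _ (smul_mem_nb hg hw) _ hw' hgl
    exact (smul_tri_nonempty hS hg ⟨hw, ht⟩).2
  have hout : ∀ c, c ≠ a → c ∉ S → ∀ w ∈ S, Edge p G m 1 w c → ∀ w' ∈ S, Edge p G m 1 w' c := by
    intro c hca hcn w hw he w' hw'
    have hnot : (lab p a c : Set (Sylow p G)) ∉ Theta p G a b := fun hin =>
      hcn ⟨(closed hS hw.1 he hca (by rwa [Theta_eq_of_mem hw.2])).1, hin⟩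
    have h := hab.1.2.1.uniform hS hca hnot (fun u => {v | v ∈ S ∧ Edge p G m 1 v u})
      (fun g hg u v hv => ⟨smul_mem_nb hg hv.1, hv.2.smul g⟩) hw.2 hw'.2
    have hpos : 0 < {v ∈ {v | v ∈ S ∧ Edge p G m 1 v c} |
        (lab p a v : Set (Sylow p G)) = lab p a w}.ncard :=
      (Set.ncard_pos).2 ⟨w, ⟨hw, he⟩, rfl⟩
    rw [h] at hpos
    obtain ⟨v, ⟨hv, hve⟩, hvl⟩ := Set.nonempty_of_ncard_ne_zero hpos.ne'
    rwa [← huniq v hv w' hw' hvl]
  obtain ⟨w₁, hw₁, w₂, hw₂, hne⟩ := (Set.one_lt_ncard (Set.toFinite _)).1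
    (show 1 < S.ncard by rw [hSdef, ncard_nb hS hab]; have := hp.out.pos; omega)
  by_cases hall : (tri p G m 1 a b).Nonempty
  swap
  · -- no two neighbours are adjacent
    have hnone : ∀ w ∈ S, ∀ c ∈ S, ¬ Edge p G m 1 w c := fun w hw c hc he =>
      hall (hmove w hw b hab.right_mem_nb ⟨c, hadjS w hw c hc he⟩)
    have hsub : ∀ w ∈ S, ∀ w' ∈ S, ∀ c, Edge p G m 1 w c → Edge p G m 1 w' c := by
      intro w hw w' hw' c he
      rcases eq_or_ne c a with rfl | hca
      · exact hw'.1.symm hS
      by_cases hc : c ∈ S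
      · exact absurd he (hnone w hw c hc)
      · exact hout c hca hc w hw he w' hw'
    have hconst := eq_of_primitive (G := G) (fun x : α => {c | Edge p G m 1 x c}) (fun g x y h => by
        ext c
        have hh := Set.ext_iff.1 h (g⁻¹ • c)
        constructor
        · intro hc
          have := hc.smul g⁻¹
          rw [inv_smul_smul] at this
          have := (hh.1 this).smul g
          rwa [smul_inv_smul] at this
        · intro hc
          have := hc.smul g⁻¹
          rw [inv_smul_smul] at this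
          have := (hh.2 this).smul g
          rwa [smul_inv_smul] at this) hne
      (Set.ext fun c => ⟨hsub w₁ hw₁ w₂ hw₂ c, hsub w₂ hw₂ w₁ hw₁ c⟩)
    have h1 := (hconst a).trans (hconst b).symm
    exact ((Set.ext_iff.1 h1 b).1 hab).1.1 rfl
  · -- all neighbours are adjacent
    have hadj : ∀ w ∈ S, ∀ c ∈ S, c ≠ w → Edge p G m 1 w c := by
      intro w hw c hc hcw
      have ht := hmove b hab.right_mem_nb w hw hall
      have hsub : tri p G m 1 a w ⊆ S \ {w} := fun d hd =>
        ⟨by have := hd.1; rwa [nb_eq_of_mem hw] at this, fun h => hd.2.1.1.1 h.symm⟩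
      have he := Set.eq_of_subset_of_ncard_le hsub (by
        rw [Set.ncard_sdiff_singleton_of_mem hw, hSdef, ncard_nb hS hab,
          ncard_tri hS hw.1 ht, mul_one])
      exact (he.symm ▸ (⟨hc, hcw⟩ : c ∈ S \ {w}) : c ∈ tri p G m 1 a w).2.1
    have hsub : ∀ w ∈ S, ∀ w' ∈ S, ∀ c, (c = w ∨ Edge p G m 1 w c) →
        (c = w' ∨ Edge p G m 1 w' c) := by
      intro w hw w' hw' c h
      rcases eq_or_ne c w' with rfl | hcw'
      · exact Or.inl rfl
      refine Or.inr ?_
      rcases eq_or_ne c a with rfl | hca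
      · exact hw'.1.symm hS
      by_cases hc : c ∈ S
      · exact hadj w' hw' c hc hcw'
      rcases h with rfl | he
      · exact absurd hw hc
      · exact hout c hca hc w hw he w' hw'
    have hconst := eq_of_primitive (G := G) (fun x : α => {c | c = x ∨ Edge p G m 1 x c})
      (fun g x y h => by
        ext c
        have hh := Set.ext_iff.1 h (g⁻¹ • c)
        constructor
        · intro hc
          have : g⁻¹ • c = x ∨ Edge p G m 1 x (g⁻¹ • c) := by
            rcases hc with rfl | hc
            · exact Or.inl (inv_smul_smul g x)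
            · exact Or.inr (by have := hc.smul g⁻¹; rwa [inv_smul_smul] at this)
          rcases hh.1 this with h | h
          · exact Or.inl (inv_smul_eq_iff.1 h)
          · exact Or.inr (by have := h.smul g; rwa [smul_inv_smul] at this)
        · intro hc
          have : g⁻¹ • c = y ∨ Edge p G m 1 y (g⁻¹ • c) := by
            rcases hc with rfl | hc
            · exact Or.inl (inv_smul_smul g y)
            · exact Or.inr (by have := hc.smul g⁻¹; rwa [inv_smul_smul] at this)
          rcases hh.2 this with h | h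
          · exact Or.inl (inv_smul_eq_iff.1 h)
          · exact Or.inr (by have := h.smul g; rwa [smul_inv_smul] at this)) hne
      (Set.ext fun c => ⟨hsub w₁ hw₁ w₂ hw₂ c, hsub w₂ hw₂ w₁ hw₁ c⟩)
    have hcomplete : ∀ x y : α, x ≠ y → Edge p G m 1 x y := fun x y hxy => by
      have h1 := (hconst x).trans (hconst y).symm
      rcases (Set.ext_iff.1 h1 y).2 (Or.inl rfl) with h | h
      · exact absurd h.symm hxy
      · exact h
    have hS' : ∀ w, w ≠ a → w ∈ S := by
      intro w hwa
      by_contra hwS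
      have haw := hcomplete a w hwa.symm
      have hnot : (lab p a w : Set (Sylow p G)) ∉ Theta p G a b := fun hin => hwS ⟨haw, hin⟩
      obtain ⟨η, hη, hηne⟩ : ∃ η ∈ Theta p G a b, η ≠ lab p a b :=
        Set.exists_ne_of_one_lt_ncard (by rw [hab.2.1]; have := hp.out.pos; omega) _
      obtain ⟨g, hg, hgη⟩ := hab.1.2.1.outside_trans hS hwa haw.1.2.1.1 hnot
        (lab_mem_Theta a b) hη
      have hga := gen_mono (lab_subset_left a w) hg
      have hgw := gen_mono (lab_subset_right a w) hg
      have hb' := smul_mem_nb hga hab.right_mem_nb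
      have hbne : b ≠ g • b := fun h => hηne (by rw [← hgη, smul_smul_set_gen hga, ← h])
      have hbw : b ≠ w := fun h => hwS (h ▸ hab.right_mem_nb)
      have hb'w : g • b ≠ w := fun h => hwS (h ▸ hb')
      obtain ⟨-, h1, -⟩ := closed hS (hcomplete w b hbw.symm) (hcomplete b (g • b) hbne)
        hb'w (by rw [← smul_smul_set_gen hgw]; exact smul_mem_Theta hgw (lab_mem_Theta w b))
      obtain ⟨-, h2, -⟩ := closed hS hab (hcomplete b (g • b) hbne) hb'.1.1.1.symm hb'.2
      have h3 : (lab p b w : Set (Sylow p G)) ∈ Theta p G b a := by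
        rw [← Theta_eq_of_mem h2, Theta_eq_of_mem h1]
        exact lab_mem_Theta b w
      obtain ⟨-, h4, -⟩ := closed hS (hab.symm hS) haw hbw.symm h3
      exact hnot h4
    obtain ⟨P, hP⟩ := hab.1.2.1.1
    have huniv : (Set.univ : Set α) = insert a S := Set.ext fun w =>
      ⟨fun _ => (em (w = a)).imp id (hS' w), fun _ => trivial⟩
    have hn : Nat.card α = m + 1 := by
      rw [← Set.ncard_univ, huniv, Set.ncard_insert_of_notMem not_mem_nb_self,
        ncard_nb hS hab, mul_one]
    have hf : (Fix (α := α) (P : Subgroup G)).ncard = (m - p) + 1 := by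
      rw [← Set.univ_inter (Fix (P : Subgroup G)), huniv, Set.insert_inter_of_mem (show a ∈ Fix (P : Subgroup G) from hP.1),
        Set.ncard_insert_of_notMem (fun h => not_mem_nb_self h.1), hSdef,
        ncard_nb_fixed hS hab hP.1, mul_one]
    have := hS.two P
    have := hp.out.pos
    omega

end CfsgLib.SylowFix
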