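import Cfsg.Agent.Lib.SylowFix.Lines

/-!
The deficiency of a neighbourhood and of the points at distance two from its centre.
-/

set_option autoImplicit false

open scoped Pointwise
open MulAction

namespace CfsgLib.SylowFix

universe u v

variable (p : ℕ) (G : Type u) [Group G] {α : Type v} [MulAction G α]

/-- The middles between `a` and `c` in a given neighbourhood of `a`. -/
def mids (m s : ℕ) (a b c : α) : Set α := {w ∈ nb p G m s a b | Path p G m s a w c}

/-- The points at distance two from `a` outside a given neighbourhood. -/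
def far (m s : ℕ) (a b : α) : Set α :=
  {c | c ≠ a ∧ c ∉ nb p G m s a b ∧ (mids p G m s a b c).Nonempty}

/-- The number of middles in one class. -/
noncomputable def mult (m s : ℕ) (a b c : α) : ℕ :=
  {w ∈ mids p G m s a b c | (lab p a w : Set (Sylow p G)) = lab p a b}.ncard

variable {p G} {m s : ℕ}

theorem Path.smul {a b c : α} (h : Path p G m s a b c) (g : G) :
    Path p G m s (g • a) (g • b) (g • c) := by
  refine ⟨h.1.smul g, h.2.1.smul g, ?_⟩
  rw [Theta_smul, ← smul_lab]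
  exact ⟨_, h.2.2, rfl⟩

theorem smul_mem_mids {a b c w : α} {g : G} (hg : g ∈ gen (sylFix p a : Set (Sylow p G)))
    (h : w ∈ mids p G m s a b c) : g • w ∈ mids p G m s a b (g • c) := by
  refine ⟨smul_mem_nb hg h.1, ?_⟩
  have := h.2.smul g
  rwa [smul_eq_of_mem_gen (x := a) subset_rfl hg] at this

theorem smul_notMem_nb {a b c : α} {g : G} (hg : g ∈ gen (sylFix p a : Set (Sylow p G)))
    (h : c ∉ nb p G m s a b) : g • c ∉ nb p G m s a b := fun h' => h (by
  have := smul_mem_nb (inv_mem hg) h'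
  rwa [inv_smul_smul] at this)

theorem smul_mem_far {a b c : α} {g : G} (hg : g ∈ gen (sylFix p a : Set (Sylow p G)))
    (h : c ∈ far p G m s a b) : g • c ∈ far p G m s a b := by
  obtain ⟨h1, h2, w, hw⟩ := h
  exact ⟨fun he => h1 (smul_left_cancel g
    (he.trans (smul_eq_of_mem_gen subset_rfl hg).symm)), smul_notMem_nb hg h2,
    g • w, smul_mem_mids hg hw⟩

variable [Finite G] [hp : Fact p.Prime] [Finite α] (hS : Setting p G α)

include hS

theorem lab_far_notMem {a b c : α} (hc : c ∈ far p G m s a b) :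
    (lab p a c : Set (Sylow p G)) ∉ Theta p G a b := by
  intro hin
  obtain ⟨hca, hcn, w, hw⟩ := hc
  refine hcn ⟨?_, hin⟩
  exact (closed hS hw.2.1 hw.2.2.1 hca (by rwa [Theta_eq_of_mem hw.1.2])).1

theorem class_mids {a b : α} (hab : Edge p G m s a b) {c : α} (hc : c ∈ far p G m s a b)
    {θ : Set (Sylow p G)} (hθ : θ ∈ Theta p G a b) :
    {w ∈ mids p G m s a b c | (lab p a w : Set (Sylow p G)) = θ}.ncard = mult p G m s a b c :=
  hab.1.2.1.uniform hS hc.1 (lab_far_notMem hS hc) (fun u => mids p G m s a b u)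
    (fun _ hg _ _ hw => smul_mem_mids hg hw) hθ (lab_mem_Theta a b)

theorem ncard_mids_sep {a b : α} (hab : Edge p G m s a b) {c : α} (hc : c ∈ far p G m s a b)
    {B : Set (Set (Sylow p G))} (hB : B ⊆ Theta p G a b) :
    {w ∈ mids p G m s a b c | (lab p a w : Set (Sylow p G)) ∈ B}.ncard =
      B.ncard * mult p G m s a b c := by
  have h := double_count
    (A := {w ∈ mids p G m s a b c | (lab p a w : Set (Sylow p G)) ∈ B})
    (B := B) (r := fun w θ => lab p a w = θ) (k := 1) (l := mult p G m s a b c) (fun w hw => by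
      rw [Set.ncard_eq_one]
      exact ⟨lab p a w, Set.ext fun θ => ⟨fun h => h.2.symm, fun h => by
        rw [Set.mem_singleton_iff] at h; subst h; exact ⟨hw.2, rfl⟩⟩⟩) (fun θ hθ => by
      refine Eq.trans ?_ (class_mids hS hab hc (hB hθ))
      congr 1
      ext w
      exact ⟨fun h => ⟨h.1.1, h.2⟩, fun h => ⟨⟨h.1, h.2 ▸ hθ⟩, h.2⟩⟩)
  rw [mul_one] at h
  exact h

theorem one_le_mult {a b : α} (hab : Edge p G m s a b) {c : α} (hc : c ∈ far p G m s a b) :
    1 ≤ mult p G m s a b c := by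
  obtain ⟨w, hw⟩ := hc.2.2
  rw [← class_mids hS hab hc hw.1.2]
  exact (Set.ncard_pos).2 ⟨w, hw, rfl⟩

theorem tri_of_mult {a b c : α} (hc : c ∈ far p G m s a b)
    (h : 2 ≤ mult p G m s a b c) : ∃ x y : α, Edge p G m s x y ∧ (tri p G m s x y).Nonempty := by
  obtain ⟨w, hw, w', hw', hne⟩ := (Set.one_lt_ncard (Set.toFinite _)).1 h
  have ht := two_mid_tri hS hw.1.1 hw'.1.1 (hw.2.trans hw'.2.symm) hne hw.1.2 hw'.1.2 hc.2.1 hc.1
  refine ⟨w, w', ?_, c, ht⟩
  have hl : w' ∈ line p G a w :=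
    Or.inr ⟨hw'.1.1.1.1.1.symm, hw'.2.trans hw.2.symm, hw'.1.1.1.1.2.2⟩
  exact (hw.1.1.1.on_line hS hw.1.1.1.1.right_mem_line hl hne).1

theorem mult_le_two {a b c : α} (hc : c ∈ far p G m s a b) :
    mult p G m s a b c ≤ 2 := by
  by_contra h
  obtain ⟨w, w', w'', hw, hw', hw'', h1, h2, h3⟩ :=
    (Set.two_lt_ncard_iff (Set.toFinite _)).1 (not_le.1 h)
  have key : ∀ v, v ∈ mids p G m s a b c → (lab p a v : Set (Sylow p G)) = lab p a b → w ≠ v →
      v ∈ tri p G m s w c ∧ (lab p w v : Set (Sylow p G)) = lab p a w := by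
    intro v hv hvl hne
    have ht := two_mid_tri hS hw.1.1 hv.1 (hw.2.trans hvl.symm) hne hw.1.2 hv.2 hc.2.1 hc.1
    have hl : v ∈ line p G a w := Or.inr ⟨hv.1.1.1.1.symm, hvl.trans hw.2.symm, hv.1.1.1.2.2⟩
    obtain ⟨he, hlab, -⟩ := hw.1.1.1.on_line hS hw.1.1.1.1.right_mem_line hl hne
    refine ⟨⟨⟨he, ?_⟩, ht.2.1.symm hS, fun he' => ht.2.2 he'.symm⟩, hlab⟩
    rw [Theta_eq_of_mem ht.1.2]
    exact lab_mem_Theta w v
  obtain ⟨t', l'⟩ := key w' hw'.1 hw'.2 h1
  obtain ⟨t'', l''⟩ := key w'' hw''.1 hw''.2 h2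
  exact h3 (tri_unique hS hw.1.2.2.1 t' t'' (l'.trans l''.symm))

/-- The neighbours with a triangle on the pair. -/
theorem smul_tri_nonempty {a b w : α} {g : G} (hg : g ∈ gen (sylFix p a : Set (Sylow p G)))
    (h : w ∈ nb p G m s a b ∧ (tri p G m s a w).Nonempty) :
    g • w ∈ nb p G m s a b ∧ (tri p G m s a (g • w)).Nonempty := by
  obtain ⟨hw, d, hd⟩ := h
  have hga : g • a = a := smul_eq_of_mem_gen subset_rfl hg
  refine ⟨smul_mem_nb hg hw, g • d, ?_, ?_, ?_⟩
  · rw [nb_eq_of_mem (smul_mem_nb hg hw)]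
    have h := hd.1
    rw [nb_eq_of_mem hw] at h
    exact smul_mem_nb hg h
  · exact hd.2.1.smul g
  · intro he
    rw [← smul_smul_set_gen hg, ← smul_smul_set_gen hg] at he
    exact hd.2.2 (smul_left_cancel g he)

theorem class_nbT {a b : α} {θ : Set (Sylow p G)} (hθ : θ ∈ Theta p G a b) :
    {w ∈ {w ∈ nb p G m s a b | (tri p G m s a w).Nonempty} |
      (lab p a w : Set (Sylow p G)) = θ}.ncard =
    {w ∈ {w ∈ nb p G m s a b | (tri p G m s a w).Nonempty} |
      (lab p a w : Set (Sylow p G)) = lab p a b}.ncard := by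
  obtain ⟨⟨g, hg⟩, rfl⟩ := hθ
  rw [← Set.ncard_smul_set g {w ∈ {w ∈ nb p G m s a b | (tri p G m s a w).Nonempty} |
      (lab p a w : Set (Sylow p G)) = lab p a b}]
  congr 1
  ext w
  rw [Set.mem_smul_set_iff_inv_smul_mem]
  constructor
  · rintro ⟨h1, h2⟩
    refine ⟨smul_tri_nonempty hS (inv_mem hg) h1, ?_⟩
    rw [← smul_smul_set_gen (inv_mem hg), h2]
    exact inv_smul_smul g _
  · rintro ⟨h1, h2⟩
    have h1' := smul_tri_nonempty hS hg h1
    rw [smul_inv_smul] at h1'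
    refine ⟨h1', ?_⟩
    rw [← smul_smul_set_gen (inv_mem hg)] at h2
    exact inv_smul_eq_iff.1 h2

theorem ncard_nbT_sep {a b : α} {B : Set (Set (Sylow p G))} (hB : B ⊆ Theta p G a b) :
    {w ∈ {w ∈ nb p G m s a b | (tri p G m s a w).Nonempty} |
      (lab p a w : Set (Sylow p G)) ∈ B}.ncard =
    B.ncard * {w ∈ {w ∈ nb p G m s a b | (tri p G m s a w).Nonempty} |
      (lab p a w : Set (Sylow p G)) = lab p a b}.ncard := by
  set N := {w ∈ nb p G m s a b | (tri p G m s a w).Nonempty} with hN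
  set σ := {w ∈ N | (lab p a w : Set (Sylow p G)) = lab p a b}.ncard with hσ
  have h := double_count (A := {w ∈ N | (lab p a w : Set (Sylow p G)) ∈ B})
    (B := B) (r := fun w θ => lab p a w = θ) (k := 1) (l := σ) (fun w hw => by
      rw [Set.ncard_eq_one]
      exact ⟨lab p a w, Set.ext fun θ => ⟨fun h => h.2.symm, fun h => by
        rw [Set.mem_singleton_iff] at h; subst h; exact ⟨hw.2, rfl⟩⟩⟩) (fun θ hθ => by
      refine Eq.trans ?_ (class_nbT hS (hB hθ))
      congr 1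
      ext w
      exact ⟨fun h => ⟨h.1.1, h.2⟩, fun h => ⟨⟨h.1, h.2 ▸ hθ⟩, h.2⟩⟩)
  rw [mul_one] at h
  exact h

theorem path_lab_ne {a b w c : α} (hw : w ∈ nb p G m s a b) (hca : c ≠ a)
    (hcn : c ∉ nb p G m s a b) (hP : Path p G m s a w c) :
    (lab p w c : Set (Sylow p G)) ≠ lab p w a := fun he => hcn (by
  have hl : c ∈ line p G w a := Or.inr ⟨hP.2.1.1.1.symm, he, hP.2.1.1.2.2⟩
  rw [hw.1.line_symm hS] at hl
  have := nb_eq_of_line hS hw.1 hl hca
  rwa [nb_eq_of_mem hw] at this)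

theorem mem_tri_of_path {a b w c : α} (hw : w ∈ nb p G m s a b) (hcn : c ∈ nb p G m s a b)
    (hP : Path p G m s a w c) (hne : (lab p w c : Set (Sylow p G)) ≠ lab p w a) :
    c ∈ tri p G m s a w := by
  refine ⟨by rwa [nb_eq_of_mem hw], hP.2.1, fun he => hne ?_⟩
  have hl : c ∈ line p G a w := Or.inr ⟨hcn.1.1.1.symm, he, hcn.1.1.2.2⟩
  rw [(hw.1.on_line hS hw.1.1.right_mem_line hl hP.2.1.1.1).2.1, lab_comm]

theorem out_eq {a b w : α} (hw : w ∈ nb p G m s a b) :
    {c | c ≠ a ∧ c ∉ nb p G m s a b ∧ Path p G m s a w c} =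
      {c ∈ nb p G m s w a | (lab p w c : Set (Sylow p G)) ∈
        Theta p G w a \ {(lab p w a : Set (Sylow p G))}} \ tri p G m s a w := by
  ext c
  constructor
  · rintro ⟨hca, hcn, hP⟩
    refine ⟨⟨⟨hP.2.1, hP.2.2⟩, hP.2.2, path_lab_ne hS hw hca hcn hP⟩, fun ht => hcn ?_⟩
    rw [← nb_eq_of_mem hw]
    exact ht.1
  · rintro ⟨⟨hc, -, hne⟩, hnt⟩
    have hP : Path p G m s a w c := ⟨hw.1, hc.1, hc.2⟩
    refine ⟨fun he => hne (by rw [Set.mem_singleton_iff, he]), fun hcn => hnt ?_, hP⟩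
    exact mem_tri_of_path hS hw hcn hP hne

theorem tri_subset_out {a b w : α} (hw : w ∈ nb p G m s a b) :
    tri p G m s a w ⊆ {c ∈ nb p G m s w a | (lab p w c : Set (Sylow p G)) ∈
      Theta p G w a \ {(lab p w a : Set (Sylow p G))}} := by
  intro c hc
  obtain ⟨h1, -, h3⟩ := tri_symm hS hw.1 hc
  exact ⟨h1, h1.2, h3⟩

/-- The two sums of multiplicities, and the deficiencies. -/
theorem far_counts {a b : α} (hab : Edge p G m s a b) {P : Sylow p G} (hP : P ∈ sylFix p a)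
    (σ : ℕ) (hσ : σ = {w ∈ {w ∈ nb p G m s a b | (tri p G m s a w).Nonempty} |
      (lab p a w : Set (Sylow p G)) = lab p a b}.ncard) :
    σ ≤ s ∧
    ({c ∈ far p G m s a b | mult p G m s a b c = 1}.ncard +
      2 * {c ∈ far p G m s a b | mult p G m s a b c = 2}.ncard + σ * (m - 1)
        = (m - 1) * (s * s)) ∧
    ((({c ∈ far p G m s a b | mult p G m s a b c = 1} ∩ Fix (P : Subgroup G)).ncard) +
      2 * ({c ∈ far p G m s a b | mult p G m s a b c = 2} ∩ Fix (P : Subgroup G)).ncard +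
        σ * (m - p - 1) = (m - p - 1) * (s * s)) ∧
    (({c ∈ far p G m s a b | mult p G m s a b c = 1} ∩ Fix (P : Subgroup G)).ncard +
      2 * ({c ∈ far p G m s a b | mult p G m s a b c = 2} ∩ Fix (P : Subgroup G)).ncard +
        (m - p) * σ ≤ s * (m - 1)) := by
  set T₁ := {c ∈ far p G m s a b | mult p G m s a b c = 1} with hT₁
  set T₂ := {c ∈ far p G m s a b | mult p G m s a b c = 2} with hT₂
  set N := nb p G m s a b with hN
  set NT := {w ∈ N | (tri p G m s a w).Nonempty} with hNT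
  have hd12 : Disjoint T₁ T₂ := Set.disjoint_left.2 fun c h1 h2 => by
    have := h1.2.symm.trans h2.2; omega
  have hfar : far p G m s a b = T₁ ∪ T₂ := by
    ext c
    refine ⟨fun hc => ?_, fun h => h.elim And.left And.left⟩
    rcases Nat.lt_or_ge (mult p G m s a b c) 2 with h | h
    · exact Or.inl ⟨hc, by have := one_le_mult hS hab hc; omega⟩
    · exact Or.inr ⟨hc, by have := mult_le_two hS hc; omega⟩
  set rel : α → α → Prop :=
    fun w c => c ≠ a ∧ c ∉ N ∧ Path p G m s a w c with hrel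
  have hfix := hab.1.2.1.fixed_add hP
  rw [hab.2.1] at hfix
  have hmp : m - p = (Theta p G a b ∩ Fix (P : Subgroup G)).ncard := by omega
  have hm2 := hab.1.2.1.2.1
  rw [hab.2.1] at hm2
  -- each class
  have hσs : σ ≤ s := by
    rw [hσ, ← nb_class hS hab (lab_mem_Theta a b)]
    exact Set.ncard_le_ncard fun w hw => ⟨hw.1.1, hw.2⟩
  have hNTc : NT.ncard = m * σ := by
    rw [← hab.2.1, hσ, ← ncard_nbT_sep hS (B := Theta p G a b) subset_rfl]
    congr 1
    ext w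
    exact ⟨fun h => ⟨h, h.1.2⟩, And.left⟩
  have hNTf : (NT ∩ Fix (P : Subgroup G)).ncard = (m - p) * σ := by
    rw [hmp, hσ, ← ncard_nbT_sep hS (B := Theta p G a b ∩ Fix (P : Subgroup G))
      Set.inter_subset_left]
    congr 1
    ext w
    exact ⟨fun h => ⟨h.1, h.1.1.2, (nb_fixed_iff hS hab h.1.1 hP).1 h.2⟩,
      fun h => ⟨h.1, (nb_fixed_iff hS hab h.1.1 hP).2 h.2.2⟩⟩
  -- endpoints of a middle
  have hout : ∀ w ∈ N, {c ∈ far p G m s a b | rel w c} =
      {c ∈ nb p G m s w a | (lab p w c : Set (Sylow p G)) ∈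
        Theta p G w a \ {(lab p w a : Set (Sylow p G))}} \ tri p G m s a w := by
    intro w hw
    rw [← out_eq hS hw]
    ext c
    exact ⟨And.right, fun h => ⟨⟨h.1, h.2.1, w, hw, h.2.2⟩, h⟩⟩
  have hall : ∀ w ∈ N, {c ∈ nb p G m s w a | (lab p w c : Set (Sylow p G)) ∈
      Theta p G w a \ {(lab p w a : Set (Sylow p G))}}.ncard = (m - 1) * s := by
    intro w hw
    rw [ncard_nb_sep hS (hw.1.symm hS) Set.sdiff_subset,
      Set.ncard_sdiff_singleton_of_mem (lab_mem_Theta w a), (hw.1.symm hS).2.1]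
  have hcT : ∀ w ∈ NT, {c ∈ far p G m s a b | rel w c}.ncard = (m - 1) * (s - 1) := by
    intro w hw
    rw [hout w hw.1, Set.ncard_sdiff (tri_subset_out hS hw.1), hall w hw.1,
      ncard_tri hS hw.1.1 hw.2, Nat.mul_sub, mul_one]
  have hcN : ∀ w ∈ N \ NT, {c ∈ far p G m s a b | rel w c}.ncard = (m - 1) * s := by
    intro w hw
    have he : tri p G m s a w = ∅ :=
      Set.not_nonempty_iff_eq_empty.1 fun h => hw.2 ⟨hw.1, h⟩
    rw [hout w hw.1, he, Set.sdiff_empty, hall w hw.1]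
  have hrel' : ∀ c ∈ far p G m s a b, {w ∈ N | rel w c} = mids p G m s a b c := fun c hc =>
    Set.ext fun w => ⟨fun h => ⟨h.1, h.2.2.2⟩, fun h => ⟨h.1, hc.1, hc.2.1, h.2⟩⟩
  have hcmid : ∀ k, ∀ c ∈ far p G m s a b, mult p G m s a b c = k →
      {w ∈ N | rel w c}.ncard = m * k := by
    intro k c hc hk
    rw [hrel' c hc, ← hk]
    refine Eq.trans ?_ ((ncard_mids_sep hS hab hc (B := Theta p G a b) subset_rfl).trans
      (by rw [hab.2.1]))
    congr 1
    ext w
    exact ⟨fun h => ⟨h, h.1.2⟩, And.left⟩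
  have e1 : N.ncard = m * s := ncard_nb hS hab
  have hNsub : NT ⊆ N := fun w h => h.1
  have eq1 : T₁.ncard + 2 * T₂.ncard + σ * (m - 1) = (m - 1) * (s * s) := by
    have hl : (inc N (far p G m s a b) rel).ncard =
        NT.ncard * ((m - 1) * (s - 1)) + (N \ NT).ncard * ((m - 1) * s) := by
      conv_lhs => rw [← Set.union_diff_cancel hNsub]
      rw [ncard_inc_union Set.disjoint_sdiff_right, ncard_inc_left hcT, ncard_inc_left hcN]
    have hr : (inc N (far p G m s a b) rel).ncard = T₁.ncard * (m * 1) + T₂.ncard * (m * 2) := by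
      rw [ncard_inc_swap, hfar, ncard_inc_union hd12,
        ncard_inc_left (k := m * 1) (fun c hc => hcmid 1 c hc.1 hc.2),
        ncard_inc_left (k := m * 2) (fun c hc => hcmid 2 c hc.1 hc.2)]
    rw [hl, Set.ncard_sdiff hNsub, hNTc, e1] at hr
    obtain ⟨d, rfl⟩ := Nat.exists_eq_add_of_le hσs
    have hs' : σ * (σ + d - 1) + σ = σ * (σ + d) := by
      rcases Nat.eq_zero_or_pos σ with h | h
      · simp [h]
      · rw [← Nat.mul_succ]; congr 1; omega
    refine Nat.eq_of_mul_eq_mul_left (show 0 < m by omega) ?_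
    rw [show m * (σ + d) - m * σ = m * d by rw [mul_add]; omega] at hr
    linear_combination -hr + m * (m - 1) * hs'
  -- fixed endpoints of fixed middles
  have hPfix : ∀ w ∈ N, w ∈ Fix (P : Subgroup G) → P ∈ lab p w a := fun w _ h => ⟨h, hP⟩
  have hallf : ∀ w ∈ N ∩ Fix (P : Subgroup G), {c ∈ nb p G m s w a ∩ Fix (P : Subgroup G) |
      (lab p w c : Set (Sylow p G)) ∈ Theta p G w a \ {(lab p w a : Set (Sylow p G))}}.ncard =
        (m - p - 1) * s := by
    intro w hw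
    have hwa := hw.1.1.symm hS
    have hPw : P ∈ lab p w a := hPfix w hw.1 hw.2
    have hfw := hwa.1.2.1.fixed_add hPw.1
    rw [hwa.2.1] at hfw
    have hmem : (lab p w a : Set (Sylow p G)) ∈ Theta p G w a ∩ Fix (P : Subgroup G) :=
      ⟨lab_mem_Theta w a, (hwa.1.2.1.fix_iff (lab_mem_Theta w a)).2 hPw⟩
    rw [show m - p - 1 = (Theta p G w a ∩ Fix (P : Subgroup G)).ncard - 1 by omega,
      ← Set.ncard_sdiff_singleton_of_mem hmem,
      ← ncard_nb_sep hS hwa (fun x hx => hx.1.1)]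
    congr 1
    ext c
    exact ⟨fun h => ⟨h.1.1, ⟨h.2.1, (nb_fixed_iff hS hwa h.1.1 hPw.1).1 h.1.2⟩, h.2.2⟩,
      fun h => ⟨⟨h.1, (nb_fixed_iff hS hwa h.1 hPw.1).2 h.2.1.2⟩, h.2.1.1, h.2.2⟩⟩
  have houtf : ∀ w ∈ N, {c ∈ far p G m s a b ∩ Fix (P : Subgroup G) | rel w c} =
      {c ∈ nb p G m s w a ∩ Fix (P : Subgroup G) | (lab p w c : Set (Sylow p G)) ∈
        Theta p G w a \ {(lab p w a : Set (Sylow p G))}} \
        (tri p G m s a w ∩ Fix (P : Subgroup G)) := by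
    intro w hw
    have h1 := hout w hw
    ext c
    have h2 := Set.ext_iff.1 h1 c
    constructor
    · rintro ⟨⟨h, hf⟩, hr⟩
      obtain ⟨⟨h3, h4⟩, h5⟩ := h2.1 ⟨h, hr⟩
      exact ⟨⟨⟨h3, hf⟩, h4⟩, fun h6 => h5 h6.1⟩
    · rintro ⟨⟨⟨h3, hf⟩, h4⟩, h5⟩
      obtain ⟨h6, h7⟩ := h2.2 ⟨⟨h3, h4⟩, fun h => h5 ⟨h, hf⟩⟩
      exact ⟨⟨h6, hf⟩, h7⟩
  have hcTf : ∀ w ∈ NT ∩ Fix (P : Subgroup G),
      {c ∈ far p G m s a b ∩ Fix (P : Subgroup G) | rel w c}.ncard = (m - p - 1) * (s - 1) := by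
    intro w hw
    have hsub : tri p G m s a w ∩ Fix (P : Subgroup G) ⊆
        {c ∈ nb p G m s w a ∩ Fix (P : Subgroup G) | (lab p w c : Set (Sylow p G)) ∈
          Theta p G w a \ {(lab p w a : Set (Sylow p G))}} := fun c hc =>
      ⟨⟨(tri_subset_out hS hw.1.1 hc.1).1, hc.2⟩, (tri_subset_out hS hw.1.1 hc.1).2⟩
    rw [houtf w hw.1.1, Set.ncard_sdiff hsub,
      hallf w ⟨hw.1.1, hw.2⟩, ncard_tri_fixed hS hw.1.1.1 hw.1.2 (P := P) ⟨hP, hw.2⟩,
      Nat.mul_sub, mul_one]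
  have hcNf : ∀ w ∈ (N ∩ Fix (P : Subgroup G)) \ (NT ∩ Fix (P : Subgroup G)),
      {c ∈ far p G m s a b ∩ Fix (P : Subgroup G) | rel w c}.ncard = (m - p - 1) * s := by
    intro w hw
    have he : tri p G m s a w = ∅ :=
      Set.not_nonempty_iff_eq_empty.1 fun h => hw.2 ⟨⟨hw.1.1, h⟩, hw.1.2⟩
    rw [houtf w hw.1.1, he, Set.empty_inter, Set.sdiff_empty, hallf w hw.1]
  have hfarf : far p G m s a b ∩ Fix (P : Subgroup G) =
      (T₁ ∩ Fix (P : Subgroup G)) ∪ (T₂ ∩ Fix (P : Subgroup G)) := by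
    rw [hfar, Set.union_inter_distrib_right]
  have hdf : Disjoint (T₁ ∩ Fix (P : Subgroup G)) (T₂ ∩ Fix (P : Subgroup G)) :=
    hd12.mono Set.inter_subset_left Set.inter_subset_left
  have hcmidf : ∀ k, ∀ c ∈ far p G m s a b, c ∈ Fix (P : Subgroup G) →
      mult p G m s a b c = k → {w ∈ N ∩ Fix (P : Subgroup G) | rel w c}.ncard = (m - p) * k := by
    intro k c hc _ hk
    rw [hmp, ← hk, ← ncard_mids_sep hS hab hc
      (B := Theta p G a b ∩ Fix (P : Subgroup G)) Set.inter_subset_left]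
    congr 1
    ext w
    exact ⟨fun h => ⟨⟨h.1.1, h.2.2.2⟩, h.1.1.2, (nb_fixed_iff hS hab h.1.1 hP).1 h.1.2⟩,
      fun h => ⟨⟨h.1.1, (nb_fixed_iff hS hab h.1.1 hP).2 h.2.2⟩, hc.1, hc.2.1, h.1.2⟩⟩
  have e1f : (N ∩ Fix (P : Subgroup G)).ncard = (m - p) * s := ncard_nb_fixed hS hab hP
  have hNTsubf : NT ∩ Fix (P : Subgroup G) ⊆ N ∩ Fix (P : Subgroup G) :=
    fun w h => ⟨h.1.1, h.2⟩
  have eq2 : (T₁ ∩ Fix (P : Subgroup G)).ncard + 2 * (T₂ ∩ Fix (P : Subgroup G)).ncard +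
      σ * (m - p - 1) = (m - p - 1) * (s * s) := by
    have hl : (inc (N ∩ Fix (P : Subgroup G))
        (far p G m s a b ∩ Fix (P : Subgroup G)) rel).ncard =
        (NT ∩ Fix (P : Subgroup G)).ncard * ((m - p - 1) * (s - 1)) +
          ((N ∩ Fix (P : Subgroup G)) \ (NT ∩ Fix (P : Subgroup G))).ncard *
            ((m - p - 1) * s) := by
      conv_lhs => rw [← Set.union_diff_cancel hNTsubf]
      rw [ncard_inc_union Set.disjoint_sdiff_right, ncard_inc_left hcTf, ncard_inc_left hcNf]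
    have hr : (inc (N ∩ Fix (P : Subgroup G))
        (far p G m s a b ∩ Fix (P : Subgroup G)) rel).ncard =
        (T₁ ∩ Fix (P : Subgroup G)).ncard * ((m - p) * 1) +
          (T₂ ∩ Fix (P : Subgroup G)).ncard * ((m - p) * 2) := by
      rw [ncard_inc_swap, hfarf, ncard_inc_union hdf,
        ncard_inc_left (k := (m - p) * 1) (fun c hc => hcmidf 1 c hc.1.1 hc.2 hc.1.2),
        ncard_inc_left (k := (m - p) * 2) (fun c hc => hcmidf 2 c hc.1.1 hc.2 hc.1.2)]
    rw [hl, Set.ncard_sdiff hNTsubf, hNTf, e1f] at hr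
    obtain ⟨d, rfl⟩ := Nat.exists_eq_add_of_le hσs
    have hs' : σ * (σ + d - 1) + σ = σ * (σ + d) := by
      rcases Nat.eq_zero_or_pos σ with h | h
      · simp [h]
      · rw [← Nat.mul_succ]; congr 1; omega
    refine Nat.eq_of_mul_eq_mul_left (show 0 < m - p by omega) ?_
    rw [show (m - p) * (σ + d) - (m - p) * σ = (m - p) * d by rw [mul_add]; omega] at hr
    linear_combination -hr + (m - p) * (m - p - 1) * hs'
  refine ⟨hσs, eq1, eq2, ?_⟩
  -- moved middles of fixed endpoints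
  set M := N \ Fix (P : Subgroup G) with hM
  have hMc : M.ncard = p * s := by
    have h := Set.ncard_inter_add_ncard_sdiff_eq_ncard N (Fix (P : Subgroup G))
    rw [e1f, e1, ← hM] at h
    rw [show m * s = (m - p) * s + p * s by rw [← Nat.add_mul]; congr 1; omega] at h
    omega
  set rel2 : α → α → Prop :=
    fun z c => Path p G m s a z c ∧ (lab p z c : Set (Sylow p G)) ≠ lab p z a with hrel2
  set C := T₁ ∩ Fix (P : Subgroup G) ∪ T₂ ∩ Fix (P : Subgroup G) ∪
    NT ∩ Fix (P : Subgroup G) with hC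
  have hup : (inc M C rel2).ncard ≤ M.ncard * (m - 1) := by
    refine ncard_inc_le fun z hz => ?_
    have hza := hz.1.1.symm hS
    rw [← hza.2.1, ← Set.ncard_sdiff_singleton_of_mem (lab_mem_Theta z a)]
    refine Set.ncard_le_ncard_of_injOn (fun c => (lab p z c : Set (Sylow p G)))
      (fun c hc => ⟨hc.2.1.2.2, hc.2.2⟩) ?_
    intro c hc c' hc' he
    by_contra hne
    have hcf : ∀ d ∈ C, d ∈ Fix (P : Subgroup G) := fun d hd => by
      rcases hd with (h | h) | h <;> exact h.2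
    have hl : c' ∈ line p G z c :=
      Or.inr ⟨hc'.2.1.2.1.1.1.symm, he.symm, hc'.2.1.2.1.1.2.2⟩
    have hlab := (hc.2.1.2.1.on_line hS hc.2.1.2.1.1.right_mem_line hl hne).2.1
    have : P ∈ (lab p z c : Set (Sylow p G)) := hlab ▸ ⟨hcf c hc.1, hcf c' hc'.1⟩
    exact hz.2 this.1
  have hTk : ∀ k, ∀ c ∈ far p G m s a b, mult p G m s a b c = k →
      {z ∈ M | rel2 z c}.ncard = p * k := by
    intro k c hc hk
    rw [← (hab.1.2.1.moved hP).1, ← hk, ← ncard_mids_sep hS hab hc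
      (B := Theta p G a b \ Fix (P : Subgroup G)) Set.sdiff_subset]
    congr 1
    ext z
    exact ⟨fun h => ⟨⟨h.1.1, h.2.1⟩, h.1.1.2,
        fun hf => h.1.2 ((nb_fixed_iff hS hab h.1.1 hP).2 hf)⟩,
      fun h => ⟨⟨h.1.1, fun hf => h.2.2 ((nb_fixed_iff hS hab h.1.1 hP).1 hf)⟩, h.1.2,
        path_lab_ne hS h.1.1 hc.1 hc.2.1 h.1.2⟩⟩
  have hNk : ∀ c ∈ NT ∩ Fix (P : Subgroup G), {z ∈ M | rel2 z c}.ncard = p := by
    intro c hc
    have heq : {z ∈ M | rel2 z c} = tri p G m s a c \ Fix (P : Subgroup G) := by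
      ext z
      constructor
      · rintro ⟨hz, hPz, hne⟩
        refine ⟨⟨by rw [nb_eq_of_mem hc.1.1]; exact hz.1, hPz.2.1.symm hS, fun he => ?_⟩, hz.2⟩
        exact (mem_tri_of_path hS hz.1 hc.1.1 hPz hne).2.2 he.symm
      · rintro ⟨ht, hnf⟩
        have hz : z ∈ N := by
          have := ht.1
          rwa [nb_eq_of_mem hc.1.1] at this
        obtain ⟨-, h2, h3⟩ := closed hS hz.1 (ht.2.1.symm hS) hc.1.1.1.1.1.symm
          (by rw [Theta_eq_of_mem hz.2]; exact hc.1.1.2)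
        exact ⟨⟨hz, hnf⟩, ⟨hz.1, ht.2.1.symm hS, h2⟩, (h3 ht.2.2.symm).2.2⟩
    have h := Set.ncard_inter_add_ncard_sdiff_eq_ncard (tri p G m s a c) (Fix (P : Subgroup G))
    rw [ncard_tri_fixed hS hc.1.1.1 hc.1.2 ⟨hP, hc.2⟩, ncard_tri hS hc.1.1.1 hc.1.2] at h
    rw [heq]
    omega
  have hdN : Disjoint (T₁ ∩ Fix (P : Subgroup G) ∪ T₂ ∩ Fix (P : Subgroup G))
      (NT ∩ Fix (P : Subgroup G)) := by
    rw [Set.disjoint_left]
    rintro c (h | h) h'
    · exact h.1.1.2.1 h'.1.1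
    · exact h.1.1.2.1 h'.1.1
  have hlow : (inc M C rel2).ncard = (T₁ ∩ Fix (P : Subgroup G)).ncard * (p * 1) +
      (T₂ ∩ Fix (P : Subgroup G)).ncard * (p * 2) + (NT ∩ Fix (P : Subgroup G)).ncard * p := by
    rw [ncard_inc_swap, hC, ncard_inc_union hdN, ncard_inc_union hdf,
      ncard_inc_left (k := p * 1) (fun c hc => hTk 1 c hc.1.1 hc.1.2),
      ncard_inc_left (k := p * 2) (fun c hc => hTk 2 c hc.1.1 hc.1.2),
      ncard_inc_left (k := p) hNk]
  rw [hlow, hNTf, hMc] at hup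
  refine le_of_mul_le_mul_left ?_ hp.out.pos
  calc p * ((T₁ ∩ Fix (P : Subgroup G)).ncard + 2 * (T₂ ∩ Fix (P : Subgroup G)).ncard +
        (m - p) * σ) = _ := by ring
    _ ≤ p * s * (m - 1) := hup
    _ = p * (s * (m - 1)) := by ring

/-- The deficiencies in terms of the multiplicities. -/
theorem dev_totals {a b : α} (hab : Edge p G m s a b) {P : Sylow p G} (hP : P ∈ sylFix p a) :
    ∃ σ : ℕ, σ ≤ s ∧
      (s * s * (m - p - 1) + σ ≤ s * (m - 1)) ∧
      ((∀ x y : α, Edge p G m s x y → ¬ (tri p G m s x y).Nonempty) →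
        ((s : ℤ) * s + s) * (2 * p - m - 1) + (s : ℤ) * s ≤ 2 * (p : ℤ) - 4) ∧
      2 * ((s : ℤ) * (2 * p - m - 1)) + ((s : ℤ) * s - σ) * (2 * p - m) ≤
        2 * (2 * (p : ℤ) - 4) := by
  have := hS.prim
  set σ := {w ∈ {w ∈ nb p G m s a b | (tri p G m s a w).Nonempty} |
      (lab p a w : Set (Sylow p G)) = lab p a b}.ncard with hσ
  obtain ⟨hσs, e1, e2, e3⟩ := far_counts hS hab hP σ hσ
  have hm := hab.1.2.1.2
  rw [hab.2.1] at hm
  refine ⟨σ, hσs, ?_, ?_⟩
  · obtain ⟨f', hf'⟩ : ∃ f', m - p = f' + 1 := ⟨m - p - 1, by omega⟩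
    rw [hf', Nat.add_sub_cancel] at e2 ⊢
    rw [hf'] at e3
    nlinarith
  set T₁ := {c ∈ far p G m s a b | mult p G m s a b c = 1} with hT₁
  set T₂ := {c ∈ far p G m s a b | mult p G m s a b c = 2} with hT₂
  set N := nb p G m s a b with hN
  have hK := fun g (hg : g ∈ gen (sylFix p a : Set (Sylow p G))) (w : α) (hw : w ∈ N) =>
    smul_mem_nb hg hw
  have hmult : ∀ g ∈ gen (sylFix p a : Set (Sylow p G)), ∀ c ∈ far p G m s a b,
      mult p G m s a b (g • c) = mult p G m s a b c := by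
    intro g hg c hc
    have hθ : g • (lab p a b : Set (Sylow p G)) ∈ Theta p G a b :=
      smul_mem_Theta hg (lab_mem_Theta a b)
    rw [← class_mids hS hab (smul_mem_far hg hc) hθ, mult,
      ← Set.ncard_smul_set g {w ∈ mids p G m s a b c | (lab p a w : Set (Sylow p G)) = lab p a b}]
    congr 1
    ext w
    rw [Set.mem_smul_set_iff_inv_smul_mem]
    constructor
    · rintro ⟨h1, h2⟩
      have h1' := smul_mem_mids (inv_mem hg) h1
      rw [inv_smul_smul] at h1'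
      exact ⟨h1', by rw [← smul_smul_set_gen (inv_mem hg), h2, inv_smul_smul]⟩
    · rintro ⟨h1, h2⟩
      have h1' := smul_mem_mids hg h1
      rw [smul_inv_smul] at h1'
      rw [← smul_smul_set_gen (inv_mem hg)] at h2
      exact ⟨h1', inv_smul_eq_iff.1 h2⟩
  have hinv : ∀ k : ℕ, ∀ g ∈ gen (sylFix p a : Set (Sylow p G)),
      ∀ c ∈ {c ∈ far p G m s a b | mult p G m s a b c = k},
        g • c ∈ {c ∈ far p G m s a b | mult p G m s a b c = k} :=
    fun k g hg c hc => ⟨smul_mem_far hg hc.1, (hmult g hg c hc.1).trans hc.2⟩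
  have h1pos := dev_nonneg_of_invariant hS.below hS.sylGen hP (U := T₁)
    (fun h => h.1.1 rfl) (hinv 1)
  have h2pos := dev_nonneg_of_invariant hS.below hS.sylGen hP (U := T₂)
    (fun h => h.1.1 rfl) (hinv 2)
  have hd12 : Disjoint T₁ T₂ := Set.disjoint_left.2 fun c h1 h2 => by
    have := h1.2.symm.trans h2.2; omega
  have hdN : Disjoint N (T₁ ∪ T₂) := by
    rw [Set.disjoint_left]
    rintro c hc (h | h) <;> exact h.1.2.1 hc
  have hU := hS.dev_le_rest hP (U := N ∪ (T₁ ∪ T₂))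
    (fun h => by rcases h with h | h | h; exacts [not_mem_nb_self h, h.1.1 rfl, h.1.1 rfl])
    (fun g hg c hc => by
      rcases hc with h | h | h
      exacts [Or.inl (hK g hg c h), Or.inr (Or.inl (hinv 1 g hg c h)),
        Or.inr (Or.inr (hinv 2 g hg c h))])
  rw [dev_union _ hdN, dev_union _ hd12] at hU
  have hN1 := ncard_nb hS hab
  have hN2 := ncard_nb_fixed hS hab hP
  rw [← hN] at hN1 hN2
  zify [show 1 ≤ m by omega, show p ≤ m by omega, show 1 ≤ m - p by omega] at e1 e2 hN1 hN2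
  have hdevN : dev p (P : Subgroup G) N = (p : ℤ) * (s * (2 * p - m - 1)) := by
    rw [dev, hN1, hN2]
    ring
  have hsum : dev p (P : Subgroup G) T₁ + 2 * dev p (P : Subgroup G) T₂ =
      (p : ℤ) * (((s : ℤ) * s - σ) * (2 * p - m)) := by
    rw [dev, dev]
    linear_combination ((p : ℤ) - 1) * e1 - (2 * (p : ℤ) - 1) * e2
  have hppos : (0 : ℤ) < p := by exact_mod_cast hp.out.pos
  constructor
  · intro hno
    have hT2 : T₂ = ∅ := Set.eq_empty_iff_forall_notMem.2 fun c hc => by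
      obtain ⟨x, y, hxy, ht⟩ := tri_of_mult hS hc.1 (le_of_eq hc.2.symm)
      exact hno x y hxy ht
    have hσ0 : σ = 0 := by
      rw [hσ, Set.ncard_eq_zero]
      exact Set.eq_empty_iff_forall_notMem.2 fun w hw => hno a w hw.1.1.1 hw.1.2
    rw [hT2, dev_empty] at hU hsum
    rw [hσ0] at hsum
    push_cast at hsum
    refine le_of_mul_le_mul_left ?_ hppos
    linarith
  · refine le_of_mul_le_mul_left ?_ hppos
    linarith

end CfsgLib.SylowFix
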