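import Cfsg.Agent.Lib.SylowFix.Totals

/-!
Lines of three points with a triangle: the third points give a good pair with fewer labels.
-/

set_option autoImplicit false

open scoped Pointwise
open MulAction

namespace CfsgLib.SylowFix

universe u v

variable (p : ℕ) (G : Type u) [Group G] {α : Type v} [MulAction G α]

/-- The neighbours of `a` joined to `y` by a line meeting the neighbourhood again. -/
def link (m : ℕ) (a b y : α) : Set α :=
  {x ∈ nb p G m 2 a b | Path p G m 2 a x y ∧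
    ∃ w ∈ nb p G m 2 a b, w ∈ line p G y x ∧
      (lab p a w : Set (Sylow p G)) ≠ lab p a x}

/-- The points linked to the whole of a neighbourhood. -/
def full (m : ℕ) (a b : α) : Set α :=
  {y | y ≠ a ∧ (lab p a y : Set (Sylow p G)) ∉ Theta p G a b ∧
    nb p G m 2 a b ⊆ link p G m a b y}

variable {p G} {m : ℕ}

theorem smul_mem_link {a b y x : α} {g : G} (hg : g ∈ gen (sylFix p a : Set (Sylow p G)))
    (h : x ∈ link p G m a b y) : g • x ∈ link p G m a b (g • y) := by
  obtain ⟨h1, h2, w, hw, hwl, hne⟩ := h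
  refine ⟨smul_mem_nb hg h1, ?_, g • w, smul_mem_nb hg hw, ?_, fun he => hne ?_⟩
  · have := h2.smul g
    rwa [smul_eq_of_mem_gen (x := a) subset_rfl hg] at this
  · rw [line_smul]
    exact Set.smul_mem_smul_set hwl
  · rw [← smul_smul_set_gen hg, ← smul_smul_set_gen hg] at he
    exact smul_left_cancel g he

theorem smul_mem_full {a b y : α} {g : G} (hg : g ∈ gen (sylFix p a : Set (Sylow p G)))
    (h : y ∈ full p G m a b) : g • y ∈ full p G m a b := by
  obtain ⟨h1, h2, h3⟩ := h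
  refine ⟨fun he => h1 (smul_left_cancel g
    (he.trans (smul_eq_of_mem_gen subset_rfl hg).symm)), fun hin => h2 ?_, fun x hx => ?_⟩
  · rw [← smul_smul_set_gen hg] at hin
    have := smul_mem_Theta (inv_mem hg) hin
    rwa [inv_smul_smul] at this
  · have := smul_mem_link hg (h3 (smul_mem_nb (inv_mem hg) hx))
    rwa [smul_inv_smul] at this

theorem full_notMem_nb {a b y : α} (hy : y ∈ full p G m a b) : y ∉ nb p G m 2 a b :=
  fun h => hy.2.1 h.2

/-- An element of odd order swapping two points fixes them. -/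
theorem smul_eq_of_sq [Finite G] {β : Type*} [MulAction G β] {g : G} (hodd : Odd (orderOf g))
    {x : β} (h : g • g • x = x) : g • x = x := by
  obtain ⟨k, hk⟩ := hodd
  have h1 : ∀ i : ℕ, g ^ (2 * i) • x = x := by
    intro i
    induction i with
    | zero => simp
    | succ i ih => rw [mul_add, mul_one, pow_add, mul_smul, sq, mul_smul, h, ih]
  have h2 : g ^ orderOf g • x = x := by rw [pow_orderOf_eq_one, one_smul]
  rw [hk, pow_succ', mul_smul, h1] at h2
  exact h2

variable [Finite G] [hp : Fact p.Prime] [Finite α] (hS : Setting p G α)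

include hS

theorem line_three {x y : α} (h : Edge p G m 2 x y) {u v w : α} (hu : u ∈ line p G x y)
    (hv : v ∈ line p G x y) (hw : w ∈ line p G x y) (huv : u ≠ v) (huw : u ≠ w) (hvw : v ≠ w)
    {z : α} (hz : z ∈ line p G x y) : z = u ∨ z = v ∨ z = w := by
  have hsub : ({u, v, w} : Set α) ⊆ line p G x y :=
    Set.insert_subset hu (Set.insert_subset hv (Set.singleton_subset_iff.2 hw))
  have he := Set.eq_of_subset_of_ncard_le hsub (by
    rw [h.2.2, Set.ncard_insert_of_notMem (by simp [huv, huw]), Set.ncard_pair hvw])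
  rw [← he] at hz
  simpa using hz

theorem third_mem_full {a b e y : α} (hab : Edge p G m 2 a b) (he : e ∈ tri p G m 2 a b)
    (hy : y ∈ line p G b e) (hyb : y ≠ b) (hye : y ≠ e) : y ∈ full p G m a b := by
  have hbe := he.2.1
  obtain ⟨⟨-, heΘ⟩, -, hne⟩ := tri_symm hS hab he
  obtain ⟨hby, hlby, hlin⟩ := hbe.on_line hS hbe.1.left_mem_line hy hyb.symm
  have hya : y ≠ a := by
    rintro rfl
    exact hne hlby.symm
  have hpath : Path p G m 2 a b y := ⟨hab, hby, hlby ▸ heΘ⟩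
  have hout : (lab p a y : Set (Sylow p G)) ∉ Theta p G a b := fun hin => by
    obtain ⟨hay, -, h3⟩ := closed hS hab hby hya hin
    have hne2 : (lab p a y : Set (Sylow p G)) ≠ lab p a b := fun h => by
      have hl : y ∈ line p G a b := Or.inr ⟨hya, h, hay.1.2.2⟩
      have h1 := (hab.on_line hS hab.1.right_mem_line hl hyb.symm).2.1
      rw [hlby, ← lab_comm b a] at h1
      exact hne h1
    exact hye (tri_unique hS (hab.symm hS) (tri_symm hS hab ⟨⟨hay, hin⟩, hby, hne2⟩)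
      (tri_symm hS hab he) hlby)
  refine ⟨hya, hout, ?_⟩
  obtain ⟨P, hPb, hPe⟩ := hab.1.2.1.inter_nonempty hab.1.2.1.two_le_fixed
    (lab_mem_Theta a b) he.1.2
  have hyP : y ∈ Fix (P : Subgroup G) := by
    have : P ∈ lab p b y := hlby ▸ ⟨hPb.2, hPe.2⟩
    exact this.2
  have hPK : (P : Subgroup G) ≤ gen (sylFix p a : Set (Sylow p G)) := le_gen hPb.1
  have hyb' := hby.symm hS
  have hlyb : line p G y b = line p G b e := (hby.line_symm hS).trans hlin
  have hb : b ∈ link p G m a b y := by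
    refine ⟨hab.right_mem_nb, hpath, e, he.1, ?_, he.2.2⟩
    rw [hlyb]
    exact hbe.1.right_mem_line
  have hcnt : ∀ θ ∈ Theta p G a b, {x ∈ link p G m a b y | (lab p a x : Set (Sylow p G)) = θ}.ncard
      = {x ∈ link p G m a b y | (lab p a x : Set (Sylow p G)) = lab p a b}.ncard := fun θ hθ =>
    hab.1.2.1.uniform hS hya hout (fun u => link p G m a b u)
      (fun g hg u w hw => smul_mem_link hg hw) hθ (lab_mem_Theta a b)
  have hsub : ∀ θ, {x ∈ link p G m a b y | (lab p a x : Set (Sylow p G)) = θ} ⊆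
      {x ∈ nb p G m 2 a b | (lab p a x : Set (Sylow p G)) = θ} := fun θ x hx => ⟨hx.1.1, hx.2⟩
  have hpos : 1 ≤ {x ∈ link p G m a b y | (lab p a x : Set (Sylow p G)) = lab p a b}.ncard :=
    (Set.ncard_pos).2 ⟨b, hb, rfl⟩
  -- a moved class holds two linked points
  obtain ⟨η, hη, hηm⟩ := hab.1.2.1.moved_nonempty hPb.1
  obtain ⟨z, hz, hzl⟩ := Set.nonempty_of_ncard_ne_zero (s := {x ∈ link p G m a b y |
    (lab p a x : Set (Sylow p G)) = η}) (by rw [hcnt η hη]; omega)
  obtain ⟨hzN, hzP, w, hwN, hwl, hwne⟩ := hz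
  have hyz : Edge p G m 2 y z := hzP.2.1.symm hS
  have hwy : w ≠ y := fun h => hout (h ▸ hwN.2)
  have hwz : w ≠ z := fun h => hwne (h ▸ rfl)
  obtain ⟨hEyw, hlyw, hlinyw⟩ := hyz.on_line hS hyz.1.left_mem_line hwl hwy.symm
  obtain ⟨hEzw, -, -⟩ := hyz.on_line hS hyz.1.right_mem_line hwl hwz.symm
  obtain ⟨-, hlwz, -⟩ := hyz.on_line hS hwl hyz.1.right_mem_line hwz
  obtain ⟨-, -, hc⟩ := closed hS hzN.1 hEzw hwN.1.1.1.symm
    (by rw [Theta_eq_of_mem hzN.2]; exact hwN.2)
  have hwlink : w ∈ link p G m a b y := by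
    refine ⟨hwN, ⟨hwN.1, hEyw.symm hS, ?_⟩, z, hzN, ?_, hwne.symm⟩
    · rw [Theta_eq_of_mem (hc hwne).1, lab_comm w y, hlyw, ← hlwz]
      exact lab_mem_Theta w z
    · rw [hlinyw]
      exact hyz.1.right_mem_line
  have hzm : z ∉ Fix (P : Subgroup G) := fun hf =>
    hηm (hzl ▸ (nb_fixed_iff hS hab hzN hPb.1).1 hf)
  have hwm : w ∉ Fix (P : Subgroup G) := fun hf => hzm (by
    have : P ∈ (lab p y z : Set (Sylow p G)) := hlyw ▸ ⟨hyP, hf⟩
    exact this.2)
  obtain ⟨q, hq, hqw⟩ := (hab.1.2.1.moved hPb.1).2 _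
    ⟨hwN.2, fun hf => hwm ((nb_fixed_iff hS hab hwN hPb.1).2 hf)⟩ η ⟨hη, hηm⟩
  have hqy : q • y = y := mem_Fix.1 hyP q hq
  have hqlink : q • w ∈ link p G m a b y := by
    have := smul_mem_link (hPK hq) hwlink
    rwa [hqy] at this
  have hqz : q • w ≠ z := by
    intro hqwz
    have hline : q • line p G y z = line p G y z := by
      rw [← hlinyw, ← line_smul, hqy, hqwz, hlinyw]
    have hmem : q • z ∈ line p G y z := hline ▸ Set.smul_mem_smul_set hyz.1.right_mem_line
    rcases line_three hS hyz hyz.1.left_mem_line hyz.1.right_mem_line hwl hyz.1.1 hwy.symm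
      hwz.symm hmem with h | h | h
    · exact hyz.1.1 (smul_left_cancel q (h.trans hqy.symm)).symm
    · exact hwz (smul_left_cancel q (hqwz.trans h.symm))
    · have hodd : Odd (orderOf q) := by
        obtain ⟨k, hk⟩ := IsPGroup.iff_orderOf.1 P.2 ⟨q, hq⟩
        rw [Subgroup.orderOf_mk] at hk
        rw [hk]
        exact (hp.out.odd_of_ne_two hS.odd).pow
      exact hwz (h.symm.trans (smul_eq_of_sq hodd (by rw [h, hqwz])))
  have htwo : 2 ≤ {x ∈ link p G m a b y | (lab p a x : Set (Sylow p G)) = η}.ncard := by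
    rw [← Set.ncard_pair hqz]
    refine Set.ncard_le_ncard (Set.insert_subset ⟨hqlink, ?_⟩ (Set.singleton_subset_iff.2
      ⟨⟨hzN, hzP, w, hwN, hwl, hwne⟩, hzl⟩))
    rw [← smul_smul_set_gen (hPK hq), hqw]
  intro x hx
  have heq := Set.eq_of_subset_of_ncard_le (hsub (lab p a x)) (by
    rw [nb_class hS hab hx.2, hcnt _ hx.2, ← hcnt η hη]
    exact htwo)
  exact ((Set.ext_iff.1 heq x).2 ⟨hx, rfl⟩).1

theorem tri_of_full {a b y : α} (hy : y ∈ full p G m a b) {x : α}
    (hx : x ∈ nb p G m 2 a b) : (tri p G m 2 a x).Nonempty := by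
  obtain ⟨hxN, hxP, w, hwN, hwl, hne⟩ := hy.2.2 hx
  have hyx := hxP.2.1.symm hS
  exact ⟨w, nb_eq_of_mem hxN ▸ hwN,
    (hyx.on_line hS hyx.1.right_mem_line hwl fun h => hne (h ▸ rfl)).1, hne⟩

theorem third_unique {a b e y y' : α} (he : e ∈ tri p G m 2 a b) (hy : y ∈ full p G m a b)
    (hy' : y' ∈ full p G m a b) (hl : y ∈ line p G b e) (hl' : y' ∈ line p G b e)
    (hab : Edge p G m 2 a b) : y = y' := by
  by_contra hne
  have hb : ∀ v ∈ full p G m a b, v ≠ b ∧ v ≠ e := fun v hv =>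
    ⟨fun h => full_notMem_nb hv (h ▸ hab.right_mem_nb), fun h => full_notMem_nb hv (h ▸ he.1)⟩
  rcases line_three hS he.2.1 he.2.1.1.left_mem_line he.2.1.1.right_mem_line hl
    he.2.1.1.1 (hb y hy).1.symm (hb y hy).2.symm hl' with h | h | h
  exacts [(hb y' hy').1 h, (hb y' hy').2 h, hne h.symm]

theorem exists_tri_of_full {a b y : α} (hab : Edge p G m 2 a b) (hy : y ∈ full p G m a b) :
    ∃ e ∈ tri p G m 2 a b, y ∈ line p G b e := by
  obtain ⟨-, hbP, w, hwN, hwl, hne⟩ := hy.2.2 hab.right_mem_nb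
  have hyb := hbP.2.1.symm hS
  obtain ⟨hbw, -, hlin⟩ := hyb.on_line hS hyb.1.right_mem_line hwl fun h => hne (h ▸ rfl)
  exact ⟨w, ⟨hwN, hbw, hne⟩, hlin ▸ hyb.1.left_mem_line⟩

theorem exists_third {a b e : α} (hab : Edge p G m 2 a b) (he : e ∈ tri p G m 2 a b) :
    ∃ y ∈ full p G m a b, y ∈ line p G b e := by
  obtain ⟨y, hy, hyn⟩ : (line p G b e \ {b, e}).Nonempty := by
    refine Set.nonempty_of_ncard_ne_zero ?_
    have h := Set.le_ncard_sdiff ({b, e} : Set α) (line p G b e)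
    rw [he.2.1.2.2, Set.ncard_pair he.2.1.1.1] at h
    omega
  simp only [Set.mem_insert_iff, Set.mem_singleton_iff, not_or] at hyn
  exact ⟨y, third_mem_full hS hab he hy hyn.1 hyn.2, hy⟩

theorem full_trans {a b y y' : α} (hab : Edge p G m 2 a b) (hy : y ∈ full p G m a b)
    (hy' : y' ∈ full p G m a b) :
    ∃ g ∈ gen (sylFix p a : Set (Sylow p G)), g • y = y' := by
  obtain ⟨e, he, hye⟩ := exists_tri_of_full hS hab hy
  obtain ⟨e', he', hye'⟩ := exists_tri_of_full hS hab hy'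
  obtain ⟨g, hg, hgl⟩ :=
    hab.1.2.1.trans_rest (lab_mem_Theta a b) he.1.2 he'.1.2 he.2.2 he'.2.2
  have hgK := gen_mono (lab_subset_left a b) hg
  have hgb : g • b = b := smul_eq_of_mem_gen (lab_subset_right a b) hg
  have hge : g • e = e' := tri_unique hS hab
    (smul_mem_tri hS (smul_eq_of_mem_gen (lab_subset_left a b) hg) hgb hgK he) he'
    (by rw [← smul_smul_set_gen hgK, hgl])
  refine ⟨g, hgK, third_unique hS he' (smul_mem_full hgK hy) hy' ?_ hye' hab⟩
  rw [← hge, ← congrArg (fun v => line p G v (g • e)) hgb, line_smul]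
  exact Set.smul_mem_smul_set hye

theorem ncard_full {a b : α} (hab : Edge p G m 2 a b) (ht : (tri p G m 2 a b).Nonempty) :
    (full p G m a b).ncard = m - 1 ∧ ∀ P : Sylow p G, P ∈ lab p a b →
      (full p G m a b ∩ Fix (P : Subgroup G)).ncard = m - p - 1 := by
  have huniq : ∀ y ∈ full p G m a b, ∀ e ∈ tri p G m 2 a b, ∀ e' ∈ tri p G m 2 a b,
      y ∈ line p G b e → y ∈ line p G b e' → e = e' := by
    intro y hy e he e' he' hl hl'
    have hyb : b ≠ y := fun h => full_notMem_nb hy (h ▸ hab.right_mem_nb)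
    have h1 := (he.2.1.on_line hS he.2.1.1.left_mem_line hl hyb).2.1
    have h2 := (he'.2.1.on_line hS he'.2.1.1.left_mem_line hl' hyb).2.1
    exact tri_unique hS (hab.symm hS) (tri_symm hS hab he) (tri_symm hS hab he')
      (h1.symm.trans h2)
  constructor
  · rw [← ncard_tri hS hab ht]
    have h := double_count (A := full p G m a b) (B := tri p G m 2 a b)
      (r := fun y e => y ∈ line p G b e) (k := 1) (l := 1) (fun y hy => ?_) (fun e he => ?_)
    · simpa using h
    · obtain ⟨e, he, hl⟩ := exists_tri_of_full hS hab hy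
      exact Set.ncard_eq_one.2 ⟨e, Set.ext fun e' =>
        ⟨fun h => huniq y hy e' h.1 e he h.2 hl, fun h => h.symm ▸ ⟨he, hl⟩⟩⟩
    · obtain ⟨y, hy, hl⟩ := exists_third hS hab he
      exact Set.ncard_eq_one.2 ⟨y, Set.ext fun y' =>
        ⟨fun h => third_unique hS he h.1 hy h.2 hl hab, fun h => h.symm ▸ ⟨hy, hl⟩⟩⟩
  · intro P hP
    rw [← ncard_tri_fixed hS hab ht hP]
    have hbf : b ∈ Fix (P : Subgroup G) := hP.2
    have h := double_count (A := full p G m a b ∩ Fix (P : Subgroup G))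
      (B := tri p G m 2 a b ∩ Fix (P : Subgroup G))
      (r := fun y e => y ∈ line p G b e) (k := 1) (l := 1) (fun y hy => ?_) (fun e he => ?_)
    · simpa using h
    · obtain ⟨e, he, hl⟩ := exists_tri_of_full hS hab hy.1
      have hyb : b ≠ y := fun h => full_notMem_nb hy.1 (h ▸ hab.right_mem_nb)
      have hef : e ∈ Fix (P : Subgroup G) := by
        have : P ∈ (lab p b e : Set (Sylow p G)) :=
          (he.2.1.on_line hS he.2.1.1.left_mem_line hl hyb).2.1 ▸ ⟨hbf, hy.2⟩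
        exact this.2
      exact Set.ncard_eq_one.2 ⟨e, Set.ext fun e' =>
        ⟨fun h => huniq y hy.1 e' h.1.1 e he h.2 hl, fun h => h.symm ▸ ⟨⟨he, hef⟩, hl⟩⟩⟩
    · obtain ⟨y, hy, hl⟩ := exists_third hS hab he.1
      have hyb : b ≠ y := fun h => full_notMem_nb hy (h ▸ hab.right_mem_nb)
      have hyf : y ∈ Fix (P : Subgroup G) := by
        have h1 := (he.1.2.1.on_line hS he.1.2.1.1.left_mem_line hl hyb).2.1
        have : P ∈ (lab p b y : Set (Sylow p G)) := h1 ▸ ⟨hbf, he.2⟩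
        exact this.2
      exact Set.ncard_eq_one.2 ⟨y, Set.ext fun y' =>
        ⟨fun h => third_unique hS he.1 h.1.1 hy h.2 hl hab,
          fun h => h.symm ▸ ⟨⟨hy, hyf⟩, hl⟩⟩⟩

theorem full_labels {a b y : α} (hab : Edge p G m 2 a b) (ht : (tri p G m 2 a b).Nonempty)
    (hy : y ∈ full p G m a b) :
    (lab p a y : Set (Sylow p G)).Nonempty ∧ (Theta p G a y).ncard = m - 1 := by
  obtain ⟨hc, hcf⟩ := ncard_full hS hab ht
  obtain ⟨P, hP⟩ := hab.1.2.1.1
  have hf := hcf P hP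
  have hm := hab.1.2.1.2.1
  rw [hab.2.1] at hm
  have hm' := hab.1.2.1.2.2
  rw [hab.2.1] at hm'
  obtain ⟨y₀, hy₀, hy₀f⟩ := Set.nonempty_of_ncard_ne_zero
    (s := full p G m a b ∩ Fix (P : Subgroup G)) (by omega)
  have hne : (lab p a y : Set (Sylow p G)).Nonempty := by
    obtain ⟨g, hg, rfl⟩ := full_trans hS hab hy₀ hy
    rw [← smul_smul_set_gen hg]
    exact ⟨g • P, Set.smul_mem_smul_set ⟨hP.1, hy₀f⟩⟩
  have hinvM : ∀ q ∈ (P : Subgroup G), ∀ v ∈ full p G m a b \ Fix (P : Subgroup G),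
      q • v ∈ full p G m a b \ Fix (P : Subgroup G) :=
    fun q hq v hv => ⟨smul_mem_full (le_gen hP.1 hq) hv.1, fun hf' => hv.2 (by
      have h := mem_Fix.1 hf' q⁻¹ (inv_mem hq)
      rw [inv_smul_smul] at h
      exact h ▸ hf')⟩
  have hMc : (full p G m a b \ Fix (P : Subgroup G)).ncard = p := by
    have := Set.ncard_inter_add_ncard_sdiff_eq_ncard (full p G m a b) (Fix (P : Subgroup G))
    omega
  obtain ⟨z, hz⟩ := Set.nonempty_of_ncard_ne_zero
    (s := full p G m a b \ Fix (P : Subgroup G)) (by rw [hMc]; exact hp.out.ne_zero)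
  have horb : orbit (P : Subgroup G) z = full p G m a b \ Fix (P : Subgroup G) :=
    Set.eq_of_subset_of_ncard_le (orbit_subset_of_invariant hinvM hz)
      ((le_of_eq hMc).trans (le_ncard_orbit P.2 hz.2))
  -- a moved point is alone with its label
  have halone : ∀ v ∈ full p G m a b, (lab p a v : Set (Sylow p G)) = lab p a z → v = z := by
    intro v hv he
    by_contra hvz
    have hvm : v ∉ Fix (P : Subgroup G) := fun hf' => hz.2 (by
      have : P ∈ (lab p a z : Set (Sylow p G)) := he ▸ ⟨hP.1, hf'⟩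
      exact this.2)
    obtain ⟨⟨q, hq⟩, hqz⟩ : v ∈ orbit (P : Subgroup G) z := horb ▸ ⟨hv, hvm⟩
    change q • z = v at hqz
    set C : Subgroup G := stabilizer G (lab p a z : Set (Sylow p G)) ⊓ (P : Subgroup G) with hC
    have hqa : ∀ r ∈ (P : Subgroup G), r • (lab p a z : Set (Sylow p G)) = lab p a (r • z) :=
      fun r hr => smul_smul_set_gen (le_gen hP.1 hr) z
    have hqC : q ∈ C := ⟨mem_stabilizer_iff.2 (by rw [hqa q hq, hqz, he]), hq⟩
    have hmv : z ∉ Fix (C : Subgroup G) := fun hf' => hvz (hqz ▸ mem_Fix.1 hf' q hqC)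
    have hCorb : orbit C z = orbit (P : Subgroup G) z := Set.eq_of_subset_of_ncard_le
      (by rintro _ ⟨⟨c, hc⟩, rfl⟩; exact ⟨⟨c, hc.2⟩, rfl⟩)
      (by rw [horb, hMc]; exact le_ncard_orbit (P.2.to_le inf_le_right) hmv)
    have hnorm : (P : Subgroup G) ≤ stabilizer G (lab p a z : Set (Sylow p G)) := by
      intro r hr
      obtain ⟨⟨c, hc⟩, hcz⟩ : r • z ∈ orbit C z := hCorb ▸ ⟨⟨r, hr⟩, rfl⟩
      change c • z = r • z at hcz
      rw [mem_stabilizer_iff, hqa r hr, ← hcz, ← hqa c hc.2]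
      exact mem_stabilizer_iff.1 hc.1
    obtain ⟨g, hg, hgz⟩ := full_trans hS hab hy₀ hz.1
    have hzne : (lab p a z : Set (Sylow p G)).Nonempty := by
      rw [← hgz, ← smul_smul_set_gen hg]
      exact ⟨g • P, Set.smul_mem_smul_set ⟨hP.1, hy₀f⟩⟩
    have hPz : P ∈ lab p a z :=
      mem_of_normalizes (T := ({a, z} : Set α)) (fun R => by simp [mem_lab]) hzne hnorm
    exact hz.2 hPz.2
  refine ⟨hne, ?_⟩
  have himg : Theta p G a y =
      (fun v => (lab p a v : Set (Sylow p G))) '' full p G m a b := by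
    ext θ
    constructor
    · intro h
      obtain ⟨g, hg, rfl⟩ := mem_Theta.1 h
      exact ⟨g • y, smul_mem_full hg hy, rfl⟩
    · rintro ⟨v, hv, rfl⟩
      obtain ⟨g, hg, rfl⟩ := full_trans hS hab hy hv
      exact mem_Theta.2 ⟨g, hg, rfl⟩
  rw [himg, Set.InjOn.ncard_image, hc]
  intro v hv v' hv' he
  obtain ⟨g, hg, hgv⟩ := full_trans hS hab hv hz.1
  have h2 := halone (g • v') (smul_mem_full hg hv') (by
    simp only at he
    rw [← hgv, ← smul_smul_set_gen hg, ← he, smul_smul_set_gen hg])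
  exact (smul_left_cancel g (h2.trans hgv.symm)).symm

theorem no_triangle {a b : α} (hab : Edge p G m 2 a b) (ht : (tri p G m 2 a b).Nonempty)
    (hmin : ∀ x y : α, Good p G x y → m ≤ (Theta p G x y).ncard) : False := by
  obtain ⟨hc, hcf⟩ := ncard_full hS hab ht
  have hm := hab.1.2.1.2.1
  rw [hab.2.1] at hm
  have hm' := hab.1.2.1.2.2
  rw [hab.2.1] at hm'
  obtain ⟨P, hP⟩ := hab.1.2.1.1
  have hf := hcf P hP
  obtain ⟨y, hy, hyf⟩ := Set.nonempty_of_ncard_ne_zero
    (s := full p G m a b ∩ Fix (P : Subgroup G)) (by omega)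
  rcases Nat.lt_or_ge m (p + 3) with hsmall | hbig
  swap
  · -- a good pair with fewer labels
    obtain ⟨hne, hcard⟩ := full_labels hS hab ht hy
    obtain ⟨e, he, hye⟩ := exists_tri_of_full hS hab hy
    have hyb : b ≠ y := fun h => full_notMem_nb hy (h ▸ hab.right_mem_nb)
    obtain ⟨hby, hlby, -⟩ := he.2.1.on_line hS he.2.1.1.left_mem_line hye hyb
    obtain ⟨b', hb', hb'n⟩ : (line p G a b \ {a, b}).Nonempty := by
      refine Set.nonempty_of_ncard_ne_zero ?_
      have h := Set.le_ncard_sdiff ({a, b} : Set α) (line p G a b)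
      rw [hab.2.2, Set.ncard_pair hab.1.1] at h
      omega
    simp only [Set.mem_insert_iff, Set.mem_singleton_iff, not_or] at hb'n
    have hb'N := nb_eq_of_line hS hab hb' hb'n.1
    obtain ⟨hbb', hlbb', hlinbb'⟩ :=
      hab.on_line hS hab.1.right_mem_line hb' (Ne.symm hb'n.2)
    obtain ⟨-, hb'P, -⟩ := hy.2.2 hb'N
    obtain ⟨⟨-, heΘ⟩, -, hne2⟩ := tri_symm hS hab he
    have hΘ : Theta p G b b' = Theta p G b a := Theta_eq_of_mem (by
      rw [hlbb', lab_comm]; exact lab_mem_Theta b a)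
    have hlne : (lab p b y : Set (Sylow p G)) ≠ lab p b b' := by
      rw [hlby, hlbb', lab_comm a b]
      exact hne2
    obtain ⟨-, -, h3⟩ := closed hS hbb' hb'P.2.1 hyb.symm (by rw [hΘ, hlby]; exact heΘ)
    obtain ⟨h31, h32, -⟩ := h3 hlne
    have hyb' := hby.symm hS
    have ht' : b' ∈ tri p G m 2 y b :=
      ⟨⟨hb'P.2.1.symm hS, by rw [Theta_eq_of_mem h31]; exact lab_mem_Theta y b'⟩,
        hbb', h32.symm⟩
    have ha : a ∈ full p G m y b := third_mem_full hS hyb' ht'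
      (by rw [hlinbb']; exact hab.1.left_mem_line) hab.1.1 (Ne.symm hb'n.1)
    obtain ⟨hne', hcard'⟩ := full_labels hS hyb' ⟨b', ht'⟩ ha
    have hgood : Good p G a y :=
      ⟨hy.1.symm, ⟨hne, by omega, by omega⟩, ⟨hne', by omega, by omega⟩⟩
    have := hmin a y hgood
    omega
  -- two fixed labels
  have hm2 : m = p + 2 := by omega
  subst hm2
  have hdisj : Disjoint (nb p G (p + 2) 2 a b) (full p G (p + 2) a b) :=
    Set.disjoint_right.2 fun v hv => full_notMem_nb hv
  have hU := hS.dev_le_rest hP.1 (U := nb p G (p + 2) 2 a b ∪ full p G (p + 2) a b)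
    (fun h => h.elim not_mem_nb_self fun h' => h'.1 rfl)
    (fun g hg v hv => hv.imp (smul_mem_nb hg) (smul_mem_full hg))
  rw [dev_union _ hdisj, dev, dev, ncard_nb hS hab, ncard_nb_fixed hS hab hP.1, hc, hf] at hU
  have e1 : p + 2 - p = 2 := by omega
  have e2 : p + 2 - 1 = p + 1 := by omega
  rw [e1, e2] at hU
  push_cast at hU
  have hp3 : p = 3 := by
    have h2 := hp.out.two_le
    have h5 : p < 5 := by
      by_contra h5
      have : (5 : ℤ) ≤ p := by exact_mod_cast (not_lt.1 h5)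
      nlinarith
    interval_cases p
    · exact absurd rfl hS.odd
    · rfl
    · exact absurd hp.out (by decide)
  subst hp3
  -- a Sylow 5-subgroup of the group of `a`
  have : Fact (Nat.Prime 5) := ⟨Nat.prime_five⟩
  set K := gen (sylFix 3 a : Set (Sylow 3 G)) with hK
  obtain ⟨R⟩ := (inferInstance : Nonempty (Sylow 5 K))
  set R' : Subgroup G := (R : Subgroup K).map K.subtype with hR'
  have hR'p : IsPGroup 5 R' := R.2.map _
  have hR'K : R' ≤ K := Subgroup.map_subtype_le _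
  have hR'y : R' ≤ stabilizer G y := le_stabilizer_of_small_orbit hR'p hy
    (fun g hg v hv => smul_mem_full (hR'K hg) hv) (by omega)
  have htrans : ∀ θ ∈ Theta 3 G a b, orbit R' θ = Theta 3 G a b := by
    intro θ hθ
    refine Set.eq_of_subset_of_ncard_le (orbit_subset_of_invariant
      (fun g hg v hv => smul_mem_Theta (hR'K hg) hv) hθ) ?_
    rw [hab.2.1]
    refine le_ncard_orbit hR'p fun hfix => ?_
    have hle : (R : Subgroup K) ≤ stabilizer K θ := fun r hr =>
      mem_stabilizer_iff.2 (mem_stabilizer_iff.1 (hfix ⟨r, hr, rfl⟩))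
    have h1 := Subgroup.index_dvd_of_le hle
    rw [index_stabilizer, show orbit K θ = Theta 3 G a b from orbit_eq_iff.2 hθ, hab.2.1] at h1
    exact R.not_dvd_index h1
  have hfix2 := hab.1.2.1.fixed_add hP.1
  rw [hab.2.1] at hfix2
  obtain ⟨θ₁, θ₂, hne12, hF⟩ := Set.ncard_eq_two.1
    (show (Theta 3 G a b ∩ Fix (P : Subgroup G)).ncard = 2 by omega)
  have hθ₁ : θ₁ ∈ Theta 3 G a b ∩ Fix (P : Subgroup G) := hF ▸ by simp
  have hθ₂ : θ₂ ∈ Theta 3 G a b ∩ Fix (P : Subgroup G) := hF ▸ by simp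
  -- a fixed class is linked only to the other
  have hN : ∀ θ ∈ Theta 3 G a b ∩ Fix (P : Subgroup G), ∀ x ∈ nb 3 G (3 + 2) 2 a b,
      ∀ w ∈ nb 3 G (3 + 2) 2 a b, (lab 3 a x : Set (Sylow 3 G)) = θ → w ∈ line 3 G y x →
        (lab 3 a w : Set (Sylow 3 G)) ∈ Theta 3 G a b ∩ Fix (P : Subgroup G) := by
    intro θ hθ x hx w hw hxl hwl
    refine ⟨hw.2, (nb_fixed_iff hS hab hw hP.1).1 ?_⟩
    have hxf : x ∈ Fix (P : Subgroup G) := (nb_fixed_iff hS hab hx hP.1).2 (hxl ▸ hθ.2)
    have hyx := (hy.2.2 hx).2.1.2.1.symm hS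
    have hyw : y ≠ w := fun h => full_notMem_nb hy (h ▸ hw)
    have : P ∈ (lab 3 y w : Set (Sylow 3 G)) :=
      (hyx.on_line hS hyx.1.left_mem_line hwl hyw).2.1.symm ▸ ⟨hyf, hxf⟩
    exact this.2
  obtain ⟨⟨h, hh⟩, hh12⟩ : θ₂ ∈ orbit R' θ₁ := (htrans θ₁ hθ₁.1).symm ▸ hθ₂.1
  change h • θ₁ = θ₂ at hh12
  have hha := hR'K hh
  obtain ⟨x, hx, hxl⟩ := Set.nonempty_of_ncard_ne_zero
    (s := {x ∈ nb 3 G (3 + 2) 2 a b | (lab 3 a x : Set (Sylow 3 G)) = θ₁})
    (by rw [nb_class hS hab hθ₁.1]; omega)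
  obtain ⟨-, -, w, hw, hwl, hwne⟩ := hy.2.2 hx
  have hwl2 : (lab 3 a w : Set (Sylow 3 G)) = θ₂ := by
    have h1 := hN θ₁ hθ₁ x hx w hw hxl hwl
    rw [hF] at h1
    exact h1.resolve_left fun h' => hwne (h'.trans hxl.symm)
  have hwl' : h • w ∈ line 3 G y (h • x) := by
    rw [← congrArg (fun v => line 3 G v (h • x)) (mem_stabilizer_iff.1 (hR'y hh)), line_smul]
    exact Set.smul_mem_smul_set hwl
  have h2 := hN θ₂ hθ₂ (h • x) (smul_mem_nb hha hx) (h • w) (smul_mem_nb hha hw)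
    (by rw [← smul_smul_set_gen hha, hxl, hh12]) hwl'
  rw [← smul_smul_set_gen hha, hwl2, hF] at h2
  rcases h2 with h2 | h2
  · have hodd : Odd (orderOf h) := by
      obtain ⟨k, hk⟩ := IsPGroup.iff_orderOf.1 hR'p ⟨h, hh⟩
      rw [Subgroup.orderOf_mk] at hk
      rw [hk]
      exact (Nat.odd_iff.2 (by norm_num : 5 % 2 = 1)).pow
    exact hne12 ((smul_eq_of_sq hodd (by rw [hh12, h2])).symm.trans hh12)
  · rw [Set.mem_singleton_iff] at h2
    exact hne12 (smul_left_cancel h (hh12.trans h2.symm))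

end CfsgLib.SylowFix
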