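import Cfsg.Agent.Lib.SylowFix.NoTri
import Cfsg.Agent.Lib.SylowFix.SOne
import Cfsg.Agent.Lib.SylowFix.Totals
import Cfsg.Agent.Lib.SylowFix.Triangle

/-!
Good pairs do not exist under the standing hypotheses.
-/

set_option autoImplicit false

open scoped Pointwise
open MulAction

namespace CfsgLib.SylowFix

universe u v

variable {p : ℕ} {G : Type u} [Group G] {α : Type v} [MulAction G α]
  [Finite G] [hp : Fact p.Prime] [Finite α]

theorem no_good (hS : Setting p G α) {x₀ y₀ : α} (h₀ : Good p G x₀ y₀) : False := by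
  classical
  have hex : ∃ m, ∃ x y : α, Good p G x y ∧ (Theta p G x y).ncard = m := ⟨_, x₀, y₀, h₀, rfl⟩
  set m := Nat.find hex with hmdef
  obtain ⟨a, b, hg, hab0⟩ := Nat.find_spec hex
  have hmin : ∀ x y : α, Good p G x y → m ≤ (Theta p G x y).ncard := fun x y h =>
    Nat.find_min' hex ⟨x, y, h, rfl⟩
  rw [← hmdef] at hab0
  obtain ⟨s, hs⟩ : ∃ s, (line p G a b).ncard = s + 1 :=
    ⟨(line p G a b).ncard - 1, by
      have := (Set.ncard_pos).2 ⟨a, hg.left_mem_line⟩; omega⟩
  have hab : Edge p G m s a b := ⟨hg, hab0, hs⟩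
  have hs1 : 1 ≤ s := by
    have : ({a, b} : Set α) ⊆ line p G a b :=
      Set.insert_subset hg.left_mem_line (Set.singleton_subset_iff.2 hg.right_mem_line)
    have := Set.ncard_le_ncard this
    rw [Set.ncard_pair hg.1, hs] at this
    omega
  rcases eq_or_lt_of_le hs1 with h | hs2
  · subst h
    exact no_line_two hS hab
  obtain ⟨P, hP⟩ := hg.2.1.1
  obtain ⟨σ, hσ, hmove, hno, hJ⟩ := dev_totals hS hab hP.1
  have hm := hab.1.2.1.2
  rw [hab.2.1] at hm
  have hp3 : 3 ≤ p := by have := hp.out.two_le; have := hS.odd; omega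
  rcases eq_or_lt_of_le (show 2 ≤ s from hs2) with h | hs3
  · subst h
    by_cases htri : ∃ x y : α, Edge p G m 2 x y ∧ (tri p G m 2 x y).Nonempty
    · obtain ⟨x, y, hxy, ht⟩ := htri
      exact no_triangle hS hxy ht hmin
    · push Not at htri
      have hno' : ∀ x y : α, Edge p G m 2 x y → ¬ (tri p G m 2 x y).Nonempty :=
        fun x y h ht => Set.nonempty_iff_ne_empty.1 ht (htri x y h)
      have h6 := hno hno'
      have h3 := fixed_labels_le_three hS hab hP.1 hno'
      have h3' : (m : ℤ) - p ≤ 3 := by omega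
      have hm2 : (m : ℤ) < 2 * p := by exact_mod_cast hm.2
      have hp3' : (3 : ℤ) ≤ p := by exact_mod_cast hp3
      push_cast at h6
      rcases eq_or_lt_of_le hp3 with h | h
      · subst h; linarith
      · have : p ≠ 4 := fun h4 => by
          subst h4; exact absurd hp.out (by decide)
        have : (5 : ℤ) ≤ p := by exact_mod_cast (show 5 ≤ p by omega)
        linarith
  · obtain ⟨F, hF⟩ : ∃ F, m = p + 1 + F := ⟨m - p - 1, by omega⟩
    rw [hF] at hm hmove hJ
    have e1 : p + 1 + F - p - 1 = F := by omega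
    have e2 : p + 1 + F - 1 = p + F := by omega
    rw [e1, e2] at hmove
    have h1 : s * F ≤ p + F := by
      have : s * (s * F) ≤ s * (p + F) := by rw [← mul_assoc]; omega
      exact Nat.le_of_mul_le_mul_left this (by omega)
    have h2 : 3 * F ≤ s * F := Nat.mul_le_mul_right F hs3
    obtain ⟨k, hk⟩ := hp.out.odd_of_ne_two hS.odd
    have h3 : 2 * F + 1 ≤ p := by omega
    have h3' : 2 * (F : ℤ) + 1 ≤ p := by exact_mod_cast h3
    have hs' : (3 : ℤ) ≤ s := by exact_mod_cast hs3
    have hσ' : (σ : ℤ) ≤ s := by exact_mod_cast hσ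
    have hp3' : (3 : ℤ) ≤ p := by exact_mod_cast hp3
    push_cast at hJ
    have hj : (0 : ℤ) ≤ (p : ℤ) - 2 - F := by
      have : p + 1 + F < 2 * p := hm.2
      omega
    have h4 : (6 : ℤ) ≤ (s : ℤ) * s - σ := by nlinarith
    have h5 := mul_le_mul_of_nonneg_right h4 (show (0 : ℤ) ≤ (p : ℤ) - 1 - F by linarith)
    have h6 := mul_le_mul_of_nonneg_right hs' hj
    linarith

end CfsgLib.SylowFix
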