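import Mathlib.GroupTheory.GroupAction.Jordan
import Mathlib.GroupTheory.GroupAction.SubMulAction.OfFixingSubgroup
import Mathlib.GroupTheory.Index
import Mathlib.GroupTheory.Perm.Cycle.Type
import Cfsg.Agent.Lib.SylowFix.Main

/-!
The fixed-point bound of Herzog and Praeger, by induction on the degree.
-/

set_option autoImplicit false

open scoped Pointwise
open MulAction

namespace CfsgLib.SylowFix

universe u v

variable {p : ℕ} {G : Type u} [Group G] {α : Type v} [MulAction G α]

theorem ncard_Fix_eq [Finite G] [Fact p.Prime] (P Q : Sylow p G) :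
    (Fix (α := α) (Q : Subgroup G)).ncard = (Fix (α := α) (P : Subgroup G)).ncard := by
  obtain ⟨g, rfl⟩ := MulAction.exists_smul_eq G P Q
  have := ncard_inter_Fix_smul g P (Set.univ : Set α)
  simpa using this

theorem dev_univ_eq [Finite G] [Fact p.Prime] (P Q : Sylow p G) :
    dev p (Q : Subgroup G) (Set.univ : Set α) = dev p (P : Subgroup G) (Set.univ : Set α) := by
  simp only [dev, Set.univ_inter, ncard_Fix_eq P Q]

theorem Fix_nonempty_all [Finite G] [Fact p.Prime] (P Q : Sylow p G)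
    (h : (Fix (α := α) (P : Subgroup G)).Nonempty) :
    (Fix (α := α) (Q : Subgroup G)).Nonempty := by
  obtain ⟨g, rfl⟩ := MulAction.exists_smul_eq G P Q
  obtain ⟨c, hc⟩ := h
  exact ⟨g • c, (mem_Fix_smul_iff g P c).2 hc⟩

variable [Finite G] [hp : Fact p.Prime] [Finite α]

/-! ### Imprimitive actions -/

omit [Finite G] hp [Finite α] in
theorem mem_Fix_subtype {B : Set α} {P : Subgroup G} {C : orbit G B} :
    C ∈ Fix (α := orbit G B) P ↔ (C : Set α) ∈ Fix (α := Set α) P := by
  rw [mem_Fix, mem_Fix]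
  exact ⟨fun h g hg => congrArg Subtype.val (h g hg), fun h g hg => Subtype.ext (h g hg)⟩

omit [Finite G] [Finite α] in
theorem block_unique {B : Set α} (hB : IsBlock G B) {C D : Set α} (hC : C ∈ orbit G B)
    (hD : D ∈ orbit G B) {x : α} (hxC : x ∈ C) (hxD : x ∈ D) : C = D := by
  obtain ⟨g, rfl⟩ := hC
  obtain ⟨h, rfl⟩ := hD
  by_contra hne
  exact Set.disjoint_left.1 (hB hne) hxC hxD

omit [Finite G] [Finite α] in
theorem block_fixed_of_point {B : Set α} (hB : IsBlock G B) {C : Set α} (hC : C ∈ orbit G B)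
    {x : α} (hx : x ∈ C) {P : Subgroup G} (hP : x ∈ Fix P) : C ∈ Fix (α := Set α) P := by
  refine mem_Fix.2 fun g hg => ?_
  obtain ⟨l, rfl⟩ := hC
  refine block_unique hB ⟨g * l, mul_smul g l B⟩ ⟨l, rfl⟩ ?_ hx
  have := Set.smul_mem_smul_set (a := g) hx
  rwa [mem_Fix.1 hP g hg] at this

/-- The bound for an imprimitive action, with more. -/
theorem imprimitive (hn : 2 ≤ Nat.card α) (hB : Below.{u, v} p (Nat.card α))
    (ht : IsPretransitive G α) (hgen : SylGen p G) (hnp : ¬ IsPreprimitive G α)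
    (P : Sylow p G) (hfix : (Fix (α := α) (P : Subgroup G)).Nonempty) :
    0 ≤ dev p (P : Subgroup G) (Set.univ : Set α) ∧
      (p ≠ 2 → dev p (P : Subgroup G) (Set.univ : Set α) ≤ (2 * (p : ℤ) - 5) * p →
        p + 2 ≤ patterns p G α ∧ patterns p G α < 2 * p) := by
  classical
  obtain ⟨a, ha⟩ := hfix
  -- a block at a fixed point
  obtain ⟨B, hBl, haB, hBs, hBu⟩ :
      ∃ B : Set α, IsBlock G B ∧ a ∈ B ∧ ¬ B.Subsingleton ∧ B ≠ Set.univ := by
    by_contra hcon
    push Not at hcon
    refine hnp { toIsPretransitive := ht, isTrivialBlock_of_isBlock := fun {B} hBl => ?_ }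
    rcases B.eq_empty_or_nonempty with rfl | ⟨b, hb⟩
    · exact Or.inl Set.subsingleton_empty
    obtain ⟨g, hg⟩ := exists_smul_eq G b a
    by_cases hs : B.Subsingleton
    · exact Or.inl hs
    refine Or.inr ?_
    have h1 := hcon (g • B) (hBl.translate g) (hg ▸ Set.smul_mem_smul_set hb) (Set.not_subsingleton_iff.1 fun h => hs (by
      intro x hx y hy
      exact smul_left_cancel g (h (Set.smul_mem_smul_set hx) (Set.smul_mem_smul_set hy))))
    rw [← inv_smul_smul g B, h1, Set.smul_set_univ]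
  set β := orbit G B with hβ
  set s := B.ncard with hs
  have hs2 : 2 ≤ s := by
    by_contra h
    exact hBs ((Set.ncard_le_one (Set.toFinite _)).1 (by omega))
  have hcardC : ∀ C ∈ β, C.ncard = s := by
    rintro _ ⟨g, rfl⟩
    exact Set.ncard_smul_set g B
  have hcover : ∀ x : α, ∃ C ∈ β, x ∈ C := fun x => by
    obtain ⟨g, rfl⟩ := exists_smul_eq G a x
    exact ⟨g • B, ⟨g, rfl⟩, Set.smul_mem_smul_set haB⟩
  have hsizes : s * Nat.card β = Nat.card α := by
    rw [Nat.card_coe_set_eq]
    exact hBl.ncard_block_mul_ncard_orbit_eq ⟨a, haB⟩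
  have hβ2 : 2 ≤ Nat.card β := by
    by_contra h
    have h1 : Nat.card β ≤ 1 := by omega
    refine hBu (Set.eq_univ_of_forall fun x => ?_)
    obtain ⟨C, hC, hx⟩ := hcover x
    rw [Nat.card_coe_set_eq] at h1
    rwa [(Set.ncard_le_one (Set.toFinite _)).1 h1 C hC B (mem_orbit_self B)] at hx
  have hβlt : Nat.card β < Nat.card α := by
    rw [← hsizes]
    calc Nat.card β = 1 * Nat.card β := (one_mul _).symm
      _ < s * Nat.card β := Nat.mul_lt_mul_of_pos_right (by omega) (by omega)
  have hBfix : B ∈ Fix (α := Set α) (P : Subgroup G) :=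
    block_fixed_of_point hBl (mem_orbit_self B) haB ha
  have hfixβ : (Fix (α := β) (P : Subgroup G)).Nonempty :=
    ⟨⟨B, mem_orbit_self B⟩, mem_Fix_subtype.2 hBfix⟩
  obtain ⟨htop, htopB⟩ := hB G β hβlt inferInstance hgen hβ2 P hfixβ
  set Φ := {C ∈ β | C ∈ Fix (α := Set α) (P : Subgroup G)} with hΦ
  have hΦc : ((Set.univ : Set β) ∩ Fix (P : Subgroup G)).ncard = Φ.ncard := by
    rw [← Set.ncard_image_of_injective _ Subtype.val_injective]
    congr 1
    ext C
    constructor
    · rintro ⟨D, ⟨-, hD⟩, rfl⟩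
      exact ⟨D.2, mem_Fix_subtype.1 hD⟩
    · rintro ⟨h1, h2⟩
      exact ⟨⟨C, h1⟩, ⟨trivial, mem_Fix_subtype.2 h2⟩, rfl⟩
  have hinc : ∀ x ∈ (Fix (α := α) (P : Subgroup G)), {C ∈ Φ | x ∈ C}.ncard = 1 := by
    intro x hx
    obtain ⟨C, hC, hxC⟩ := hcover x
    exact Set.ncard_eq_one.2 ⟨C, Set.ext fun D => ⟨fun h => block_unique hBl h.1.1 hC h.2 hxC,
      fun h => h.symm ▸ ⟨⟨hC, block_fixed_of_point hBl hC hxC hx⟩, hxC⟩⟩⟩
  have hdevtop : dev p (P : Subgroup G) (Set.univ : Set β) =
      ((p : ℤ) - 1) * (Nat.card β) - (2 * (p : ℤ) - 1) * Φ.ncard := by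
    rw [dev, hΦc, Set.ncard_univ]
  have hdev : dev p (P : Subgroup G) (Set.univ : Set α) =
      ((p : ℤ) - 1) * ((s : ℤ) * Nat.card β) -
        (2 * (p : ℤ) - 1) * (Fix (α := α) (P : Subgroup G)).ncard := by
    rw [dev, Set.univ_inter, Set.ncard_univ, ← hsizes]
    push_cast
    rfl
  have hp2' : (2 : ℤ) ≤ p := by exact_mod_cast hp.out.two_le
  by_cases htriv : ∀ x ∈ B, sylFix p B ⊆ (sylFix p x : Set (Sylow p G))
  · -- the patterns are those of the blocks
    have hpoint : ∀ C ∈ β, ∀ x ∈ C,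
        (sylFix p x : Set (Sylow p G)) = sylFix p C := by
      rintro _ ⟨g, rfl⟩ x hx
      refine Set.Subset.antisymm (fun Q hQ => block_fixed_of_point hBl ⟨g, rfl⟩ hx hQ) ?_
      obtain ⟨x', hx', rfl⟩ := Set.mem_smul_set.1 hx
      show sylFix p (g • B) ⊆ sylFix p (g • x')
      rw [← smul_sylFix, ← smul_sylFix]
      exact Set.smul_set_mono (htriv x' hx')
    have hfixC : ∀ C ∈ Φ, C ∩ Fix (P : Subgroup G) = C := fun C hC =>
      Set.inter_eq_left.2 fun x hx => by
        show P ∈ sylFix p x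
        rw [hpoint C hC.1 x hx]
        exact hC.2
    have hf : (Fix (α := α) (P : Subgroup G)).ncard * 1 = Φ.ncard * s :=
      double_count (r := fun x C => x ∈ C) hinc fun C hC => by
        rw [← hcardC C hC.1]
        congr 1
        conv_rhs => rw [← hfixC C hC]
        ext x
        exact and_comm
    rw [mul_one] at hf
    have heq : dev p (P : Subgroup G) (Set.univ : Set α) =
        (s : ℤ) * dev p (P : Subgroup G) (Set.univ : Set β) := by
      rw [hdev, hdevtop, hf]
      push_cast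
      ring
    refine ⟨by rw [heq]; exact mul_nonneg (Int.natCast_nonneg _) htop, fun hp2 hle => ?_⟩
    have hpat : patterns p G α = patterns p G β := by
      unfold patterns
      congr 1
      ext A
      constructor
      · rintro ⟨x, rfl⟩
        obtain ⟨C, hC, hxC⟩ := hcover x
        refine ⟨⟨C, hC⟩, ?_⟩
        simp only [hpoint C hC x hxC]
        exact Set.ext fun Q => mem_Fix_subtype
      · rintro ⟨⟨C, hC⟩, rfl⟩
        obtain ⟨x, hx⟩ : C.Nonempty :=
          Set.nonempty_of_ncard_ne_zero (by rw [hcardC C hC]; omega)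
        refine ⟨x, ?_⟩
        simp only [hpoint C hC x hx]
        exact Set.ext fun Q =>
          (mem_Fix_subtype (P := (Q : Subgroup G)) (C := (⟨C, hC⟩ : β))).symm
    rw [hpat]
    refine htopB hp2 ?_
    obtain ⟨k, hk⟩ := dvd_dev P.2 (U := (Set.univ : Set β)) (fun _ _ _ _ => trivial)
    rw [heq] at hle
    rw [hk] at hle htop ⊢
    have hk0 : 0 ≤ k := (mul_nonneg_iff_of_pos_left (by linarith : (0 : ℤ) < p)).1 htop
    have h2k : 2 * ((p : ℤ) * k) ≤ (s : ℤ) * ((p : ℤ) * k) :=
      mul_le_mul_of_nonneg_right (by exact_mod_cast hs2) htop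
    have : k < (p : ℤ) - 2 := by nlinarith
    nlinarith
  · push Not at htriv
    obtain ⟨x₀, hx₀, hx₀n⟩ := htriv
    -- the deficiency of a fixed block
    have hnone : ∀ C ∈ β, ∀ x ∈ C, ¬ sylFix p C ⊆ (sylFix p x : Set (Sylow p G)) := by
      rintro C hC x hx hsub
      obtain ⟨g, hg⟩ := exists_smul_eq G x x₀
      have hgC : g • C = B := block_unique hBl
        (by obtain ⟨l, rfl⟩ := hC; exact ⟨g * l, mul_smul g l B⟩) (mem_orbit_self B)
        (Set.smul_mem_smul_set hx) (hg.symm ▸ hx₀)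
      apply hx₀n
      rw [← hg, ← hgC, ← smul_sylFix, ← smul_sylFix]
      exact Set.smul_set_mono hsub
    have hblock : ∀ C ∈ Φ,
        (2 * p - 1) * (C ∩ Fix (P : Subgroup G)).ncard ≤ (p - 1) * s ∧ p ≤ s := by
      rintro C ⟨hC, hCf⟩
      set K := gen (sylFix p C : Set (Sylow p G)) with hK
      have hKC : ∀ k ∈ K, ∀ x ∈ C, k • x ∈ C := fun k hk x hx =>
        (mem_stabilizer_iff.1 (gen_sylFix_le (p := p) C hk)) ▸ Set.smul_mem_smul_set hx
      have hmoved : ∀ x ∈ C, p ≤ (orbit K x).ncard := by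
        intro x hx
        obtain ⟨Q, hQ, hQx⟩ := Set.not_subset.1 (hnone C hC x hx)
        refine le_trans (le_ncard_orbit Q.2 hQx) (Set.ncard_le_ncard ?_)
        rintro _ ⟨q, rfl⟩
        exact ⟨⟨q, le_gen hQ q.2⟩, rfl⟩
      have hlt : ∀ x ∈ C, (orbit K x).ncard < Nat.card α := fun x hx => by
        refine lt_of_le_of_lt (Set.ncard_le_ncard (orbit_subset_of_invariant hKC hx)) ?_
        rw [hcardC C hC, ← hsizes]
        calc s = s * 1 := (mul_one _).symm
          _ < s * Nat.card β := Nat.mul_lt_mul_of_pos_left (by omega) (by omega)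
      have hpos := dev_nonneg_of_orbits (P : Subgroup G) hKC fun x hx =>
        dev_orbit_nonneg hB (hlt x hx) (le_trans hp.out.two_le (hmoved x hx)) (le_gen hCf)
      rw [dev, hcardC C hC] at hpos
      obtain ⟨x, hx⟩ : C.Nonempty := Set.nonempty_of_ncard_ne_zero (by rw [hcardC C hC]; omega)
      refine ⟨?_, le_trans (hmoved x hx) (hcardC C hC ▸
        Set.ncard_le_ncard (orbit_subset_of_invariant hKC hx))⟩
      have h1 : 1 ≤ p := hp.out.one_lt.le
      have h2 : 1 ≤ 2 * p := by omega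
      zify [h1, h2]
      linarith
    set k₀ := (p - 1) * s / (2 * p - 1) with hk₀
    have hinc' : (inc Φ (Fix (α := α) (P : Subgroup G)) (fun C x => x ∈ C)).ncard ≤ Φ.ncard * k₀ := by
      refine ncard_inc_le fun C hC => ?_
      rw [hk₀, Nat.le_div_iff_mul_le (by have := hp.out.two_le; omega), mul_comm]
      refine le_trans (Nat.mul_le_mul_left _ (le_of_eq ?_)) (hblock C hC).1
      congr 1
      ext x
      exact and_comm
    have hinc'' : (inc Φ (Fix (α := α) (P : Subgroup G)) (fun C x => x ∈ C)).ncard =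
        (Fix (α := α) (P : Subgroup G)).ncard := by
      rw [ncard_inc_swap, ncard_inc_left (k := 1) hinc, mul_one]
    rw [hinc''] at hinc'
    have hk₀' : k₀ * (2 * p - 1) ≤ (p - 1) * s := Nat.div_mul_le_self _ _
    have hps : p ≤ s := (hblock B ⟨mem_orbit_self B, hBfix⟩).2
    -- `P` moves a block
    have hmv : p + 1 ≤ Nat.card β := by
      obtain ⟨C, hC⟩ : ∃ C : β, C ∉ Fix (α := β) (P : Subgroup G) := by
        by_contra hall
        push Not at hall
        have hall' : ∀ Q : Sylow p G, (Q : Subgroup G) ≤ stabilizer G B := fun Q => by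
          obtain ⟨g, rfl⟩ := MulAction.exists_smul_eq G P Q
          have := (mem_Fix_smul_iff g P (⟨g⁻¹ • B, ⟨g⁻¹, rfl⟩⟩ : β)).2 (hall _)
          have h := mem_Fix_subtype.1 this
          rw [orbit.coe_smul, smul_inv_smul] at h
          exact h
        refine hBu (Set.eq_univ_of_forall fun x => ?_)
        obtain ⟨g, rfl⟩ := exists_smul_eq G a x
        have hg : g ∈ stabilizer G B :=
          gen_le.2 (fun Q _ => hall' Q) (hgen.symm ▸ Subgroup.mem_top g)
        rw [← mem_stabilizer_iff.1 hg]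
        exact Set.smul_mem_smul_set haB
      have h1 := le_ncard_orbit P.2 hC
      have hB0 : (⟨B, mem_orbit_self B⟩ : β) ∉ orbit (P : Subgroup G) C := by
        rintro ⟨q, hq⟩
        have h2 := mem_Fix.1 (mem_Fix_subtype (C := (⟨B, mem_orbit_self B⟩ : β)).2 hBfix) q q.2
        change (q : G) • C = _ at hq
        have h3 := hq.trans h2.symm
        exact hC ((smul_left_cancel (q : G) h3) ▸ mem_Fix_subtype.2 hBfix)
      have h2 := Set.ncard_le_ncard
        (Set.subset_univ (insert (⟨B, mem_orbit_self B⟩ : β) (orbit (P : Subgroup G) C)))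
      rw [Set.ncard_insert_of_notMem hB0, Set.ncard_univ] at h2
      omega
    have h1 : 1 ≤ p := hp.out.one_lt.le
    have h2 : 1 ≤ 2 * p := by omega
    zify [h1, h2] at hk₀' hinc' hps hmv
    rw [hdevtop] at htop
    set f : ℤ := ((Fix (α := α) (P : Subgroup G)).ncard : ℤ)
    set N : ℤ := (Nat.card β : ℤ)
    set S : ℤ := (s : ℤ)
    set F : ℤ := (Φ.ncard : ℤ)
    have hf1 : (2 * (p : ℤ) - 1) * f ≤ F * (((p : ℤ) - 1) * S) := by
      have h3 := mul_le_mul_of_nonneg_left hinc' (show (0 : ℤ) ≤ 2 * (p : ℤ) - 1 by linarith)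
      have h4 := mul_le_mul_of_nonneg_left hk₀' (Int.natCast_nonneg Φ.ncard)
      linarith
    have hS0 : (0 : ℤ) ≤ S := Int.natCast_nonneg _
    have hf2 : (2 * (p : ℤ) - 1) * ((2 * (p : ℤ) - 1) * f) ≤
        ((p : ℤ) - 1) * ((p : ℤ) - 1) * (S * N) := by
      have h3 := mul_le_mul_of_nonneg_left hf1 (show (0 : ℤ) ≤ 2 * (p : ℤ) - 1 by linarith)
      have h4 := mul_le_mul_of_nonneg_left (show (2 * (p : ℤ) - 1) * F ≤ ((p : ℤ) - 1) * N by
        linarith) (mul_nonneg (show (0 : ℤ) ≤ (p : ℤ) - 1 by linarith) hS0)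
      linarith
    have hSN : (p : ℤ) * ((p : ℤ) + 1) ≤ S * N :=
      mul_le_mul hps hmv (by linarith) hS0
    have hbig : ((p : ℤ) - 1) * (S * N) * p ≤
        (2 * (p : ℤ) - 1) * dev p (P : Subgroup G) (Set.univ : Set α) := by
      rw [hdev]
      linarith
    constructor
    · have : 0 ≤ ((p : ℤ) - 1) * (S * N) * p := by
        have : (0 : ℤ) ≤ S * N := le_trans (by positivity) hSN
        have : (0 : ℤ) ≤ (p : ℤ) - 1 := by linarith
        positivity
      exact (mul_nonneg_iff_of_pos_left (show (0 : ℤ) < 2 * (p : ℤ) - 1 by linarith)).1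
        (le_trans this hbig)
    · intro _ hle
      exfalso
      have h3 := mul_le_mul_of_nonneg_left hle (show (0 : ℤ) ≤ 2 * (p : ℤ) - 1 by linarith)
      have h4 := mul_le_mul_of_nonneg_left hSN (show (0 : ℤ) ≤ (p : ℤ) - 1 by linarith)
      have h5 : ((p : ℤ) - 1) * ((p : ℤ) * ((p : ℤ) + 1)) ≤ (2 * (p : ℤ) - 1) * (2 * (p : ℤ) - 5) :=
        by nlinarith
      nlinarith [mul_nonneg (show (0 : ℤ) ≤ (p : ℤ) by linarith) (sq_nonneg ((p : ℤ) - 2))]

/-! ### Primitive actions -/

omit hp [Finite α] in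
theorem sylFix_le_gen_iff (a : α) :
    {Q : Sylow p G | (Q : Subgroup G) ≤ gen (sylFix p a : Set (Sylow p G))} = sylFix p a :=
  Set.ext fun _ => ⟨fun h => h.trans (gen_sylFix_le a), le_gen⟩

omit hp [Finite α] in
theorem image_patterns_eq (a y : α) :
    (fun z => {Q : Sylow p G | (Q : Subgroup G) ≤ gen (sylFix p a : Set (Sylow p G)) ∧
      Q ∈ sylFix p z}) '' orbit (gen (sylFix p a : Set (Sylow p G))) y = Theta p G a y := by
  have h : ∀ z : α, {Q : Sylow p G | (Q : Subgroup G) ≤ gen (sylFix p a : Set (Sylow p G)) ∧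
      Q ∈ sylFix p z} = lab p a z := fun z => Set.ext fun Q =>
    ⟨fun hQ => ⟨hQ.1.trans (gen_sylFix_le a), hQ.2⟩, fun hQ => ⟨le_gen hQ.1, hQ.2⟩⟩
  simp only [h]
  ext θ
  constructor
  · rintro ⟨_, ⟨⟨g, hg⟩, rfl⟩, rfl⟩
    exact mem_Theta.2 ⟨g, hg, rfl⟩
  · intro hθ
    obtain ⟨g, hg, rfl⟩ := mem_Theta.1 hθ
    exact ⟨g • y, ⟨⟨g, hg⟩, rfl⟩, rfl⟩

omit hp [Finite α] in
theorem lab_nonempty_of_orbit {a y : α} {P : Sylow p G} (hP : P ∈ sylFix p a)
    (h : (orbit (gen (sylFix p a : Set (Sylow p G))) y ∩ Fix (P : Subgroup G)).Nonempty) :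
    (lab p a y : Set (Sylow p G)).Nonempty := by
  obtain ⟨_, ⟨⟨g, hg⟩, rfl⟩, hf⟩ := h
  refine ⟨g⁻¹ • P, ?_, ?_⟩
  · have := (mem_Fix_smul_iff g⁻¹ P a).2 hP
    rwa [smul_eq_of_mem_gen subset_rfl (inv_mem hg)] at this
  · have := (mem_Fix_smul_iff g⁻¹ P (g • y)).2 hf
    rwa [inv_smul_smul] at this

theorem small_of_orbit [IsPreprimitive G α] (hB : Below.{u, v} p (Nat.card α))
    (hgen : SylGen p G) (hp2 : p ≠ 2) {a y : α} (hy : y ≠ a) {P : Sylow p G}
    (hP : a ∈ Fix (P : Subgroup G))
    (hd : dev p (P : Subgroup G) (orbit (gen (sylFix p a : Set (Sylow p G))) y) ≤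
      ((p : ℤ) - 3) * p) : Small p G a y := by
  have h2 := two_le_ncard_orbit_gen hgen P ⟨a, hP⟩ hy
  have hlt : (orbit (gen (sylFix p a : Set (Sylow p G))) y).ncard < Nat.card α := by
    rw [← Set.ncard_univ]
    exact Set.ncard_lt_ncard (Set.ssubset_univ_iff.2 fun h =>
      not_mem_orbit_gen hy (h.symm ▸ Set.mem_univ a) rfl)
  have hfix : (orbit (gen (sylFix p a : Set (Sylow p G))) y ∩ Fix (P : Subgroup G)).Nonempty := by
    rw [Set.nonempty_iff_ne_empty]
    intro he
    rw [dev, he, Set.ncard_empty] at hd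
    obtain ⟨k, hk⟩ := exists_ncard_eq_Fix_add P.2
      (U := orbit (gen (sylFix p a : Set (Sylow p G))) y)
      (fun g hg z hz => orbit_invariant _ y g (le_gen hP hg) z hz)
    rw [he, Set.ncard_empty, zero_add] at hk
    rw [hk] at hd h2
    have : 1 ≤ k := by rcases Nat.eq_zero_or_pos k with rfl | h; · omega
                       · exact h
    have hk' : (1 : ℤ) ≤ k := by exact_mod_cast this
    have hp2' : (2 : ℤ) ≤ p := by exact_mod_cast hp.out.two_le
    push_cast at hd
    have := mul_le_mul_of_nonneg_left hk' (show (0 : ℤ) ≤ ((p : ℤ) - 1) * p by nlinarith)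
    nlinarith
  obtain ⟨-, hb⟩ := bound_orbit hB hlt h2 (le_gen hP) hfix
  have hb' := hb hp2 hd
  rw [image_patterns_eq] at hb'
  exact ⟨lab_nonempty_of_orbit hP hfix, hb'.1, hb'.2⟩

theorem good_of_two_trans {a y : α} [IsPretransitive G α] (hy : y ≠ a) (h : Small p G a y)
    (htr : ∀ z, z ≠ a → z ∈ orbit (stabilizer G a) y) : Good p G a y := by
  obtain ⟨g, hg⟩ := exists_smul_eq G a y
  have hne : g⁻¹ • a ≠ a := fun he => hy (by rw [← hg]; exact (inv_smul_eq_iff.1 he).symm)
  obtain ⟨⟨k, hk⟩, hky⟩ := htr _ hne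
  change k • y = g⁻¹ • a at hky
  refine ⟨hy.symm, h, ?_⟩
  have := h.smul (g * k)
  rwa [mul_smul, mul_smul, mem_stabilizer_iff.1 hk, hg, hky, smul_inv_smul] at this

theorem dev_stab_orbit_eq {a y : α} (hN : ∀ x z : α,
      (sylFix p x : Set (Sylow p G)).ncard = (sylFix p z : Set (Sylow p G)).ncard)
    [IsPretransitive G α] {P P' : Sylow p G} (hP : a ∈ Fix (P : Subgroup G))
    (hP' : y ∈ Fix (P' : Subgroup G)) :
    dev p (P' : Subgroup G) (orbit (stabilizer G y) a) =
      dev p (P : Subgroup G) (orbit (stabilizer G a) y) := by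
  have hcard : (orbit (stabilizer G y) a).ncard = (orbit (stabilizer G a) y).ncard := by
    have h1 : ∀ x z : α, (orbit (stabilizer G x) z).ncard *
        Nat.card (stabilizer G x ⊓ stabilizer G z : Subgroup G) = Nat.card (stabilizer G x) := by
      intro x z
      rw [← index_stabilizer]
      have : Nat.card (stabilizer G x ⊓ stabilizer G z : Subgroup G) =
          Nat.card (stabilizer (stabilizer G x) z) := by
        refine Nat.card_congr ⟨fun g => ⟨⟨g, g.2.1⟩, g.2.2⟩, fun g => ⟨g.1, g.1.2, g.2⟩,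
          fun g => rfl, fun g => rfl⟩
      rw [this]
      exact Subgroup.index_mul_card _
    have h2 : Nat.card (stabilizer G y) = Nat.card (stabilizer G a) := by
      obtain ⟨g, rfl⟩ := exists_smul_eq G a y
      exact (Nat.card_congr (stabilizerEquivStabilizer (g := g) rfl).toEquiv).symm
    have h3 := h1 y a
    rw [inf_comm, h2, ← h1 a y] at h3
    exact Nat.eq_of_mul_eq_mul_right Nat.card_pos h3
  have hfix : (orbit (stabilizer G y) a ∩ Fix (P' : Subgroup G)).ncard =
      (orbit (stabilizer G a) y ∩ Fix (P : Subgroup G)).ncard := by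
    have r1 := orbit_ratio (K := stabilizer G a) hP y
    have r2 := orbit_ratio (K := stabilizer G y) hP' a
    have e1 : ∀ x : α, {Q : Sylow p G | (Q : Subgroup G) ≤ stabilizer G x} = sylFix p x :=
      fun x => rfl
    have e2 : ∀ x z : α, {Q : Sylow p G | (Q : Subgroup G) ≤ stabilizer G x ∧ Q ∈ sylFix p z} =
        lab p x z := fun x z => rfl
    rw [e1, e2] at r1 r2
    rw [hcard, lab_comm y a, ← r1, hN y a] at r2
    exact Nat.eq_of_mul_eq_mul_left ((Set.ncard_pos).2 ⟨P, hP⟩) r2
  rw [dev, dev, hcard, hfix]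

theorem exists_good_of_stab_orbit [IsPreprimitive G α] (hB : Below.{u, v} p (Nat.card α))
    (hgen : SylGen p G) (hp2 : p ≠ 2) {a y : α} (hy : y ≠ a) {P : Sylow p G}
    (hP : a ∈ Fix (P : Subgroup G))
    (hd : dev p (P : Subgroup G) (orbit (stabilizer G a) y) ≤ ((p : ℤ) - 3) * p) :
    Good p G a y := by
  have key : ∀ {x z : α}, z ≠ x → ∀ {R : Sylow p G}, x ∈ Fix (R : Subgroup G) →
      dev p (R : Subgroup G) (orbit (stabilizer G x) z) ≤ ((p : ℤ) - 3) * p → Small p G x z := by
    intro x z hz R hR hd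
    refine small_of_orbit hB hgen hp2 hz hR (le_trans ?_ hd)
    have hsub : orbit (gen (sylFix p x : Set (Sylow p G))) z ⊆ orbit (stabilizer G x) z := by
      rintro _ ⟨⟨g, hg⟩, rfl⟩
      exact ⟨⟨g, gen_sylFix_le x hg⟩, rfl⟩
    rw [dev_eq_dev_add_dev_diff _ hsub]
    have := dev_nonneg_of_invariant hB hgen hR
      (U := orbit (stabilizer G x) z \ orbit (gen (sylFix p x : Set (Sylow p G))) z)
      (fun h => by
        obtain ⟨⟨g, hg⟩, hgz⟩ := h.1
        change g • z = x at hgz
        exact hz (smul_left_cancel g (hgz.trans (mem_stabilizer_iff.1 hg).symm)))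
      (diff_invariant (fun k hk => orbit_invariant _ z k (gen_sylFix_le x hk))
        (orbit_invariant _ z))
    linarith
  have h1 := key hy hP hd
  obtain ⟨P', hP'⟩ := sylFix_nonempty P ⟨a, hP⟩ y
  refine ⟨hy.symm, h1, key hy.symm hP' ?_⟩
  rw [dev_stab_orbit_eq (fun x z => ncard_sylFix_eq x z) hP hP']
  exact hd

theorem chain : ∀ (l : ℕ), 2 ≤ l → ∀ (G : Type u) [Group G] [Finite G] (α : Type v)
    [MulAction G α] [Finite α], IsPreprimitive G α → SylGen p G → p ≠ 2 →
    Below.{u, v} p (Nat.card α) → ∀ P : Sylow p G,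
    (Fix (α := α) (P : Subgroup G)).Nonempty →
    (Fix (α := α) (P : Subgroup G)).ncard + 2 * p ≤ Nat.card α →
    dev p (P : Subgroup G) (Set.univ : Set α) ≤ (2 * (p : ℤ) - 3 - l) * p →
    Sep G α l → False := by
  intro l hl
  induction l, hl using Nat.le_induction with
  | base =>
    intro G _ _ α _ _ hprim hgen hp2 hB P hfix htwo hd hsep
    have hS : Setting p G α := by
      refine ⟨hgen, hprim, hp2, hB, fun Q => Fix_nonempty_all P Q hfix, fun Q => ?_, fun Q => ?_⟩
      · rw [ncard_Fix_eq P Q]; exact htwo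
      · rw [dev_univ_eq P Q]; push_cast at hd; linarith
    obtain ⟨a, ha⟩ := hfix
    obtain ⟨y, hya, hsep'⟩ := exists_three_of_sep_two hsep a
    set O : Fin 3 → Set α := fun i => orbit (stabilizer G a) (y i) with hO
    have hinv : ∀ i, ∀ k ∈ gen (sylFix p a : Set (Sylow p G)), ∀ z ∈ O i, k • z ∈ O i :=
      fun i k hk => orbit_invariant _ (y i) k (gen_sylFix_le a hk)
    have haO : ∀ i, a ∉ O i := by
      rintro i ⟨⟨g, hg⟩, hgy⟩
      change g • y i = a at hgy
      exact hya i (smul_left_cancel g (hgy.trans (mem_stabilizer_iff.1 hg).symm))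
    have hdj : ∀ i j, i ≠ j → Disjoint (O i) (O j) := by
      intro i j hij
      rw [Set.disjoint_left]
      intro z h1 h2
      refine hsep' i j hij ?_
      rw [← orbit_eq_iff.2 h1, orbit_eq_iff.2 h2]
      exact mem_orbit_self _
    have hle := hS.dev_le_rest ha (U := O 0 ∪ (O 1 ∪ O 2))
      (fun h => by rcases h with h | h | h <;> exact haO _ h)
      (fun k hk z hz => by
        rcases hz with h | h | h
        exacts [Or.inl (hinv 0 k hk z h), Or.inr (Or.inl (hinv 1 k hk z h)),
          Or.inr (Or.inr (hinv 2 k hk z h))])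
    rw [dev_union _ (Set.disjoint_union_right.2 ⟨hdj 0 1 (by decide), hdj 0 2 (by decide)⟩),
      dev_union _ (hdj 1 2 (by decide))] at hle
    obtain ⟨i, hi⟩ : ∃ i, dev p (P : Subgroup G) (O i) ≤ ((p : ℤ) - 3) * p := by
      by_contra hcon
      push Not at hcon
      have hk : ∀ i, ((p : ℤ) - 2) * p ≤ dev p (P : Subgroup G) (O i) := by
        intro i
        obtain ⟨k, hk⟩ := dvd_dev P.2 (U := O i)
          (fun g hg => hinv i g (le_gen ha hg))
        have := hcon i
        rw [hk] at this ⊢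
        have hp0 : (0 : ℤ) < p := by exact_mod_cast hp.out.pos
        have : (p : ℤ) - 3 < k := lt_of_mul_lt_mul_left (by linarith) hp0.le
        nlinarith
      have hp3 : (3 : ℤ) ≤ p := by
        have := hp.out.two_le
        exact_mod_cast (show 3 ≤ p by omega)
      nlinarith [hk 0, hk 1, hk 2]
    exact no_good hS (exists_good_of_stab_orbit hB hgen hp2 (hya i) ha hi)
  | succ l hl ih =>
    intro G _ _ α _ _ hprim hgen hp2 hB P hfix htwo hd hsep
    have hl' : (2 : ℤ) ≤ l := by exact_mod_cast hl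
    have hp0 : (0 : ℤ) < p := by exact_mod_cast hp.out.pos
    push_cast at hd
    have hd5 : dev p (P : Subgroup G) (Set.univ : Set α) ≤ (2 * (p : ℤ) - 6) * p := by nlinarith
    have hS : Setting p G α := by
      refine ⟨hgen, hprim, hp2, hB, fun Q => Fix_nonempty_all P Q hfix, fun Q => ?_, fun Q => ?_⟩
      · rw [ncard_Fix_eq P Q]; exact htwo
      · rw [dev_univ_eq P Q]; nlinarith
    obtain ⟨a, ha⟩ := hfix
    set K := gen (sylFix p a : Set (Sylow p G)) with hK
    have hrest : dev p (P : Subgroup G) ({a}ᶜ : Set α) ≤ (2 * (p : ℤ) - 5) * p := by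
      rw [dev_compl_singleton ha]; linarith
    have hKinv : ∀ k ∈ K, ∀ z ∈ ({a}ᶜ : Set α), k • z ∈ ({a}ᶜ : Set α) := fun k hk z hz he =>
      hz (smul_left_cancel k (he.trans (smul_eq_of_mem_gen subset_rfl hk).symm))
    have hpick : ∀ (H : Subgroup G), K ≤ H → H ≤ stabilizer G a → ∀ y₀, y₀ ≠ a →
        orbit H y₀ ≠ ({a}ᶜ : Set α) →
        ∃ y, y ≠ a ∧ dev p (P : Subgroup G) (orbit H y) ≤ ((p : ℤ) - 3) * p := by
      intro H hKH hH y₀ hy₀ hne
      have hHinv : ∀ k ∈ H, ∀ z ∈ ({a}ᶜ : Set α), k • z ∈ ({a}ᶜ : Set α) := fun k hk z hz he =>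
        hz (smul_left_cancel k (he.trans (mem_stabilizer_iff.1 (hH hk)).symm))
      have hsub : orbit H y₀ ⊆ ({a}ᶜ : Set α) := orbit_subset_of_invariant hHinv hy₀
      by_cases h1 : dev p (P : Subgroup G) (orbit H y₀) ≤ ((p : ℤ) - 3) * p
      · exact ⟨y₀, hy₀, h1⟩
      obtain ⟨y, hy, hyn⟩ : (({a}ᶜ : Set α) \ orbit H y₀).Nonempty := by
        rw [Set.sdiff_nonempty]
        exact fun h => hne (Set.Subset.antisymm hsub h)
      refine ⟨y, hy, ?_⟩
      have hsub' : orbit H y ⊆ ({a}ᶜ : Set α) \ orbit H y₀ := fun z hz =>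
        ⟨orbit_subset_of_invariant hHinv hy hz, fun hz' => hyn (by
          rw [← orbit_eq_iff.2 hz', orbit_eq_iff.2 hz]
          exact mem_orbit_self _)⟩
      have h2 := dev_eq_dev_add_dev_diff (p := p) (P : Subgroup G) hsub
      have h3 := dev_eq_dev_add_dev_diff (p := p) (P : Subgroup G) hsub'
      have h4 := dev_nonneg_of_invariant hB hgen ha
        (U := (({a}ᶜ : Set α) \ orbit H y₀) \ orbit H y) (fun h => h.1.1 rfl)
        (diff_invariant (diff_invariant hKinv (fun k hk => orbit_invariant H y₀ k (hKH hk)))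
          (fun k hk => orbit_invariant H y k (hKH hk)))
      obtain ⟨k, hk⟩ := dvd_dev P.2 (U := orbit H y₀)
        (fun g hg => orbit_invariant H y₀ g (hKH (le_gen ha hg)))
      rw [hk] at h1 h2
      have : (p : ℤ) - 3 < k := lt_of_mul_lt_mul_left (by linarith [not_le.1 h1]) hp0.le
      nlinarith
    obtain ⟨y₀, hy₀⟩ : ∃ y₀ : α, y₀ ≠ a := by
      by_contra h
      push Not at h
      have : Subsingleton α := ⟨fun x z => (h x).trans (h z).symm⟩
      have := Finite.card_le_one_iff_subsingleton.2 this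
      have := hp.out.two_le
      omega
    by_cases hstab : orbit (stabilizer G a) y₀ = ({a}ᶜ : Set α)
    swap
    · obtain ⟨y, hy, hyd⟩ := hpick _ (gen_sylFix_le a) le_rfl y₀ hy₀ hstab
      exact no_good hS (exists_good_of_stab_orbit hB hgen hp2 hy ha hyd)
    have htr2 : ∀ y, y ≠ a → ∀ z, z ≠ a → z ∈ orbit (stabilizer G a) y := fun y hy z hz => by
      have hy' : y ∈ orbit (stabilizer G a) y₀ := hstab.symm ▸ hy
      rw [orbit_eq_iff.2 hy', hstab]
      exact hz
    by_cases hKt : orbit K y₀ = ({a}ᶜ : Set α)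
    swap
    · obtain ⟨y, hy, hyd⟩ := hpick K le_rfl (gen_sylFix_le a) y₀ hy₀ hKt
      exact no_good hS (good_of_two_trans hy (small_of_orbit hB hgen hp2 hy ha hyd) (htr2 y hy))
    have hPK : (P : Subgroup G) ≤ K := le_gen ha
    have hcard : Nat.card (orbit K y₀) + 1 = Nat.card α := by
      rw [Nat.card_coe_set_eq, hKt, ← Set.ncard_add_ncard_compl ({a} : Set α),
        Set.ncard_singleton, add_comm]
    have hfa : (orbit K y₀ ∩ Fix (P : Subgroup G)).ncard + 1 =
        (Fix (α := α) (P : Subgroup G)).ncard := by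
      rw [hKt, ← Set.ncard_sdiff_singleton_add_one ha]
      congr 2
      ext z
      exact and_comm
    have hfix' : (orbit K y₀ ∩ Fix (P : Subgroup G)).Nonempty := by
      by_contra he
      have h0 : (orbit K y₀ ∩ Fix (P : Subgroup G)).ncard = 0 := by
        rw [Set.not_nonempty_iff_eq_empty.1 he, Set.ncard_empty]
      rw [← hKt, dev, h0] at hrest
      have h1 : 2 * p ≤ (orbit K y₀).ncard := by
        rw [← Nat.card_coe_set_eq]; omega
      have h1' : 2 * (p : ℤ) ≤ (orbit K y₀).ncard := by exact_mod_cast h1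
      have hp2' : (2 : ℤ) ≤ p := by exact_mod_cast hp.out.two_le
      push_cast at hrest
      nlinarith
    have hdev' : dev p ((P.subtype hPK : Sylow p K) : Subgroup K)
        (Set.univ : Set (orbit K y₀)) ≤ (2 * (p : ℤ) - 3 - l) * p := by
      rw [orbit_dev_eq hPK, hKt, dev_compl_singleton ha]
      linarith
    by_cases hKprim : IsPreprimitive K (orbit K y₀)
    · refine ih K (orbit K y₀) hKprim sylGen_gen hp2 (hB.mono (by omega)) (P.subtype hPK)
        (orbit_Fix_nonempty hPK hfix') ?_ hdev' (sep_of_orbit hsep (gen_sylFix_le a) hKt)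
      have : (Fix (α := orbit K y₀) ((P.subtype hPK : Sylow p K) : Subgroup K)).ncard =
          (orbit K y₀ ∩ Fix (P : Subgroup G)).ncard := by
        rw [← Set.ncard_image_of_injective _ Subtype.val_injective]
        congr 1
        ext z
        constructor
        · rintro ⟨w, hw, rfl⟩
          refine ⟨w.2, ?_⟩
          have := (mem_Fix_orbit hPK _ w).1 hw
          rwa [upSylow_subtype hPK] at this
        · rintro ⟨hz, hzf⟩
          exact ⟨⟨z, hz⟩, (mem_Fix_orbit hPK _ _).2 (by rwa [upSylow_subtype hPK]), rfl⟩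
      omega
    · have hn2 : 2 ≤ Nat.card (orbit K y₀) := by
        have := hp.out.two_le
        omega
      obtain ⟨-, hsm⟩ := imprimitive hn2 (hB.mono (by omega)) inferInstance sylGen_gen hKprim
        (P.subtype hPK) (orbit_Fix_nonempty hPK hfix')
      have hpat := hsm hp2 (by nlinarith)
      rw [orbit_patterns_eq hPK, hK, image_patterns_eq] at hpat
      exact no_good hS (good_of_two_trans hy₀
        ⟨lab_nonempty_of_orbit ha hfix', hpat.1, hpat.2⟩ (htr2 y₀ hy₀))

/-- The bound in prime characteristic two. -/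
theorem primitive_two (hn : 2 ≤ Nat.card α) [IsPreprimitive G α] (hgen : SylGen p G) (hp2 : p = 2)
    (hB : Below.{u, v} p (Nat.card α)) (P : Sylow p G)
    (hfix : (Fix (α := α) (P : Subgroup G)).Nonempty) :
    0 ≤ dev p (P : Subgroup G) (Set.univ : Set α) := by
  subst hp2
  by_contra hneg
  obtain ⟨a₀, ha₀⟩ := hfix
  -- all orbits have deficiency zero, so two points have a common fixing subgroup
  have hpair : ∀ x y : α, (lab 2 x y : Set (Sylow 2 G)).Nonempty := by
    intro x y
    obtain ⟨R, hR⟩ := sylFix_nonempty P ⟨a₀, ha₀⟩ x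
    rcases eq_or_ne y x with rfl | hyx
    · exact ⟨R, hR, hR⟩
    set K := gen (sylFix 2 x : Set (Sylow 2 G)) with hK
    have hKinv : ∀ k ∈ K, ∀ z ∈ ({x}ᶜ : Set α), k • z ∈ ({x}ᶜ : Set α) := fun k hk z hz he =>
      hz (smul_left_cancel k (he.trans (smul_eq_of_mem_gen subset_rfl hk).symm))
    have hsub : orbit K y ⊆ ({x}ᶜ : Set α) := orbit_subset_of_invariant hKinv hyx
    have h1 := dev_eq_dev_add_dev_diff (p := 2) (R : Subgroup G) hsub
    have h2 := dev_nonneg_of_invariant hB hgen hR (U := ({x}ᶜ : Set α) \ orbit K y)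
      (fun h => h.1 rfl) (diff_invariant hKinv (orbit_invariant K y))
    have h3 := dev_compl_singleton (p := 2) (show x ∈ Fix (R : Subgroup G) from hR)
    have h4 := dev_univ_eq (α := α) P R
    obtain ⟨k, hk⟩ := dvd_dev R.2 (U := (Set.univ : Set α)) (fun _ _ _ _ => trivial)
    have h5 : dev 2 (R : Subgroup G) (orbit K y) ≤ 0 := by
      push_cast at h3 hk
      omega
    refine lab_nonempty_of_orbit hR (Set.nonempty_iff_ne_empty.2 fun he => ?_)
    rw [dev, he, Set.ncard_empty] at h5
    have h6 : 0 < (orbit K y).ncard := (Set.ncard_pos).2 ⟨y, mem_orbit_self y⟩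
    push_cast at h5
    omega
  -- a 2-element moves a point
  obtain ⟨Q, q, hq, z, hqz⟩ : ∃ Q : Sylow 2 G, ∃ q ∈ (Q : Subgroup G), ∃ z : α, q • z ≠ z := by
    by_contra hcon
    push Not at hcon
    have hs : Subsingleton α := ⟨fun x y => by
      obtain ⟨g, rfl⟩ := exists_smul_eq G x y
      exact (gen_le.2 (fun Q _ => fun q hq => mem_stabilizer_iff.2 (hcon Q q hq x))
        (hgen.symm ▸ Subgroup.mem_top g : g ∈ gen (Set.univ : Set (Sylow 2 G))) : g • x = x).symm⟩
    have := Finite.card_le_one_iff_subsingleton.2 hs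
    omega
  -- some power of it swaps two points
  obtain ⟨g, x, hgx, hg2⟩ : ∃ (g : G) (x : α), g • x ≠ x ∧ g • g • x = x := by
    obtain ⟨k, hk⟩ := IsPGroup.iff_orderOf.1 Q.2 ⟨q, hq⟩
    rw [Subgroup.orderOf_mk] at hk
    have hlast : ∀ j : ℕ, q ^ 2 ^ j • z = z → ∃ (g : G) (x : α), g • x ≠ x ∧ g • g • x = x := by
      intro j
      induction j with
      | zero => intro h; exact absurd (by simpa using h) hqz
      | succ j ih =>
        intro h
        by_cases h2 : q ^ 2 ^ j • z = z
        · exact ih h2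
        · exact ⟨q ^ 2 ^ j, z, h2, by rw [← mul_smul, ← pow_add, ← two_mul, ← pow_succ']; exact h⟩
    exact hlast k (by rw [← hk, pow_orderOf_eq_one, one_smul])
  obtain ⟨R, hRx, hRy⟩ := hpair x (g • x)
  set T := stabilizer G ({x, g • x} : Set α) with hT
  set S := stabilizer G x ⊓ T with hS
  have hgT : g ∈ T := by
    rw [hT, mem_stabilizer_iff, Set.smul_set_insert, Set.smul_set_singleton, hg2, Set.pair_comm]
  have hRS : (R : Subgroup G) ≤ S := fun r hr => ⟨hRx hr, by
    show r ∈ T
    rw [hT, mem_stabilizer_iff, Set.smul_set_insert, Set.smul_set_singleton,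
      mem_stabilizer_iff.1 (hRx hr), mem_stabilizer_iff.1 (hRy hr)]⟩
  have horb : orbit T x = ({x, g • x} : Set α) := by
    refine Set.Subset.antisymm ?_ (Set.insert_subset (mem_orbit_self x)
      (Set.singleton_subset_iff.2 ⟨⟨g, hgT⟩, rfl⟩))
    rintro _ ⟨⟨t, ht⟩, rfl⟩
    show t • x ∈ ({x, g • x} : Set α)
    have h := Set.smul_mem_smul_set (a := t) (Set.mem_insert x ({g • x} : Set α))
    rwa [mem_stabilizer_iff.1 ht] at h
  have h2 : (stabilizer T x).index = 2 := by
    rw [index_stabilizer, horb, Set.ncard_pair hgx.symm]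
  have h3 : stabilizer T x = S.subgroupOf T := Subgroup.ext fun t =>
    ⟨fun h => Subgroup.mem_subgroupOf.2 ⟨h, t.2⟩, fun h => (Subgroup.mem_subgroupOf.1 h).1⟩
  have h4 : (R : Subgroup G).relIndex T = (R : Subgroup G).relIndex S * S.relIndex T :=
    (Subgroup.relIndex_mul_relIndex _ _ _ hRS inf_le_right).symm
  have h5 : (R : Subgroup G).relIndex T ∣ (R : Subgroup G).index := by
    refine ⟨T.index, ?_⟩
    exact (Subgroup.relIndex_mul_index (hRS.trans inf_le_right)).symm
  have h6 : 2 ∣ (R : Subgroup G).index := by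
    refine dvd_trans ?_ h5
    rw [h4]
    refine Dvd.dvd.mul_left ?_ _
    rw [Subgroup.relIndex, ← h3, h2]
  exact R.not_dvd_index h6

/-- A single moved orbit: fewer than `p` fixed points. -/
theorem fixed_lt_of_one_orbit (hprim : IsPreprimitive G α) (hp2 : p ≠ 2) (P : Sylow p G)
    (h : Nat.card α = (Fix (α := α) (P : Subgroup G)).ncard + p) :
    (Fix (α := α) (P : Subgroup G)).ncard < p := by
  by_contra hlt
  set f := (Fix (α := α) (P : Subgroup G)).ncard with hf
  have hp3 : 3 ≤ p := by have := hp.out.two_le; omega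
  obtain ⟨n, hn⟩ : ∃ n, f = n + 1 := ⟨f - 1, by omega⟩
  have hcompl : ((Fix (α := α) (P : Subgroup G))ᶜ : Set α).ncard = p := by
    have := Set.ncard_add_ncard_compl (Fix (α := α) (P : Subgroup G))
    omega
  have hPfix : (P : Subgroup G) ≤ fixingSubgroup G (Fix (α := α) (P : Subgroup G)) := fun g hg =>
    (mem_fixingSubgroup_iff G).2 fun y hy => mem_Fix.1 hy g hg
  have hmem : ∀ y : α, y ∈ SubMulAction.ofFixingSubgroup G (Fix (α := α) (P : Subgroup G)) ↔
      y ∉ Fix (P : Subgroup G) := fun y => Iff.rfl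
  have : IsPretransitive (fixingSubgroup G (Fix (α := α) (P : Subgroup G)))
      (SubMulAction.ofFixingSubgroup G (Fix (α := α) (P : Subgroup G))) := by
    refine ⟨fun x y => ?_⟩
    have hsub : orbit (P : Subgroup G) (x : α) ⊆ (Fix (α := α) (P : Subgroup G))ᶜ := by
      rintro _ ⟨⟨g, hg⟩, rfl⟩ hf'
      refine x.2 (mem_Fix.2 fun q hq => ?_)
      have h1 := mem_Fix.1 hf' g⁻¹ (inv_mem hg)
      change g⁻¹ • g • (x : α) = g • (x : α) at h1
      rw [inv_smul_smul] at h1
      rw [h1]
      exact mem_Fix.1 hf' q hq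
    have heq := Set.eq_of_subset_of_ncard_le hsub (by
      rw [hcompl]; exact le_ncard_orbit P.2 ((hmem _).1 x.2))
    obtain ⟨⟨g, hg⟩, hgy⟩ : (y : α) ∈ orbit (P : Subgroup G) (x : α) := heq.symm ▸ y.2
    exact ⟨⟨g, hPfix hg⟩, Subtype.ext hgy⟩
  have hprime : (Nat.card (SubMulAction.ofFixingSubgroup G (Fix (α := α) (P : Subgroup G)))).Prime := by
    rw [show Nat.card (SubMulAction.ofFixingSubgroup G (Fix (α := α) (P : Subgroup G))) = p from
      (Nat.card_coe_set_eq _).trans hcompl]
    exact hp.out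
  have hmp := hprim.isMultiplyPreprimitive (s := Fix (α := α) (P : Subgroup G)) (n := n)
    (hf.symm.trans hn) (by omega) (IsPreprimitive.of_prime_card hprime)
  have htr := hmp.isMultiplyPretransitive
  have htp : IsMultiplyPretransitive G α p := by
    apply isMultiplyPretransitive_of_le' (n := n + 2) (by omega)
    rw [ENat.card_eq_coe_natCard]
    exact_mod_cast (show n + 2 ≤ Nat.card α by omega)
  obtain ⟨t, hinj, hsep⟩ := sep_of_le_fixed hp2 P (not_lt.1 hlt)
  obtain ⟨g, hg⟩ := htp.exists_smul_eq ⟨t 0, hinj 0⟩ ⟨t 1, hinj 1⟩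
  obtain ⟨k, hk⟩ := hsep 0 1 (by decide) g
  exact hk (DFunLike.congr_fun hg k)

/-- The fixed-point bound. -/
theorem bound (n : ℕ) : Below.{u, v} p n := by
  induction n with
  | zero => intro G _ _ α _ _ h; omega
  | succ n ih =>
    intro G _ _ α _ _ hlt ht hgen hn
    rcases Nat.lt_or_ge (Nat.card α) n with h | h
    · exact ih G α h ht hgen hn
    have hB : Below.{u, v} p (Nat.card α) := ih.mono (by omega)
    intro P hfix
    by_cases hprim : IsPreprimitive G α
    swap
    · obtain ⟨h1, h2⟩ := imprimitive hn hB ht hgen hprim P hfix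
      refine ⟨h1, fun hp2 hd => h2 hp2 (le_trans hd ?_)⟩
      have : (2 : ℤ) ≤ p := by exact_mod_cast hp.out.two_le
      nlinarith
    by_cases hp2 : p = 2
    · exact ⟨primitive_two hn hgen hp2 hB P hfix, fun hne => absurd hp2 hne⟩
    obtain ⟨c, hc⟩ := exists_ncard_eq_Fix_add P.2 (U := (Set.univ : Set α))
      (fun _ _ _ _ => trivial)
    rw [Set.ncard_univ, Set.univ_inter] at hc
    set f := (Fix (α := α) (P : Subgroup G)).ncard with hf
    have hD : dev p (P : Subgroup G) (Set.univ : Set α) = (p : ℤ) * (((p : ℤ) - 1) * c - f) := by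
      rw [dev, Set.univ_inter, Set.ncard_univ, hc, ← hf]
      push_cast
      ring
    have hp3 : (3 : ℤ) ≤ p := by
      have := hp.out.two_le
      exact_mod_cast (show 3 ≤ p by omega)
    rcases Nat.lt_or_ge c 2 with hc2 | hc2
    · interval_cases c
      · exfalso
        have huniv : Fix (α := α) (P : Subgroup G) = Set.univ :=
          Set.eq_of_subset_of_ncard_le (Set.subset_univ _) (by rw [Set.ncard_univ]; omega)
        have hall : ∀ Q : Sylow p G, ∀ x : α, x ∈ Fix (Q : Subgroup G) := fun Q x => by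
          obtain ⟨g, rfl⟩ := MulAction.exists_smul_eq G P Q
          rw [← smul_inv_smul g x]
          exact (mem_Fix_smul_iff g P _).2 (huniv.symm ▸ Set.mem_univ _)
        have hs : Subsingleton α := ⟨fun x y =>
          (subsingleton_of_gen_const hgen hall x).trans
            (subsingleton_of_gen_const (a := x) hgen hall y).symm⟩
        have := Finite.card_le_one_iff_subsingleton.2 hs
        omega
      · have hflt := fixed_lt_of_one_orbit hprim hp2 P (by omega)
        have hflt' : (f : ℤ) + 1 ≤ p := by exact_mod_cast hflt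
        refine ⟨?_, fun _ hle => ?_⟩
        · rw [hD]; push_cast; nlinarith
        · rw [hD] at hle
          push_cast at hle
          have hf2 : (2 : ℤ) ≤ f := by nlinarith
          have hf2' : 2 ≤ f := by exact_mod_cast hf2
          have hpat : patterns p G α = Nat.card α := by
            rw [patterns, ← Set.image_univ, Set.ncard_image_of_injective _
              (sylFix_injective hgen P hfix), Set.ncard_univ]
          omega
    have key : ¬ dev p (P : Subgroup G) (Set.univ : Set α) ≤ ((p : ℤ) - 3) * p := by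
      intro hle
      have hfbig : p ≤ f := by
        rw [hD] at hle
        have h1 : ((p : ℤ) - 1) * c - f ≤ (p : ℤ) - 3 :=
          le_of_mul_le_mul_left (by linarith) (show (0 : ℤ) < p by linarith)
        have h2 := mul_le_mul_of_nonneg_left (show (2 : ℤ) ≤ c by exact_mod_cast hc2)
          (show (0 : ℤ) ≤ (p : ℤ) - 1 by linarith)
        have : (p : ℤ) ≤ f := by linarith
        exact_mod_cast this
      refine chain p hp.out.two_le G α hprim hgen hp2 hB P hfix ?_ (le_trans hle ?_)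
        (sep_of_le_fixed hp2 P hfbig)
      · have := Nat.mul_le_mul_left p hc2
        omega
      · nlinarith
    refine ⟨?_, fun _ hle => absurd hle key⟩
    have : (0 : ℤ) ≤ ((p : ℤ) - 3) * p := by nlinarith
    linarith [not_le.1 key]

/-- `(2p - 1)` times the number of fixed points is at most `(p - 1)` times the degree. -/
theorem fixed_bound (ht : IsPretransitive G α) (hgen : SylGen p G) (hn : 2 ≤ Nat.card α)
    (P : Sylow p G) :
    (2 * p - 1) * (Fix (α := α) (P : Subgroup G)).ncard ≤ (p - 1) * Nat.card α := by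
  rcases (Fix (α := α) (P : Subgroup G)).eq_empty_or_nonempty with h | h
  · rw [h, Set.ncard_empty, mul_zero]; exact Nat.zero_le _
  have hA := (bound (p := p) (Nat.card α + 1) G α (Nat.lt_succ_self _) ht hgen hn P h).1
  rw [dev, Set.univ_inter, Set.ncard_univ] at hA
  have h1 : 1 ≤ p := hp.out.one_lt.le
  have h2 : 1 ≤ 2 * p := by omega
  zify [h1, h2]
  linarith

end CfsgLib.SylowFix
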