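import Cfsg.Agent.Lib.SylowFix.Outside

/-!
The partial linear space given by good pairs with a fixed number of labels and a fixed line size,
and its triangles.
-/

set_option autoImplicit false

open scoped Pointwise
open MulAction

namespace CfsgLib.SylowFix

universe u v

variable (p : ℕ) (G : Type u) [Group G] {α : Type v} [MulAction G α]

/-- A good pair with `m` labels and `s + 1` points on its line. -/
def Edge (m s : ℕ) (x y : α) : Prop :=
  Good p G x y ∧ (Theta p G x y).ncard = m ∧ (line p G x y).ncard = s + 1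

/-- The neighbours of `a` with label in the orbit of that of `(a, b)`. -/
def nb (m s : ℕ) (a b : α) : Set α :=
  {w | Edge p G m s a w ∧ (lab p a w : Set (Sylow p G)) ∈ Theta p G a b}

/-- The common neighbours of `a` and `b` in that orbit, off their line. -/
def tri (m s : ℕ) (a b : α) : Set α :=
  {c ∈ nb p G m s a b | Edge p G m s b c ∧
    (lab p a c : Set (Sylow p G)) ≠ lab p a b}

/-- A coherent path of length two. -/
def Path (m s : ℕ) (a b c : α) : Prop :=
  Edge p G m s a b ∧ Edge p G m s b c ∧ (lab p b c : Set (Sylow p G)) ∈ Theta p G b a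

variable {p G} {m s : ℕ}

theorem Edge.smul {x y : α} (h : Edge p G m s x y) (g : G) : Edge p G m s (g • x) (g • y) :=
  ⟨h.1.smul g, by rw [ncard_Theta_smul]; exact h.2.1,
    by rw [line_smul, Set.ncard_smul_set]; exact h.2.2⟩

theorem smul_mem_nb {a b w : α} {g : G} (hg : g ∈ gen (sylFix p a : Set (Sylow p G)))
    (h : w ∈ nb p G m s a b) : g • w ∈ nb p G m s a b := by
  have hga : g • a = a := smul_eq_of_mem_gen subset_rfl hg
  refine ⟨?_, ?_⟩
  · have := h.1.smul g
    rwa [hga] at this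
  · rw [← smul_smul_set_gen hg]
    exact smul_mem_Theta hg h.2

theorem nb_eq_of_mem {a b w : α} (h : w ∈ nb p G m s a b) :
    nb p G m s a w = nb p G m s a b := by
  unfold nb
  rw [Theta_eq_of_mem h.2]

theorem Edge.right_mem_nb {a b : α} (h : Edge p G m s a b) : b ∈ nb p G m s a b :=
  ⟨h, lab_mem_Theta a b⟩

theorem not_mem_nb_self {a b : α} : a ∉ nb p G m s a b := fun h => h.1.1.1 rfl

variable [Finite G] [hp : Fact p.Prime] [Finite α] (hS : Setting p G α)

include hS

/-- The number of labels is determined by the size of a label. -/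
theorem Small.card_eq {x y x' y' : α} (h : Small p G x y) (h' : Small p G x' y')
    (hl : (lab p x y : Set (Sylow p G)).ncard = (lab p x' y' : Set (Sylow p G)).ncard) :
    (Theta p G x' y').ncard = (Theta p G x y).ncard := by
  have := hS.prim
  have h1 := h.count
  have h2 := h'.count
  rw [← hl, ncard_sylFix_eq x' x] at h2
  have hN : 0 < (sylFix p x : Set (Sylow p G)).ncard := by
    obtain ⟨Q, hQ⟩ := h.1
    exact (Set.ncard_pos).2 ⟨Q, lab_subset_left x y hQ⟩
  have := h.2.1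
  have := h'.2.1
  have hp0 : 0 < p := hp.out.pos
  zify [show p ≤ (Theta p G x y).ncard by omega] at h1
  zify [show p ≤ (Theta p G x' y').ncard by omega] at h2
  have key : ((sylFix p x : Set (Sylow p G)).ncard : ℤ) * p *
      ((Theta p G x' y').ncard - (Theta p G x y).ncard) = 0 := by
    linear_combination
      ((Theta p G x' y').ncard : ℤ) * h1 - ((Theta p G x y).ncard : ℤ) * h2
  rcases mul_eq_zero.1 key with hk | hk
  · rcases mul_eq_zero.1 hk with hk | hk <;> omega
  · omega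

theorem Edge.on_line {a b z w : α} (h : Edge p G m s a b) (hz : z ∈ line p G a b)
    (hw : w ∈ line p G a b) (hzw : z ≠ w) :
    Edge p G m s z w ∧ (lab p z w : Set (Sylow p G)) = lab p a b ∧
      line p G z w = line p G a b := by
  obtain ⟨hg, hl, hli⟩ := h.1.line_eq hS hz hw hzw
  refine ⟨⟨hg, ?_, hli ▸ h.2.2⟩, hl, hli⟩
  rw [← h.2.1]
  exact h.1.2.1.card_eq hS hg.2.1 (by rw [hl])

theorem Edge.symm {a b : α} (h : Edge p G m s a b) : Edge p G m s b a :=
  (h.on_line hS h.1.right_mem_line h.1.left_mem_line h.1.1.symm).1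

theorem Edge.line_symm {a b : α} (h : Edge p G m s a b) :
    line p G b a = line p G a b :=
  (h.on_line hS h.1.right_mem_line h.1.left_mem_line h.1.1.symm).2.2

theorem tri_aux {a b c : α} (hab : Edge p G m s a b) (hbc : Edge p G m s b c)
    (hin : (lab p a c : Set (Sylow p G)) ∈ Theta p G a b)
    (hne : (lab p a c : Set (Sylow p G)) ≠ lab p a b) :
    Small p G c a ∧ (lab p c a : Set (Sylow p G)) ∈ Theta p G c b ∧
      (lab p c a : Set (Sylow p G)) ≠ lab p c b := by
  have hcb : Edge p G m s c b := hbc.symm hS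
  set θ : Set (Sylow p G) := lab p a b with hθ
  set η : Set (Sylow p G) := lab p c b with hη
  set M := gen (lab p a c : Set (Sylow p G)) with hM
  have hMa : ∀ g ∈ M, g • a = a := fun g hg => smul_eq_of_mem_gen (lab_subset_left a c) hg
  have hMc : ∀ g ∈ M, g • c = c := fun g hg => smul_eq_of_mem_gen (lab_subset_right a c) hg
  have hMK : M ≤ gen (sylFix p c : Set (Sylow p G)) := gen_mono (lab_subset_right a c)
  have hMKa : M ≤ gen (sylFix p a : Set (Sylow p G)) := gen_mono (lab_subset_left a c)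
  have hI : ∀ g ∈ M, (lab p a c : Set (Sylow p G)) ∩ g • θ = lab p a c ∩ g • η := by
    intro g hg
    rw [hθ, hη, smul_lab, smul_lab, hMa g hg, hMc g hg]
    ext Q
    simp only [Set.mem_inter_iff, mem_lab]
    tauto
  -- equal labels at `c` give equal labels at `a`
  have hker : ∀ g ∈ M, g • η = η → g • θ = θ := by
    intro g hg hgη
    by_contra hgθ
    have h1 : (lab p a c : Set (Sylow p G)) ∩ g • θ = lab p a c ∩ θ := by
      have := hI 1 (one_mem _)
      rw [one_smul, one_smul] at this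
      rw [hI g hg, hgη, this]
    refine hgθ (hab.1.2.1.pair hin (smul_mem_Theta (hMKa hg) (lab_mem_Theta a b))
      (lab_mem_Theta a b) ?_ hne.symm (h1 ▸ Set.inter_subset_right))
    intro he
    rw [← hab.1.2.1.gen_fix hin hg] at he
    exact hne (smul_left_cancel g he).symm
  have hoθ : orbit M θ = Theta p G a b \ {(lab p a c : Set (Sylow p G))} := by
    ext ζ
    constructor
    · rintro ⟨⟨g, hg⟩, rfl⟩
      refine ⟨smul_mem_Theta (hMKa hg) (lab_mem_Theta a b), fun he => hne ?_⟩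
      rw [Set.mem_singleton_iff] at he
      change g • θ = lab p a c at he
      rw [← hab.1.2.1.gen_fix hin hg] at he
      exact (smul_left_cancel g he).symm
    · rintro ⟨hζ, hζne⟩
      obtain ⟨g, hg, rfl⟩ := hab.1.2.1.trans_rest hin (lab_mem_Theta a b) hζ hne.symm hζne
      exact ⟨⟨g, hg⟩, rfl⟩
  have hoη : orbit M η ⊆ Theta p G c b := by
    rintro _ ⟨⟨g, hg⟩, rfl⟩
    exact smul_mem_Theta (hMK hg) (lab_mem_Theta c b)
  have hdvd : (orbit M θ).ncard ∣ (orbit M η).ncard := by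
    rw [← index_stabilizer M θ, ← index_stabilizer M η]
    refine Subgroup.index_dvd_of_le fun g hg => ?_
    exact mem_stabilizer_iff.2 (hker g g.2 (mem_stabilizer_iff.1 hg))
  have hcard : (orbit M θ).ncard = m - 1 := by
    rw [hoθ, Set.ncard_sdiff_singleton_of_mem hin, hab.2.1]
  have hle : (orbit M η).ncard ≤ m := by
    rw [← hcb.2.1]
    exact Set.ncard_le_ncard hoη
  have hpos : 0 < (orbit M η).ncard := (Set.ncard_pos).2 ⟨η, mem_orbit_self η⟩
  have hm := hab.1.2.1.2.1
  rw [hab.2.1] at hm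
  have hlt : (orbit M η).ncard < m := by
    refine lt_of_le_of_ne hle fun he => ?_
    rw [hcard, he] at hdvd
    have h1 : m - 1 ∣ 1 := by
      have := Nat.dvd_sub hdvd (dvd_refl (m - 1))
      rwa [show m - (m - 1) = 1 by omega] at this
    have := Nat.le_of_dvd one_pos h1
    have := hp.out.pos
    omega
  have hYc : (orbit M η).ncard = m - 1 := by
    have := Nat.le_of_dvd hpos hdvd
    omega
  -- the remaining label at `c` is fixed
  have hrest : (Theta p G c b \ orbit M η).ncard = 1 := by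
    rw [Set.ncard_sdiff hoη, hcb.2.1, hYc]
    omega
  obtain ⟨ζ, hζ⟩ := Set.ncard_eq_one.1 hrest
  have hζm : ζ ∈ Theta p G c b \ orbit M η := hζ.symm ▸ Set.mem_singleton ζ
  have hsub : (lab p a c : Set (Sylow p G)) ⊆ ζ := fun Q hQ =>
    (hcb.1.2.1.fix_iff hζm.1).1 (mem_Fix.2 fun q hq => by
      have hqM : q ∈ M := le_gen hQ hq
      have : q • ζ ∈ Theta p G c b \ orbit M η :=
        ⟨smul_mem_Theta (hMK hqM) hζm.1, fun hin' => hζm.2 (by
          have := orbit_invariant M η q⁻¹ (inv_mem hqM) _ hin'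
          rwa [inv_smul_smul] at this)⟩
      rwa [hζ, Set.mem_singleton_iff] at this)
  have hsame : (lab p a b : Set (Sylow p G)).ncard = (lab p c b : Set (Sylow p G)).ncard := by
    have := hS.prim
    have h1 := hab.1.2.1.count
    have h2 := hcb.1.2.1.count
    rw [hab.2.1] at h1
    rw [hcb.2.1, ncard_sylFix_eq c a] at h2
    exact Nat.eq_of_mul_eq_mul_left (by omega : 0 < m) (h1.trans h2.symm)
  have heq : (lab p c a : Set (Sylow p G)) = ζ := by
    rw [lab_comm]
    exact Set.eq_of_subset_of_ncard_le hsub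
      (by rw [ncard_eq_of_mem hζm.1, ncard_eq_of_mem hin, hsame])
  refine ⟨hcb.1.2.1.of_mem (heq ▸ hcb.1.2.1.nonempty_of_mem hζm.1) (heq ▸ hζm.1),
    heq ▸ hζm.1, fun he => hζm.2 ?_⟩
  rw [← heq, he]
  exact mem_orbit_self η

/-- Closing a triangle. -/
theorem closed {a b c : α} (hab : Edge p G m s a b) (hbc : Edge p G m s b c) (hca : c ≠ a)
    (hin : (lab p a c : Set (Sylow p G)) ∈ Theta p G a b) :
    Edge p G m s a c ∧ (lab p b c : Set (Sylow p G)) ∈ Theta p G b a ∧
      ((lab p a c : Set (Sylow p G)) ≠ lab p a b →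
        (lab p c a : Set (Sylow p G)) ∈ Theta p G c b ∧
        (lab p c a : Set (Sylow p G)) ≠ lab p c b ∧
        (lab p b c : Set (Sylow p G)) ≠ lab p b a) := by
  have hedge : Small p G c a → Edge p G m s a c := by
    intro hsm
    refine ⟨⟨hca.symm, hab.1.2.1.of_mem (hab.1.2.1.nonempty_of_mem hin) hin, hsm⟩, ?_, ?_⟩
    · rw [Theta_eq_of_mem hin]
      exact hab.2.1
    · obtain ⟨g, hg, hgb⟩ := mem_Theta.1 hin
      have hga : g • a = a := smul_eq_of_mem_gen subset_rfl hg
      rw [line_congr hgb.symm, ← congrArg (fun u => line p G u (g • b)) hga, line_smul,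
        Set.ncard_smul_set]
      exact hab.2.2
  by_cases hne : (lab p a c : Set (Sylow p G)) = lab p a b
  · have hsub : lab p b a ⊆ (lab p b c : Set (Sylow p G)) := fun Q hQ => by
      refine ⟨hQ.1, ?_⟩
      have : Q ∈ (lab p a c : Set (Sylow p G)) := by rw [hne, lab_comm]; exact hQ
      exact this.2
    have he := hab.1.2.2.lab_eq_of_subset hS hbc.1.1.symm hsub
    have hsm : Small p G c a := hbc.1.2.2.of_lab_eq (by
      rw [lab_comm c a, lab_comm c b, he, lab_comm b a, hne])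
    exact ⟨hedge hsm, he ▸ lab_mem_Theta b a, fun h => absurd hne h⟩
  · obtain ⟨hsm, hc1, hc2⟩ := tri_aux hS hab hbc hin hne
    have hca' : Edge p G m s c a := (hedge hsm).symm hS
    obtain ⟨-, hb1, hb2⟩ := tri_aux hS hca' hab
      (by rw [Theta_eq_of_mem hc1]; exact lab_mem_Theta c b) hc2.symm
    exact ⟨hedge hsm, hb1, fun _ => ⟨hc1, hc2, hb2⟩⟩

theorem nb_class {a b : α} (hab : Edge p G m s a b) {θ : Set (Sylow p G)}
    (hθ : θ ∈ Theta p G a b) :
    {w ∈ nb p G m s a b | lab p a w = θ}.ncard = s := by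
  obtain ⟨g, hg, rfl⟩ := mem_Theta.1 hθ
  have hgb : Edge p G m s a (g • b) := by
    have := hab.smul g
    rwa [smul_eq_of_mem_gen subset_rfl hg] at this
  have heq : {w ∈ nb p G m s a b | (lab p a w : Set (Sylow p G)) = lab p a (g • b)} =
      line p G a (g • b) \ {a} := by
    ext w
    constructor
    · rintro ⟨hw, hl⟩
      exact ⟨Or.inr ⟨hw.1.1.1.symm, hl, hw.1.1.2.2⟩, hw.1.1.1.symm⟩
    · rintro ⟨hw, hwa⟩
      obtain ⟨he, hl, -⟩ := hgb.on_line hS hgb.1.left_mem_line hw (Ne.symm hwa)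
      exact ⟨⟨he, hl ▸ hθ⟩, hl⟩
  rw [heq, Set.ncard_sdiff_singleton_of_mem hgb.1.left_mem_line, hgb.2.2, Nat.add_sub_cancel]

theorem ncard_nb_sep {a b : α} (hab : Edge p G m s a b) {B : Set (Set (Sylow p G))}
    (hB : B ⊆ Theta p G a b) :
    {w ∈ nb p G m s a b | (lab p a w : Set (Sylow p G)) ∈ B}.ncard = B.ncard * s := by
  have h := double_count (A := {w ∈ nb p G m s a b | (lab p a w : Set (Sylow p G)) ∈ B})
    (B := B) (r := fun w θ => lab p a w = θ) (k := 1) (l := s) (fun w hw => by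
      rw [Set.ncard_eq_one]
      exact ⟨lab p a w, Set.ext fun θ => ⟨fun h => h.2.symm, fun h => by
        rw [Set.mem_singleton_iff] at h; subst h; exact ⟨hw.2, rfl⟩⟩⟩) (fun θ hθ => by
      refine Eq.trans ?_ (nb_class hS hab (hB hθ))
      congr 1
      ext w
      exact ⟨fun h => ⟨h.1.1, h.2⟩, fun h => ⟨⟨h.1, h.2 ▸ hθ⟩, h.2⟩⟩)
  rw [mul_one] at h
  exact h

theorem ncard_nb {a b : α} (hab : Edge p G m s a b) : (nb p G m s a b).ncard = m * s := by
  refine Eq.trans ?_ ((ncard_nb_sep hS hab (B := Theta p G a b) subset_rfl).trans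
    (by rw [hab.2.1]))
  congr 1
  ext w
  exact ⟨fun h => ⟨h, h.2⟩, And.left⟩

theorem nb_fixed_iff {a b w : α} (hab : Edge p G m s a b) (hw : w ∈ nb p G m s a b)
    {P : Sylow p G} (hP : P ∈ sylFix p a) :
    w ∈ Fix (P : Subgroup G) ↔
      (lab p a w : Set (Sylow p G)) ∈ Fix (α := Set (Sylow p G)) (P : Subgroup G) := by
  rw [hab.1.2.1.fix_iff hw.2]
  exact ⟨fun h => ⟨hP, h⟩, And.right⟩

theorem ncard_nb_fixed {a b : α} (hab : Edge p G m s a b) {P : Sylow p G}
    (hP : P ∈ sylFix p a) :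
    (nb p G m s a b ∩ Fix (P : Subgroup G)).ncard = (m - p) * s := by
  have h := hab.1.2.1.fixed_add hP
  rw [hab.2.1] at h
  rw [show m - p = (Theta p G a b ∩ Fix (P : Subgroup G)).ncard by omega,
    ← ncard_nb_sep hS hab Set.inter_subset_left]
  congr 1
  ext w
  exact ⟨fun h => ⟨h.1, h.1.2, (nb_fixed_iff hS hab h.1 hP).1 h.2⟩,
    fun h => ⟨h.1, (nb_fixed_iff hS hab h.1 hP).2 h.2.2⟩⟩

theorem nb_eq_of_line {a b w : α} (hab : Edge p G m s a b) (hw : w ∈ line p G a b)
    (hwa : w ≠ a) : w ∈ nb p G m s a b := by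
  obtain ⟨he, hl, -⟩ := hab.on_line hS hab.1.left_mem_line hw hwa.symm
  exact ⟨he, hl ▸ lab_mem_Theta a b⟩

theorem tri_symm {a b c : α} (hab : Edge p G m s a b) (hc : c ∈ tri p G m s a b) :
    c ∈ tri p G m s b a := by
  obtain ⟨hca, hbc, hne⟩ := hc
  obtain ⟨-, h2, h3⟩ := closed hS hab hbc hca.1.1.1.symm hca.2
  exact ⟨⟨hbc, h2⟩, hca.1, (h3 hne).2.2⟩

theorem tri_unique {a b c c' : α} (hab : Edge p G m s a b) (hc : c ∈ tri p G m s a b)
    (hc' : c' ∈ tri p G m s a b) (he : (lab p a c : Set (Sylow p G)) = lab p a c') : c = c' := by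
  by_contra hne
  have hac := hc.1.1
  have hl' : c' ∈ line p G a c := Or.inr ⟨hc'.1.1.1.1.symm, he.symm, hc'.1.1.1.2.2⟩
  obtain ⟨hcc', hlab, hlin⟩ := hac.on_line hS hac.1.right_mem_line hl' hne
  obtain ⟨hb1, -, hb3⟩ := tri_symm hS hab hc
  obtain ⟨hb1', -, hb3'⟩ := tri_symm hS hab hc'
  by_cases hbe : (lab p b c : Set (Sylow p G)) = lab p b c'
  · have h1 : c' ∈ line p G b c := Or.inr ⟨hb1'.1.1.1.symm, hbe.symm, hb1'.1.1.2.2⟩
    obtain ⟨-, -, hlin'⟩ := hb1.1.on_line hS hb1.1.1.right_mem_line h1 hne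
    have hb : b ∈ line p G a c := by
      rw [← hlin, hlin']
      exact hb1.1.1.left_mem_line
    rcases hb with hb | ⟨-, hb, -⟩
    · exact hab.1.1 hb.symm
    · exact hc.2.2 hb.symm
  · refine hb3' (hab.1.2.2.pair hb1.2 hb1'.2 (lab_mem_Theta b a) (Ne.symm hbe) hb3.symm ?_)
    rintro Q ⟨hQ, hQ'⟩
    refine ⟨hQ.1, ?_⟩
    have : Q ∈ (lab p c c' : Set (Sylow p G)) := ⟨hQ.2, hQ'.2⟩
    rw [hlab] at this
    exact this.1

theorem smul_mem_tri {a b c : α} {g : G} (hga : g • a = a) (hgb : g • b = b)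
    (hg : g ∈ gen (sylFix p a : Set (Sylow p G))) (hc : c ∈ tri p G m s a b) :
    g • c ∈ tri p G m s a b := by
  obtain ⟨h1, h2, h3⟩ := hc
  refine ⟨smul_mem_nb hg h1, ?_, fun he => h3 ?_⟩
  · have := h2.smul g
    rwa [hgb] at this
  · rw [← smul_smul_set_gen hg] at he
    have h4 : g • (lab p a b : Set (Sylow p G)) = lab p a b := by rw [smul_lab, hga, hgb]
    exact smul_left_cancel g (he.trans h4.symm)

theorem tri_exists {a b c : α} (hab : Edge p G m s a b) (hc : c ∈ tri p G m s a b)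
    {θ : Set (Sylow p G)} (hθ : θ ∈ Theta p G a b) (hne : θ ≠ lab p a b) :
    ∃ d ∈ tri p G m s a b, (lab p a d : Set (Sylow p G)) = θ := by
  obtain ⟨g, hg, hgθ⟩ :=
    hab.1.2.1.trans_rest (lab_mem_Theta a b) hc.1.2 hθ hc.2.2 hne
  have hgK := gen_mono (lab_subset_left a b) hg
  exact ⟨g • c, smul_mem_tri hS (smul_eq_of_mem_gen (lab_subset_left a b) hg)
    (smul_eq_of_mem_gen (lab_subset_right a b) hg) hgK hc,
    by rw [← smul_smul_set_gen hgK, hgθ]⟩

theorem ncard_tri_sep {a b : α} (hab : Edge p G m s a b) (hne : (tri p G m s a b).Nonempty)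
    {B : Set (Set (Sylow p G))} (hB : B ⊆ Theta p G a b) (hBn : (lab p a b) ∉ B) :
    {d ∈ tri p G m s a b | (lab p a d : Set (Sylow p G)) ∈ B}.ncard = B.ncard := by
  refine Set.ncard_congr (fun d _ => lab p a d) (fun d hd => hd.2)
    (fun d d' hd hd' he => tri_unique hS hab hd.1 hd'.1 he) ?_
  intro θ hθ
  obtain ⟨c, hc⟩ := hne
  obtain ⟨d, hd, hdθ⟩ := tri_exists hS hab hc (hB hθ) (fun he => hBn (he ▸ hθ))
  exact ⟨d, ⟨hd, hdθ ▸ hθ⟩, hdθ⟩

theorem ncard_tri {a b : α} (hab : Edge p G m s a b) (hne : (tri p G m s a b).Nonempty) :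
    (tri p G m s a b).ncard = m - 1 := by
  have h := ncard_tri_sep hS hab hne
    (B := Theta p G a b \ {(lab p a b : Set (Sylow p G))}) Set.sdiff_subset (fun h => h.2 rfl)
  rw [Set.ncard_sdiff_singleton_of_mem (lab_mem_Theta a b), hab.2.1] at h
  rw [← h]
  congr 1
  ext d
  exact ⟨fun hd => ⟨hd, hd.1.2, hd.2.2⟩, And.left⟩

theorem ncard_tri_fixed {a b : α} (hab : Edge p G m s a b) (hne : (tri p G m s a b).Nonempty)
    {P : Sylow p G} (hP : P ∈ lab p a b) :
    (tri p G m s a b ∩ Fix (P : Subgroup G)).ncard = m - p - 1 := by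
  have hPa := lab_subset_left a b hP
  have hf := hab.1.2.1.fixed_add hPa
  rw [hab.2.1] at hf
  have hmem : (lab p a b : Set (Sylow p G)) ∈ Theta p G a b ∩ Fix (P : Subgroup G) :=
    ⟨lab_mem_Theta a b, (hab.1.2.1.fix_iff (lab_mem_Theta a b)).2 hP⟩
  have h := ncard_tri_sep hS hab hne
    (B := (Theta p G a b ∩ Fix (P : Subgroup G)) \ {(lab p a b : Set (Sylow p G))})
    (fun x hx => hx.1.1) (fun h => h.2 rfl)
  rw [Set.ncard_sdiff_singleton_of_mem hmem] at h
  rw [show m - p - 1 = (Theta p G a b ∩ Fix (P : Subgroup G)).ncard - 1 by omega, ← h]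
  congr 1
  ext d
  exact ⟨fun hd => ⟨hd.1, ⟨hd.1.1.2, (nb_fixed_iff hS hab hd.1.1 hPa).1 hd.2⟩, hd.1.2.2⟩,
    fun hd => ⟨hd.1, (nb_fixed_iff hS hab hd.1.1 hPa).2 hd.2.1.2⟩⟩

/-- A point outside with two middles in one class gives a triangle. -/
theorem two_mid_tri {a b c w w' : α} (hw : w ∈ nb p G m s a b) (hw' : w' ∈ nb p G m s a b)
    (hl : (lab p a w : Set (Sylow p G)) = lab p a w') (hne : w ≠ w')
    (hP : Path p G m s a w c) (hP' : Path p G m s a w' c)
    (hc : c ∉ nb p G m s a b) (hca : c ≠ a) :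
    c ∈ tri p G m s w w' := by
  have haw := hw.1
  have hl' : w' ∈ line p G a w := Or.inr ⟨hw'.1.1.1.symm, hl.symm, hw'.1.1.2.2⟩
  obtain ⟨-, hlab, hlin⟩ := haw.on_line hS haw.1.right_mem_line hl' hne
  have hlab' : (lab p w w' : Set (Sylow p G)) = lab p w a := by rw [hlab, lab_comm]
  refine ⟨⟨hP.2.1, ?_⟩, hP'.2.1, fun he => hc ?_⟩
  · have : Theta p G w w' = Theta p G w a := Theta_eq_of_mem (hlab' ▸ lab_mem_Theta w a)
    rw [this]
    exact hP.2.2
  · have : c ∈ line p G a w := by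
      rw [← hlin]
      exact Or.inr ⟨hP.2.1.1.1.symm, he, hP.2.1.1.2.2⟩
    have h := nb_eq_of_line hS haw this hca
    rwa [nb_eq_of_mem hw] at h

end CfsgLib.SylowFix
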