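import Cfsg.Agent.Lib.SylowFix.Lines

/-!
Lines of three points without triangles: there are at most three fixed labels.
-/

set_option autoImplicit false

open scoped Pointwise
open MulAction

namespace CfsgLib.SylowFix

universe u v

variable {p : ℕ} {G : Type u} [Group G] {α : Type v} [MulAction G α] {m : ℕ}
  [Finite G] [hp : Fact p.Prime] [Finite α] (hS : Setting p G α)

include hS

theorem fixed_labels_le_three {a b : α} (hab : Edge p G m 2 a b) {P : Sylow p G}
    (hP : P ∈ sylFix p a)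
    (hno : ∀ x y : α, Edge p G m 2 x y → ¬ (tri p G m 2 x y).Nonempty) : m - p ≤ 3 := by
  classical
  have := Fintype.ofFinite α
  have := Fintype.ofFinite (Set α)
  have hp3 : 3 ≤ p := by have := hp.out.two_le; have := hS.odd; omega
  set N := nb p G m 2 a b with hN
  set Fs := N ∩ Fix (P : Subgroup G) with hFs
  set Z : α → Set (Set α) := fun d =>
    (fun z => orbit (P : Subgroup G) z) '' (nb p G m 2 d a \ Fix (P : Subgroup G)) with hZ
  have hinv : ∀ d ∈ Fs, ∀ g ∈ (P : Subgroup G),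
      ∀ z ∈ nb p G m 2 d a \ Fix (P : Subgroup G),
        g • z ∈ nb p G m 2 d a \ Fix (P : Subgroup G) := by
    intro d hd g hg z hz
    refine ⟨smul_mem_nb (le_gen (show P ∈ sylFix p d from hd.2) hg) hz.1, fun hf => hz.2 ?_⟩
    have h := mem_Fix.1 hf g⁻¹ (inv_mem hg)
    rw [inv_smul_smul] at h
    exact h ▸ hf
  have hsz : ∀ d ∈ Fs, ∀ z ∈ nb p G m 2 d a \ Fix (P : Subgroup G),
      (orbit (P : Subgroup G) z).ncard = p := by
    intro d hd z hz
    have hda := hd.1.1.symm hS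
    refine ncard_orbit_eq P.2 hz.2 ?_
    have hsub := Set.ncard_le_ncard (orbit_subset_of_invariant (hinv d hd) hz)
    have h := Set.ncard_inter_add_ncard_sdiff_eq_ncard (nb p G m 2 d a) (Fix (P : Subgroup G))
    rw [ncard_nb_fixed hS hda (show P ∈ sylFix p d from hd.2), ncard_nb hS hda] at h
    have : 3 * p ≤ p * p := Nat.mul_le_mul_right p hp3
    have hm := hda.1.2.1.2.1
    rw [hda.2.1] at hm
    omega
  have hZc : ∀ d ∈ Fs, (Z d).ncard = 2 := by
    intro d hd
    have hda := hd.1.1.symm hS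
    have hd' := double_count (A := nb p G m 2 d a \ Fix (P : Subgroup G)) (B := Z d)
      (r := fun z O => z ∈ O) (k := 1) (l := p) (fun z hz => by
        rw [Set.ncard_eq_one]
        refine ⟨orbit (P : Subgroup G) z, Set.ext fun O => ⟨?_, ?_⟩⟩
        · rintro ⟨⟨w, hw, rfl⟩, hzO⟩
          exact (orbit_eq_iff.2 hzO).symm
        · intro h
          rw [Set.mem_singleton_iff] at h
          subst h
          exact ⟨⟨z, hz, rfl⟩, mem_orbit_self z⟩) (fun O hO => by
        obtain ⟨w, hw, rfl⟩ := hO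
        refine Eq.trans ?_ (hsz d hd w hw)
        congr 1
        ext z
        exact ⟨And.right, fun h => ⟨orbit_subset_of_invariant (hinv d hd) hw h, h⟩⟩)
    have h := Set.ncard_inter_add_ncard_sdiff_eq_ncard (nb p G m 2 d a) (Fix (P : Subgroup G))
    rw [ncard_nb_fixed hS hda (show P ∈ sylFix p d from hd.2), ncard_nb hS hda] at h
    have hm := hda.1.2.1.2.1
    rw [hda.2.1] at hm
    refine Nat.eq_of_mul_eq_mul_right hp.out.pos ?_
    omega
  -- two points on one line
  have hdisj : ∀ d ∈ Fs, ∀ d' ∈ Fs, d ≠ d' →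
      (lab p a d : Set (Sylow p G)) = lab p a d' → Disjoint (Z d) (Z d') := by
    intro d hd d' hd' hne he
    rw [Set.disjoint_left]
    rintro O ⟨z, hz, rfl⟩ ⟨w, hw, hwz⟩
    change orbit (P : Subgroup G) w = orbit (P : Subgroup G) z at hwz
    have hz' : z ∈ nb p G m 2 d' a \ Fix (P : Subgroup G) :=
      orbit_subset_of_invariant (hinv d' hd') hw (hwz ▸ mem_orbit_self z)
    have hl : d' ∈ line p G a d := Or.inr ⟨hd'.1.1.1.1.symm, he.symm, hd'.1.1.1.2.2⟩
    obtain ⟨hdd, hlab, -⟩ := hd.1.1.on_line hS hd.1.1.1.right_mem_line hl hne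
    have hΘ : Theta p G d z = Theta p G d a := Theta_eq_of_mem hz.1.2
    refine hno d z hz.1.1 ⟨d', ⟨hdd, ?_⟩, hz'.1.1.symm hS, fun h => hz.2 ?_⟩
    · rw [hΘ, hlab, lab_comm]
      exact lab_mem_Theta d a
    · have h1 : P ∈ lab p d d' := ⟨hd.2, hd'.2⟩
      rw [h] at h1
      exact h1.2
  -- two points on different lines
  have hmeet : ∀ d ∈ Fs, ∀ d' ∈ Fs,
      (lab p a d : Set (Sylow p G)) ≠ lab p a d' → (Z d ∩ Z d').Nonempty := by
    intro d hd d' hd' hne
    have hda := hd.1.1.symm hS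
    have hne' : d' ≠ d := fun h => hne (h ▸ rfl)
    have hout : (lab p d d' : Set (Sylow p G)) ∉ Theta p G d a := fun hin => by
      refine hno d a hda ⟨d', ⟨(closed hS hda hd'.1.1 hne' hin).1, hin⟩, hd'.1.1,
        fun he => hne ?_⟩
      have hl : d' ∈ line p G d a :=
        Or.inr ⟨hne', he, (closed hS hda hd'.1.1 hne' hin).1.1.2.2⟩
      rw [hd.1.1.line_symm hS] at hl
      exact (hd.1.1.on_line hS hd.1.1.1.left_mem_line hl hd'.1.1.1.1).2.1.symm
    obtain ⟨η, hη, hηm⟩ := hda.1.2.1.moved_nonempty (show P ∈ sylFix p d from hd.2)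
    obtain ⟨g, hg, hgη⟩ := hda.1.2.1.outside_trans hS hne' ⟨P, hd.2, hd'.2⟩ hout
      (lab_mem_Theta d a) hη
    have hgd := gen_mono (lab_subset_left d d') hg
    have hgd' := gen_mono (lab_subset_right d d') hg
    have hmoved : g • a ∉ Fix (P : Subgroup G) := fun hf => hηm (by
      rw [← hgη, smul_smul_set_gen hgd]
      exact (nb_fixed_iff hS hda (smul_mem_nb hgd hda.right_mem_nb) hd.2).1 hf)
    exact ⟨_, ⟨g • a, ⟨smul_mem_nb hgd hda.right_mem_nb, hmoved⟩, rfl⟩,
      g • a, ⟨smul_mem_nb hgd' (hd'.1.1.symm hS).right_mem_nb, hmoved⟩, rfl⟩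
  have hclass : ∀ d ∈ Fs, ∃ d' ∈ Fs, d' ≠ d ∧
      (lab p a d' : Set (Sylow p G)) = lab p a d ∧
      ∀ e ∈ Fs, (lab p a e : Set (Sylow p G)) = lab p a d → e = d ∨ e = d' := by
    intro d hd
    obtain ⟨x, y, hxy, hset⟩ := Set.ncard_eq_two.1 (nb_class hS hab hd.1.2)
    have hdm : d ∈ ({x, y} : Set α) := hset ▸ ⟨hd.1, rfl⟩
    have hfix : ∀ e ∈ ({x, y} : Set α), e ∈ Fs ∧ (lab p a e : Set (Sylow p G)) = lab p a d := by
      intro e he
      rw [← hset] at he
      exact ⟨⟨he.1, (nb_fixed_iff hS hab he.1 hP).2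
        (he.2.symm ▸ (nb_fixed_iff hS hab hd.1 hP).1 hd.2)⟩, he.2⟩
    have hmem : ∀ e ∈ Fs, (lab p a e : Set (Sylow p G)) = lab p a d → e = x ∨ e = y := by
      intro e he hl
      have : e ∈ ({x, y} : Set α) := hset ▸ ⟨he.1, hl⟩
      simpa using this
    rcases hdm with rfl | h
    · exact ⟨y, (hfix y (by simp)).1, hxy.symm, (hfix y (by simp)).2, hmem⟩
    · rw [Set.mem_singleton_iff] at h
      subst h
      exact ⟨x, (hfix x (by simp)).1, hxy, (hfix x (by simp)).2,
        fun e he hl => (hmem e he hl).symm⟩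
  have hFc : Fs.ncard = (m - p) * 2 := ncard_nb_fixed hS hab hP
  by_contra hlt
  obtain ⟨d₁, hd₁⟩ : Fs.Nonempty := Set.nonempty_of_ncard_ne_zero (by omega)
  obtain ⟨d₁', hd₁', hne1, hl1, hcl1⟩ := hclass d₁ hd₁
  set O4 := (Z d₁ ∪ Z d₁').toFinset with hO4
  have hO4c : O4.card = 4 := by
    rw [hO4, ← Set.ncard_eq_toFinset_card',
      Set.ncard_union_eq (hdisj d₁ hd₁ d₁' hd₁' hne1.symm hl1.symm), hZc d₁ hd₁, hZc d₁' hd₁']
  have hsub : ∀ d ∈ Fs, Z d ⊆ Z d₁ ∪ Z d₁' := by
    intro d hd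
    by_cases he : (lab p a d : Set (Sylow p G)) = lab p a d₁
    · rcases hcl1 d hd he with rfl | rfl
      exacts [Set.subset_union_left, Set.subset_union_right]
    obtain ⟨O, hO, hO₁⟩ := hmeet d hd d₁ hd₁ he
    obtain ⟨O', hO', hO₁'⟩ := hmeet d hd d₁' hd₁' (by rw [hl1]; exact he)
    have hne : O ≠ O' := fun h =>
      Set.disjoint_left.1 (hdisj d₁ hd₁ d₁' hd₁' hne1.symm hl1.symm) hO₁ (h ▸ hO₁')
    have : ({O, O'} : Set (Set α)) = Z d := Set.eq_of_subset_of_ncard_le
      (Set.insert_subset hO (Set.singleton_subset_iff.2 hO'))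
      (by rw [hZc d hd, Set.ncard_pair hne])
    rw [← this]
    exact Set.insert_subset (Or.inl hO₁) (Set.singleton_subset_iff.2 (Or.inr hO₁'))
  have hinj : Set.InjOn Z Fs := by
    intro d hd d' hd' he
    by_contra hne
    by_cases hl : (lab p a d : Set (Sylow p G)) = lab p a d'
    · obtain ⟨O, hO⟩ : (Z d).Nonempty := Set.nonempty_of_ncard_ne_zero (by rw [hZc d hd]; omega)
      exact Set.disjoint_left.1 (hdisj d hd d' hd' hne hl) hO (he ▸ hO)
    · obtain ⟨d'', hd'', hne'', hl'', -⟩ := hclass d' hd'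
      obtain ⟨O, hO, hO''⟩ := hmeet d hd d'' hd'' (by rw [hl'']; exact hl)
      rw [he] at hO
      exact Set.disjoint_left.1 (hdisj d' hd' d'' hd'' hne''.symm hl''.symm) hO hO''
  have hcard : Fs.toFinset.card ≤ (O4.powersetCard 2).card := by
    refine Finset.card_le_card_of_injOn (fun d => (Z d).toFinset) ?_ ?_
    · intro d hd
      simp only [Finset.mem_coe, Set.mem_toFinset] at hd
      simp only [Finset.mem_coe, Finset.mem_powersetCard, hO4]
      exact ⟨Set.toFinset_subset_toFinset.2 (hsub d hd),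
        by rw [← Set.ncard_eq_toFinset_card', hZc d hd]⟩
    · intro d hd d' hd' he
      simp only [Finset.mem_coe, Set.mem_toFinset] at hd hd'
      exact hinj hd hd' (Set.toFinset_inj.1 he)
  rw [Finset.card_powersetCard, hO4c, ← Set.ncard_eq_toFinset_card', hFc] at hcard
  have : (4 : ℕ).choose 2 = 6 := rfl
  omega

end CfsgLib.SylowFix
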