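import Mathlib.GroupTheory.GroupAction.Primitive
import Mathlib.Algebra.Field.ZMod
import Cfsg.Agent.Lib.SylowFix.Basic

/-!
The induction predicate for the fixed-point bound, its transfer to orbits of subgroups, primitive
actions generated by Sylow subgroups, and separated tuples.
-/

set_option autoImplicit false

open scoped Pointwise
open MulAction

namespace CfsgLib.SylowFix

universe u v

variable {G : Type u} [Group G] {α : Type v} [MulAction G α] {p : ℕ}

/-- The number of different sets of Sylow subgroups fixing a point. -/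
noncomputable def patterns (p : ℕ) (G : Type u) [Group G] (α : Type v) [MulAction G α] : ℕ :=
  (Set.range fun x : α => (sylFix p x : Set (Sylow p G))).ncard

/-- The statement proved by induction on the degree. -/
def Bound (p : ℕ) (G : Type u) [Group G] (α : Type v) [MulAction G α] : Prop :=
  ∀ P : Sylow p G, (Fix (α := α) (P : Subgroup G)).Nonempty →
    0 ≤ dev p (P : Subgroup G) (Set.univ : Set α) ∧
      (p ≠ 2 → dev p (P : Subgroup G) (Set.univ : Set α) ≤ ((p : ℤ) - 3) * p →
        p + 2 ≤ patterns p G α ∧ patterns p G α < 2 * p)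

/-- The bound holds in all degrees below `n`. -/
def Below (p n : ℕ) : Prop :=
  ∀ (G : Type u) [Group G] [Finite G] (α : Type v) [MulAction G α] [Finite α],
    Nat.card α < n → IsPretransitive G α → SylGen p G → 2 ≤ Nat.card α → Bound p G α

theorem Below.mono {m n : ℕ} (h : Below.{u, v} p n) (hmn : m ≤ n) : Below.{u, v} p m :=
  fun G _ _ α _ _ hc => h G α (lt_of_lt_of_le hc hmn)

theorem orbit_subset_of_invariant {K : Subgroup G} {U : Set α}
    (hinv : ∀ k ∈ K, ∀ y ∈ U, k • y ∈ U) {y : α} (hy : y ∈ U) : orbit K y ⊆ U := by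
  rintro _ ⟨k, rfl⟩
  exact hinv k k.2 y hy

theorem diff_invariant {K : Subgroup G} {U V : Set α} (hU : ∀ k ∈ K, ∀ y ∈ U, k • y ∈ U)
    (hV : ∀ k ∈ K, ∀ y ∈ V, k • y ∈ V) : ∀ k ∈ K, ∀ y ∈ U \ V, k • y ∈ U \ V :=
  fun k hk y hy => ⟨hU k hk y hy.1, fun h => hy.2 (by
    have := hV k⁻¹ (inv_mem hk) _ h
    rwa [inv_smul_smul] at this)⟩

theorem orbit_invariant (K : Subgroup G) (x : α) :
    ∀ k ∈ K, ∀ y ∈ orbit K x, k • y ∈ orbit K x := by
  rintro k hk _ ⟨l, rfl⟩
  exact ⟨⟨k, hk⟩ * l, by simp [Subgroup.smul_def, mul_smul]⟩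

section Finite

variable [Finite α]

theorem dev_nonneg_of_orbits {K : Subgroup G} (P : Subgroup G) {U : Set α}
    (hinv : ∀ k ∈ K, ∀ y ∈ U, k • y ∈ U) (h : ∀ y ∈ U, 0 ≤ dev p P (orbit K y)) :
    0 ≤ dev p P U := by
  induction hn : U.ncard using Nat.strong_induction_on generalizing U with
  | _ n ih =>
  rcases U.eq_empty_or_nonempty with rfl | ⟨y, hy⟩
  · simp
  · have hsub := orbit_subset_of_invariant hinv hy
    rw [dev_eq_dev_add_dev_diff P hsub]
    have hlt : (U \ orbit K y).ncard < n := by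
      rw [← hn]
      exact Set.ncard_lt_ncard (sdiff_lt hsub ⟨y, mem_orbit_self y⟩)
    have := ih _ hlt (diff_invariant hinv (orbit_invariant K y)) (fun z hz => h z hz.1) rfl
    linarith [h y hy]
where
  sdiff_lt {U V : Set α} (h : V ⊆ U) (hne : V.Nonempty) : U \ V ⊂ U :=
    Set.ssubset_iff_subset_ne.2 ⟨Set.sdiff_subset, fun he => by
      obtain ⟨v, hv⟩ := hne
      exact (he.symm ▸ h hv : v ∈ U \ V).2 hv⟩

variable [Finite G] [hp : Fact p.Prime]

theorem exists_Fix_of_small {P : Subgroup G} {O : Set α} (hO : p ≤ O.ncard)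
    (h : dev p P O ≤ ((p : ℤ) - 3) * p) : (O ∩ Fix P).Nonempty := by
  rw [Set.nonempty_iff_ne_empty]
  intro he
  rw [dev, he, Set.ncard_empty] at h
  have h2 := hp.out.two_le
  have h3 : ((p : ℤ) - 1) * p ≤ ((p : ℤ) - 1) * O.ncard := by
    apply mul_le_mul_of_nonneg_left (by exact_mod_cast hO)
    have : (2 : ℤ) ≤ p := by exact_mod_cast h2
    linarith
  push_cast at h
  have : (2 : ℤ) ≤ p := by exact_mod_cast h2
  nlinarith

theorem mem_Fix_orbit {K : Subgroup G} {x : α} {P₀ : Sylow p G} (h₀ : (P₀ : Subgroup G) ≤ K)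
    (Q : Sylow p K) (y : orbit K x) :
    y ∈ Fix (α := orbit K x) (Q : Subgroup K) ↔
      (y : α) ∈ Fix (α := α) ((upSylow Q : Sylow p G) : Subgroup G) := by
  rw [mem_Fix, mem_Fix, ← (map_subtype_eq h₀ Q).2]
  constructor
  · rintro h _ ⟨g, hg, rfl⟩
    exact congrArg Subtype.val (h g hg)
  · intro h g hg
    exact Subtype.ext (h _ ⟨g, hg, rfl⟩)

theorem orbit_Fix_nonempty {K : Subgroup G} {x : α} {P : Sylow p G} (hP : (P : Subgroup G) ≤ K)
    (h : (orbit K x ∩ Fix (P : Subgroup G)).Nonempty) :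
    (Fix (α := orbit K x) ((P.subtype hP : Sylow p K) : Subgroup K)).Nonempty := by
  obtain ⟨y₀, hy₀, hy₀f⟩ := h
  exact ⟨⟨y₀, hy₀⟩, (mem_Fix_orbit hP _ _).2 (by rwa [upSylow_subtype hP])⟩

theorem orbit_dev_eq {K : Subgroup G} {x : α} {P : Sylow p G} (hP : (P : Subgroup G) ≤ K) :
    dev p ((P.subtype hP : Sylow p K) : Subgroup K) (Set.univ : Set (orbit K x)) =
      dev p (P : Subgroup G) (orbit K x) := by
  have h1 : (Set.univ : Set (orbit K x)).ncard = (orbit K x).ncard := by
    rw [Set.ncard_univ, Nat.card_coe_set_eq]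
  have h2 : ((Set.univ : Set (orbit K x)) ∩
      Fix ((P.subtype hP : Sylow p K) : Subgroup K)).ncard =
      (orbit K x ∩ Fix (P : Subgroup G)).ncard := by
    rw [← Set.ncard_image_of_injective _ Subtype.val_injective]
    congr 1
    ext y
    constructor
    · rintro ⟨z, ⟨-, hz⟩, rfl⟩
      refine ⟨z.2, ?_⟩
      have := (mem_Fix_orbit hP _ z).1 hz
      rwa [upSylow_subtype hP] at this
    · rintro ⟨hy, hyf⟩
      exact ⟨⟨y, hy⟩, ⟨trivial, (mem_Fix_orbit hP _ _).2 (by rwa [upSylow_subtype hP])⟩, rfl⟩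
  simp only [dev, h1, h2]

theorem orbit_patterns_eq {K : Subgroup G} {x : α} {P : Sylow p G}
    (hP : (P : Subgroup G) ≤ K) :
    patterns p K (orbit K x) =
      ((fun y => {Q : Sylow p G | (Q : Subgroup G) ≤ K ∧ Q ∈ sylFix p y}) '' orbit K x).ncard := by
  rw [patterns, ← Set.ncard_image_of_injective _
    (Set.image_injective.2 (upSylow_injective hP)), ← Set.range_comp]
  congr 1
  have key : ∀ y : orbit K x, upSylow '' (sylFix p y : Set (Sylow p K)) =
      {Q : Sylow p G | (Q : Subgroup G) ≤ K ∧ Q ∈ sylFix p (y : α)} := by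
    intro y
    ext Q
    constructor
    · rintro ⟨Q', hQ', rfl⟩
      exact ⟨(map_subtype_eq hP Q').1, (mem_Fix_orbit hP Q' y).1 hQ'⟩
    · rintro ⟨hQK, hQy⟩
      refine ⟨Q.subtype hQK, (mem_Fix_orbit hP _ y).2 ?_, upSylow_subtype hQK⟩
      rw [upSylow_subtype hQK]
      exact hQy
  ext A
  simp only [Set.mem_range, Function.comp_apply, Set.mem_image, key, Subtype.exists,
    exists_prop]

/-- Transfer of the induction hypothesis to an orbit. -/
theorem bound_orbit {n : ℕ} (hB : Below.{u, v} p n) {S : Set (Sylow p G)} {x : α}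
    (hlt : (orbit (gen S) x).ncard < n) (h2 : 2 ≤ (orbit (gen S) x).ncard)
    {P : Sylow p G} (hP : (P : Subgroup G) ≤ gen S)
    (hfix : (orbit (gen S) x ∩ Fix (P : Subgroup G)).Nonempty) :
    0 ≤ dev p (P : Subgroup G) (orbit (gen S) x) ∧
      (p ≠ 2 → dev p (P : Subgroup G) (orbit (gen S) x) ≤ ((p : ℤ) - 3) * p →
        p + 2 ≤ ((fun y => {Q : Sylow p G | (Q : Subgroup G) ≤ gen S ∧ Q ∈ sylFix p y}) ''
          orbit (gen S) x).ncard ∧
        ((fun y => {Q : Sylow p G | (Q : Subgroup G) ≤ gen S ∧ Q ∈ sylFix p y}) ''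
          orbit (gen S) x).ncard < 2 * p) := by
  have hB' := hB (gen S) (orbit (gen S) x) (by rwa [Nat.card_coe_set_eq]) inferInstance sylGen_gen
    (by rwa [Nat.card_coe_set_eq]) (P.subtype hP) (orbit_Fix_nonempty hP hfix)
  rw [orbit_dev_eq hP, orbit_patterns_eq hP] at hB'
  exact hB'

theorem dev_orbit_nonneg {n : ℕ} (hB : Below.{u, v} p n) {S : Set (Sylow p G)} {x : α}
    (hlt : (orbit (gen S) x).ncard < n) (h2 : 2 ≤ (orbit (gen S) x).ncard)
    {P : Sylow p G} (hP : (P : Subgroup G) ≤ gen S) :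
    0 ≤ dev p (P : Subgroup G) (orbit (gen S) x) := by
  by_cases hfix : (orbit (gen S) x ∩ Fix (P : Subgroup G)).Nonempty
  · exact (bound_orbit hB hlt h2 hP hfix).1
  · rw [dev, Set.not_nonempty_iff_eq_empty.1 hfix, Set.ncard_empty]
    push_cast
    have : (1 : ℤ) ≤ p := by exact_mod_cast hp.out.one_lt.le
    nlinarith [Int.natCast_nonneg (orbit (gen S) x).ncard]

end Finite

/-! ### Primitive actions -/

/-- An invariant function on a primitive set is injective or constant. -/
theorem eq_of_primitive [IsPreprimitive G α] {β : Type*} (φ : α → β)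
    (hφ : ∀ (g : G) x y, φ x = φ y → φ (g • x) = φ (g • y)) {a b : α} (hab : a ≠ b)
    (h : φ a = φ b) (x : α) : φ x = φ a := by
  let B : Set α := {z | φ z = φ a}
  have hB : IsBlock G B := by
    rw [isBlock_iff_smul_eq_of_nonempty]
    rintro g ⟨_, ⟨w, hw, rfl⟩, hgw⟩
    change φ w = φ a at hw
    change φ (g • w) = φ a at hgw
    ext z
    rw [Set.mem_smul_set_iff_inv_smul_mem]
    change φ (g⁻¹ • z) = φ a ↔ φ z = φ a
    constructor
    · intro hz
      have := hφ g _ _ (hz.trans hw.symm)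
      rwa [smul_inv_smul, hgw] at this
    · intro hz
      have := hφ g⁻¹ _ _ (hz.trans hgw.symm)
      rwa [inv_smul_smul, hw] at this
  rcases hB.subsingleton_or_eq_univ with h1 | h1
  · exact absurd (h1 (show a ∈ B from rfl) (show b ∈ B from h.symm)) hab
  · exact (h1.symm ▸ Set.mem_univ x : x ∈ B)

theorem not_mem_orbit_gen {a w : α} (hw : w ≠ a) {y : α}
    (hy : y ∈ orbit (gen (sylFix p a : Set (Sylow p G))) w) : y ≠ a := by
  obtain ⟨⟨k, hk⟩, rfl⟩ := hy
  intro he
  have : k • w = k • a := he.trans (smul_eq_of_mem_gen subset_rfl hk).symm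
  exact hw (smul_left_cancel k this)

theorem dev_compl_singleton [Finite α] {a : α} {P : Subgroup G} (ha : a ∈ Fix P) :
    dev p P ({a}ᶜ : Set α) = dev p P (Set.univ : Set α) + p := by
  have h := dev_union (p := p) P (disjoint_compl_right (a := ({a} : Set α)))
  rw [Set.union_compl_self] at h
  rw [h]
  have h1 : ({a} : Set α) ∩ Fix P = {a} := Set.inter_eq_left.2 (Set.singleton_subset_iff.2 ha)
  simp only [dev, h1, Set.ncard_singleton]
  push_cast
  ring

section Prim

variable [Finite G] [hp : Fact p.Prime] [IsPreprimitive G α]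

theorem sylFix_nonempty (P : Sylow p G) (hP : (Fix (α := α) (P : Subgroup G)).Nonempty)
    (x : α) : (sylFix p x : Set (Sylow p G)).Nonempty := by
  obtain ⟨a, ha⟩ := hP
  obtain ⟨g, rfl⟩ := exists_smul_eq G a x
  exact ⟨g • P, (mem_Fix_smul_iff g P a).2 ha⟩

theorem ncard_sylFix_eq (x y : α) :
    (sylFix p x : Set (Sylow p G)).ncard = (sylFix p y : Set (Sylow p G)).ncard := by
  obtain ⟨g, rfl⟩ := exists_smul_eq G x y
  rw [ncard_sylFix_smul]

theorem subsingleton_of_gen_const (hgen : SylGen p G)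
    {a : α} (h : ∀ Q : Sylow p G, ∀ x : α, x ∈ Fix (Q : Subgroup G)) (x : α) : x = a := by
  obtain ⟨g, rfl⟩ := exists_smul_eq G a x
  exact gen_le.2 (fun Q _ => h Q a) (hgen.symm ▸ Subgroup.mem_top g)

theorem gen_sylFix_injective (hgen : SylGen p G) (P : Sylow p G)
    (hP : (Fix (α := α) (P : Subgroup G)).Nonempty) :
    Function.Injective fun x : α => gen (sylFix p x : Set (Sylow p G)) := by
  intro a b h
  by_contra hab
  have hall : ∀ x : α, gen (sylFix p x : Set (Sylow p G)) = gen (sylFix p a) := fun x =>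
    eq_of_primitive (fun z : α => gen (sylFix p z : Set (Sylow p G)))
      (fun g y z hyz => by rw [← smul_sylFix, ← smul_sylFix, gen_smul, gen_smul, hyz]) hab h x
  refine hab (subsingleton_of_gen_const hgen (fun Q x => ?_) a)
  obtain ⟨c, hc⟩ : (Fix (α := α) (Q : Subgroup G)).Nonempty := by
    obtain ⟨g, rfl⟩ := MulAction.exists_smul_eq G P Q
    obtain ⟨c, hc⟩ := hP
    exact ⟨g • c, (mem_Fix_smul_iff g P c).2 hc⟩
  intro q hq
  have hqa : q ∈ gen (sylFix p a : Set (Sylow p G)) := hall c ▸ le_gen hc hq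
  rw [← hall x] at hqa
  exact mem_stabilizer_iff.2 (smul_eq_of_mem_gen subset_rfl hqa)

theorem sylFix_injective (hgen : SylGen p G) (P : Sylow p G)
    (hP : (Fix (α := α) (P : Subgroup G)).Nonempty) :
    Function.Injective fun x : α => (sylFix p x : Set (Sylow p G)) :=
  fun _ _ h => gen_sylFix_injective hgen P hP (congrArg gen h)

variable [Finite α]

theorem eq_of_subset_sylFix (hgen : SylGen p G) (P : Sylow p G)
    (hP : (Fix (α := α) (P : Subgroup G)).Nonempty) {a w : α}
    (h : sylFix p a ⊆ (sylFix p w : Set (Sylow p G))) : w = a :=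
  sylFix_injective hgen P hP (Set.eq_of_subset_of_ncard_le h (ncard_sylFix_eq w a).le).symm

theorem two_le_ncard_orbit_gen (hgen : SylGen p G) (P : Sylow p G)
    (hP : (Fix (α := α) (P : Subgroup G)).Nonempty) {a w : α} (hw : w ≠ a) :
    2 ≤ (orbit (gen (sylFix p a : Set (Sylow p G))) w).ncard := by
  by_contra h
  refine hw (eq_of_subset_sylFix hgen P hP fun Q hQ => ?_)
  intro q hq
  rw [mem_stabilizer_iff]
  have h1 : q • w ∈ orbit (gen (sylFix p a : Set (Sylow p G))) w :=
    ⟨(⟨q, le_gen hQ hq⟩ : gen (sylFix p a : Set (Sylow p G))), rfl⟩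
  exact (Set.ncard_le_one (Set.toFinite _)).1 (Nat.le_of_lt_succ (not_le.1 h)) _ h1 _
    (mem_orbit_self w)

theorem dev_nonneg_of_invariant (hB : Below.{u, v} p (Nat.card α)) (hgen : SylGen p G)
    {a : α} {P : Sylow p G} (hPa : a ∈ Fix (P : Subgroup G)) {U : Set α} (hU : a ∉ U)
    (hinv : ∀ k ∈ gen (sylFix p a : Set (Sylow p G)), ∀ y ∈ U, k • y ∈ U) :
    0 ≤ dev p (P : Subgroup G) U := by
  refine dev_nonneg_of_orbits _ hinv fun y hy => ?_
  have hya : y ≠ a := fun h => hU (h ▸ hy)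
  refine dev_orbit_nonneg hB ?_ (two_le_ncard_orbit_gen hgen P ⟨a, hPa⟩ hya) (le_gen hPa)
  rw [← Set.ncard_univ]
  exact Set.ncard_lt_ncard (Set.ssubset_univ_iff.2 fun h =>
    not_mem_orbit_gen hya (h.symm ▸ Set.mem_univ a) rfl)

end Prim

/-! ### Separated tuples -/

/-- There are three injective `l`-tuples in different orbits. -/
def Sep (G : Type u) [Group G] (α : Type v) [MulAction G α] (l : ℕ) : Prop :=
  ∃ t : Fin 3 → Fin l → α, (∀ i, Function.Injective (t i)) ∧
    ∀ i j, i ≠ j → ∀ g : G, ∃ k, g • t i k ≠ t j k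

theorem sep_descent [IsPretransitive G α] {l : ℕ} (h : Sep G α (l + 1)) (a : α) :
    ∃ t : Fin 3 → Fin l → α, (∀ i, Function.Injective (t i)) ∧ (∀ i k, t i k ≠ a) ∧
      ∀ i j, i ≠ j → ∀ g ∈ stabilizer G a, ∃ k, g • t i k ≠ t j k := by
  obtain ⟨t, hinj, hsep⟩ := h
  choose g hg using fun i => exists_smul_eq G (t i 0) a
  refine ⟨fun i k => g i • t i k.succ, fun i k k' hk => ?_, fun i k hk => ?_, ?_⟩
  · exact Fin.succ_injective _ (hinj i (smul_left_cancel (g i) hk))
  · exact Fin.succ_ne_zero k (hinj i (smul_left_cancel (g i) (hk.trans (hg i).symm)))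
  · intro i j hij c hc
    obtain ⟨k, hk⟩ := hsep i j hij ((g j)⁻¹ * c * g i)
    rw [mul_smul, mul_smul, Ne, inv_smul_eq_iff] at hk
    induction k using Fin.cases with
    | zero =>
      rw [hg i, hg j, mem_stabilizer_iff.1 hc] at hk
      exact absurd rfl hk
    | succ k => exact ⟨k, hk⟩

theorem sep_of_orbit [IsPretransitive G α] {l : ℕ} (h : Sep G α (l + 1)) {a : α}
    {K : Subgroup G} (hK : K ≤ stabilizer G a) {b : α} (hO : orbit K b = {a}ᶜ) :
    Sep K (orbit K b) l := by
  obtain ⟨t, hinj, hne, hsep⟩ := sep_descent h a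
  refine ⟨fun i k => ⟨t i k, hO.symm ▸ hne i k⟩, fun i k k' hk => hinj i (congrArg Subtype.val hk),
    fun i j hij g => ?_⟩
  obtain ⟨k, hk⟩ := hsep i j hij g (hK g.2)
  exact ⟨k, fun he => hk (congrArg Subtype.val he)⟩

theorem exists_three_of_sep_two [IsPretransitive G α] (h : Sep G α 2) (a : α) :
    ∃ y : Fin 3 → α, (∀ i, y i ≠ a) ∧
      ∀ i j, i ≠ j → y j ∉ orbit (stabilizer G a) (y i) := by
  obtain ⟨t, -, hne, hsep⟩ := sep_descent (l := 1) h a
  refine ⟨fun i => t i 0, fun i => hne i 0, fun i j hij hmem => ?_⟩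
  obtain ⟨⟨g, hg⟩, hgy⟩ := hmem
  obtain ⟨k, hk⟩ := hsep i j hij g hg
  obtain rfl : k = 0 := Subsingleton.elim _ _
  exact hk hgy

theorem sep_of_le_fixed [Finite G] [Finite α] [hp : Fact p.Prime] (hp2 : p ≠ 2) (P : Sylow p G)
    (hf : p ≤ (Fix (α := α) (P : Subgroup G)).ncard) : Sep G α p := by
  classical
  obtain ⟨E, hE, hEc⟩ := Set.exists_subset_card_eq hf
  have hcard : Nat.card E = Nat.card (ZMod p) := by rw [Nat.card_coe_set_eq, hEc, Nat.card_zmod]
  let e : ZMod p ≃ E := (Finite.equivFinOfCardEq (by rw [Nat.card_zmod])).trans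
    (Finite.equivFinOfCardEq (hcard.trans (Nat.card_zmod p))).symm
  let t : ZMod p → α := fun i => e i
  have htinj : Function.Injective t := Subtype.val_injective.comp e.injective
  have htf : ∀ i, t i ∈ Fix (P : Subgroup G) := fun i => hE (e i).2
  -- no element shifts the tuple
  have key : ∀ k : ZMod p, k ≠ 0 → ∀ g : G, ¬ ∀ i, g • t i = t (i + k) := by
    intro k hk g hg
    let S : Subgroup G := ⨅ i, stabilizer G (t i)
    have hPS : (P : Subgroup G) ≤ S := le_iInf fun i => htf i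
    have hgS : ((g • P : Sylow p G) : Subgroup G) ≤ S := le_iInf fun i => by
      have h1 : g • t (i - k) = t i := by rw [hg, sub_add_cancel]
      rw [← h1]
      exact (mem_Fix_smul_iff g P _).2 (htf _)
    obtain ⟨s, hs, hsP⟩ := exists_mem_smul_eq hgS hPS
    rw [smul_smul] at hsP
    have hh : ∀ i, (s * g) • t i = t (i + k) := fun i => by
      rw [mul_smul, hg]
      exact Subgroup.mem_iInf.1 hs (i + k)
    have hpow : ∀ (N : ℕ) i, (s * g) ^ N • t i = t (i + N * k) := by
      intro N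
      induction N with
      | zero => simp
      | succ N ih => intro i; rw [pow_succ, mul_smul, hh, ih]; push_cast; ring_nf
    obtain ⟨e', M, hM, hord⟩ :=
      Nat.exists_eq_pow_mul_and_not_dvd (orderOf_pos (s * g)).ne' p hp.out.ne_one
    have hmemN : s * g ∈ Subgroup.normalizer ((P : Subgroup G) : Set G) :=
      Sylow.smul_eq_iff_mem_normalizer.1 hsP
    have hz : IsPGroup p (Subgroup.zpowers ((s * g) ^ M)) := by
      refine IsPGroup.of_card_dvd_pow (n := e') ?_
      rw [Nat.card_zpowers]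
      refine orderOf_dvd_of_pow_eq_one ?_
      rw [← pow_mul, mul_comm, ← hord, pow_orderOf_eq_one]
    have hmemP : (s * g) ^ M ∈ (P : Subgroup G) := by
      have h1 : (s * g) ^ M ∈ Subgroup.zpowers ((s * g) ^ M) ⊓
          Subgroup.normalizer ((P : Subgroup G) : Set G) :=
        ⟨Subgroup.mem_zpowers _, pow_mem hmemN M⟩
      exact ((hz.inf_normalizer_sylow P).le h1).2
    have h0 := mem_Fix.1 (htf 0) _ hmemP
    rw [hpow] at h0
    have := htinj h0
    rw [zero_add, mul_eq_zero] at this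
    rcases this with h | h
    · exact hM ((ZMod.natCast_eq_zero_iff _ _).1 h)
    · exact hk h
  let c : Fin 3 → ZMod p := fun i => (i : ℕ)
  have hc : Function.Injective c := by
    intro i j hij
    have h3 : 3 ≤ p := by have := hp.out.two_le; omega
    have := (ZMod.natCast_eq_natCast_iff' _ _ _).1 hij
    rw [Nat.mod_eq_of_lt (by omega), Nat.mod_eq_of_lt (by omega)] at this
    exact Fin.ext this
  let d : Fin p ≃ ZMod p := (Finite.equivFinOfCardEq (Nat.card_zmod p)).symm
  refine ⟨fun i x => t (d x + c i), fun i x y hxy => d.injective (add_right_cancel (htinj hxy)),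
    fun i j hij g => ?_⟩
  by_contra hcon
  push Not at hcon
  refine key (c j - c i) (sub_ne_zero.2 fun h => hij (hc h).symm) g fun z => ?_
  obtain ⟨x, hx⟩ := d.surjective (z - c i)
  have := hcon x
  rw [hx, sub_add_cancel] at this
  rw [this]
  congr 1
  ring

end CfsgLib.SylowFix
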