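import Cfsg.Agent.Lib.SylowFix.Small
import Cfsg.Agent.Lib.SylowFix.Design

/-!
Points whose label is not one of a given small orbit of labels.
-/

set_option autoImplicit false

open scoped Pointwise
open MulAction

namespace CfsgLib.SylowFix

universe u v

variable {p : ℕ} {G : Type u} [Group G] {α : Type v} [MulAction G α]

theorem smul_smul_set_gen {x : α} {g : G} (hg : g ∈ gen (sylFix p x : Set (Sylow p G))) (w : α) :
    g • (lab p x w : Set (Sylow p G)) = lab p x (g • w) := by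
  rw [smul_lab, smul_eq_of_mem_gen subset_rfl hg]

variable [Finite G] [hp : Fact p.Prime] [Finite α] (hS : Setting p G α)

include hS

theorem Setting.dev_le_rest {x : α} {P : Sylow p G} (hx : x ∈ Fix (P : Subgroup G)) {U : Set α}
    (hU : x ∉ U) (hinv : ∀ k ∈ gen (sylFix p x : Set (Sylow p G)), ∀ z ∈ U, k • z ∈ U) :
    dev p (P : Subgroup G) U ≤ (2 * (p : ℤ) - 4) * p := by
  have := hS.prim
  have hsub : U ⊆ ({x}ᶜ : Set α) := fun z hz he => hU (he ▸ hz)
  have h1 := dev_eq_dev_add_dev_diff (p := p) (P : Subgroup G) hsub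
  have h2 := dev_nonneg_of_invariant hS.below hS.sylGen hx (U := ({x}ᶜ : Set α) \ U)
    (fun h => h.1 rfl) (diff_invariant (fun k hk z hz he => hz (smul_left_cancel k
      (he.trans (smul_eq_of_mem_gen subset_rfl hk).symm))) hinv)
  have h3 := dev_compl_singleton (p := p) hx
  have h4 := hS.small P
  linarith

/-- A label outside a small orbit is contained in none of its members. -/
theorem Small.excl {x y : α} (h : Small p G x y) {c : α} (hc : c ≠ x)
    (hne : (lab p x c : Set (Sylow p G)).Nonempty)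
    (hout : (lab p x c : Set (Sylow p G)) ∉ Theta p G x y)
    {θ : Set (Sylow p G)} (hθ : θ ∈ Theta p G x y) :
    ¬ (lab p x c : Set (Sylow p G)) ⊆ θ := by
  intro hsub
  have := hS.prim
  obtain ⟨P, hP⟩ := hne
  set K := gen (sylFix p x : Set (Sylow p G)) with hKdef
  set U := orbit K c with hUdef
  have hPK : (P : Subgroup G) ≤ K := le_gen hP.1
  have hxU : x ∉ U := fun hx => not_mem_orbit_gen hc hx rfl
  -- the orbit of `c` under the group of `θ`
  set W := orbit (gen θ) c with hWdef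
  have hθK := gen_le_of_mem hθ
  have hWU : W ⊆ U := by
    rintro _ ⟨g, rfl⟩
    exact ⟨⟨g, hθK g.2⟩, rfl⟩
  have hW2 : 2 ≤ W.ncard := by
    by_contra hW
    refine hout ?_
    rw [show (lab p x c : Set (Sylow p G)) = θ from Set.Subset.antisymm hsub fun Q hQ =>
      ⟨subset_sylFix_of_mem hθ hQ, fun q hq => by
        rw [mem_stabilizer_iff]
        exact (Set.ncard_le_one (Set.toFinite _)).1 (Nat.le_of_lt_succ (not_le.1 hW)) _
          (show q • c ∈ W from ⟨(⟨q, le_gen hQ hq⟩ : gen θ), rfl⟩) _ (mem_orbit_self c)⟩]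
    exact hθ
  have hWn : W.ncard < Nat.card α := by
    rw [← Set.ncard_univ]
    exact Set.ncard_lt_ncard
      (Set.ssubset_univ_iff.2 fun he => hxU (hWU (he.symm ▸ Set.mem_univ x)))
  have hWdev := dev_orbit_nonneg hS.below hWn hW2 (le_gen (hsub hP) : (P : Subgroup G) ≤ gen θ)
  have hleθ : ∀ Q : Sylow p G, (Q : Subgroup G) ≤ gen θ ↔ Q ∈ θ := by
    refine fun Q => ⟨fun hQ => ?_, le_gen⟩
    obtain ⟨g, -, rfl⟩ := mem_Theta.1 hθ
    exact ⟨hQ.trans (gen_le.2 fun R hR => hR.1), hQ.trans (gen_le.2 fun R hR => hR.2)⟩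
  have hratW := orbit_ratio (K := gen θ) (le_gen (hsub hP)) c
  rw [← hWdef] at hratW
  have e1 : {Q : Sylow p G | (Q : Subgroup G) ≤ gen θ} = θ := Set.ext hleθ
  have e2 : {Q : Sylow p G | (Q : Subgroup G) ≤ gen θ ∧ Q ∈ sylFix p c} = lab p x c := by
    ext Q
    exact ⟨fun hQ => ⟨subset_sylFix_of_mem hθ ((hleθ Q).1 hQ.1), hQ.2⟩,
      fun hQ => ⟨(hleθ Q).2 (hsub hQ), hQ.2⟩⟩
  rw [e1, e2] at hratW
  have hratU := orbit_ratio (K := K) hPK c
  rw [← hUdef] at hratU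
  have e3 : {Q : Sylow p G | (Q : Subgroup G) ≤ K} = sylFix p x := by
    ext Q
    exact ⟨fun hQ => hQ.trans (gen_sylFix_le x), le_gen⟩
  have e4 : {Q : Sylow p G | (Q : Subgroup G) ≤ K ∧ Q ∈ sylFix p c} = lab p x c := by
    ext Q
    exact ⟨fun hQ => ⟨hQ.1.trans (gen_sylFix_le x), hQ.2⟩, fun hQ => ⟨le_gen hQ.1, hQ.2⟩⟩
  rw [e3, e4] at hratU
  have hcount := h.count
  rw [← ncard_eq_of_mem hθ] at hcount
  obtain ⟨t, ht⟩ := exists_ncard_eq_Fix_add P.2 (U := U) (fun g hg z hz =>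
    orbit_invariant K c g (hPK hg) z hz)
  have hdU := hS.dev_le_rest hP.1 hxU (orbit_invariant K c)
  -- arithmetic
  have hN : 0 < (sylFix p x : Set (Sylow p G)).ncard := (Set.ncard_pos).2 ⟨P, hP.1⟩
  have hm1 := h.2.1
  have hm2 := h.2.2
  set m := (Theta p G x y).ncard
  set fU := (U ∩ Fix (P : Subgroup G)).ncard
  have hp3 : 3 ≤ p := by have := hp.out.two_le; have := hS.odd; omega
  zify [show p ≤ m by omega] at hcount
  zify at hratW hratU
  rw [dev] at hWdev hdU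
  have h5 : (2 * (p : ℤ) - 1) * (lab p x c : Set (Sylow p G)).ncard ≤ ((p : ℤ) - 1) * θ.ncard := by
    have hWpos : (0 : ℤ) < W.ncard := by exact_mod_cast (show 0 < W.ncard by omega)
    have hθpos : (0 : ℤ) ≤ θ.ncard := Int.natCast_nonneg _
    have := mul_nonneg hθpos hWdev
    nlinarith
  have h6 : (2 * (p : ℤ) - 1) * fU * m ≤ ((p : ℤ) - 1) * U.ncard * (m - p) := by
    have hNpos : (0 : ℤ) < (sylFix p x : Set (Sylow p G)).ncard := by exact_mod_cast hN
    have := mul_le_mul_of_nonneg_left h5 (mul_nonneg (Int.natCast_nonneg U.ncard)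
      (Int.natCast_nonneg m))
    refine le_of_mul_le_mul_left ?_ hNpos
    calc ((sylFix p x : Set (Sylow p G)).ncard : ℤ) * ((2 * (p : ℤ) - 1) * fU * m)
        = (U.ncard : ℤ) * m * ((2 * (p : ℤ) - 1) * (lab p x c : Set (Sylow p G)).ncard) := by
          linear_combination ((2 * (p : ℤ) - 1) * m) * hratU
      _ ≤ (U.ncard : ℤ) * m * (((p : ℤ) - 1) * θ.ncard) := this
      _ = _ := by linear_combination ((U.ncard : ℤ) * ((p : ℤ) - 1)) * hcount
  have hU2m : U.ncard < 2 * m := by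
    have h7 : ((p : ℤ) - 1) * U.ncard * p ≤ (2 * (p : ℤ) - 4) * p * m := by
      have := mul_le_mul_of_nonneg_right hdU (Int.natCast_nonneg m)
      nlinarith
    have h8 : ((p : ℤ) - 1) * U.ncard ≤ (2 * (p : ℤ) - 4) * m :=
      le_of_mul_le_mul_left (by linarith) (show (0 : ℤ) < p by exact_mod_cast hp.out.pos)
    have : (U.ncard : ℤ) < 2 * m := by
      have hmpos : (0 : ℤ) < m := by exact_mod_cast (show 0 < m by omega)
      have hp3' : (3 : ℤ) ≤ p := by exact_mod_cast hp3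
      nlinarith
    exact_mod_cast this
  have hfU : fU < p := by
    have : (fU : ℤ) < p := by
      have hUm : (U.ncard : ℤ) < 2 * m := by exact_mod_cast hU2m
      have hmp : (m : ℤ) ≤ 2 * p - 1 := by
        have : (m : ℤ) < 2 * p := by exact_mod_cast hm2
        linarith
      have hp3' : (3 : ℤ) ≤ p := by exact_mod_cast hp3
      have hmpos : (0 : ℤ) < m := by exact_mod_cast (show 0 < m by omega)
      have hmp' : (0 : ℤ) ≤ m - p := by
        have : (p : ℤ) ≤ m := by exact_mod_cast (show p ≤ m by omega)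
        linarith
      have h9 : ((2 * (p : ℤ) - 1) * fU) * m < (2 * ((p : ℤ) - 1) * ((m : ℤ) - p) + 1) * m := by
        have h91 := mul_le_mul_of_nonneg_right hUm.le
          (mul_nonneg (show (0 : ℤ) ≤ (p : ℤ) - 1 by linarith) hmp')
        nlinarith
      have h10 := lt_of_mul_lt_mul_right h9 hmpos.le
      nlinarith
    exact_mod_cast this
  have ht2 : t ≤ 2 := by
    by_contra ht3
    have h3t : (3 : ℤ) ≤ t := by exact_mod_cast (show 3 ≤ t by omega)
    have hf' : (fU : ℤ) < p := by exact_mod_cast hfU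
    have hp3' : (3 : ℤ) ≤ p := by exact_mod_cast hp3
    rw [show (U.ncard : ℤ) = fU + p * t by exact_mod_cast ht] at hdU
    have := mul_le_mul_of_nonneg_left h3t
      (show (0 : ℤ) ≤ ((p : ℤ) - 1) * p by nlinarith)
    nlinarith
  -- the blocks
  set Φ : α → Set (Set (Sylow p G)) := fun u => {η ∈ Theta p G x y | lab p x u ⊆ η} with hΦ
  have hΦsmul : ∀ g ∈ K, ∀ u, g • Φ u = Φ (g • u) := by
    intro g hg u
    ext η
    rw [Set.mem_smul_set_iff_inv_smul_mem]
    simp only [hΦ, Set.mem_setOf_eq, ← smul_smul_set_gen hg, Set.subset_smul_set_iff, inv_inv]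
    refine and_congr_left fun _ => ⟨fun hη => ?_, fun hη => smul_mem_Theta (inv_mem hg) hη⟩
    have := smul_mem_Theta hg hη
    rwa [smul_inv_smul] at this
  have hΦc : θ ∈ Φ c := ⟨hθ, hsub⟩
  set k := (Φ c).ncard with hk
  have hk1 : 1 ≤ k := (Set.ncard_pos).2 ⟨θ, hΦc⟩
  have hkF : k ≤ (Theta p G x y ∩ Fix (P : Subgroup G)).ncard :=
    Set.ncard_le_ncard fun η hη => ⟨hη.1, (h.fix_iff hη.1).2 (hη.2 hP)⟩
  have hkU : ∀ u ∈ U, (Φ u).ncard = k := by
    rintro _ ⟨⟨g, hg⟩, rfl⟩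
    show (Φ (g • c)).ncard = k
    rw [← hΦsmul g hg, Set.ncard_smul_set]
  rcases Nat.lt_or_ge k 2 with hk2 | hk2
  · -- one label above each point of `U`
    have hcnst : ∀ η ∈ Theta p G x y, {u ∈ U | lab p x u ⊆ η}.ncard =
        {u ∈ U | lab p x u ⊆ θ}.ncard := by
      intro η hη
      obtain ⟨⟨g, hg⟩, rfl⟩ : η ∈ orbit K θ := by rw [orbit_eq_iff.2 hθ]; exact hη
      rw [← Set.ncard_smul_set g {u ∈ U | lab p x u ⊆ θ}]
      congr 1
      ext u
      rw [Set.mem_smul_set_iff_inv_smul_mem]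
      simp only [Set.mem_setOf_eq, Subgroup.mk_smul]
      rw [← smul_smul_set_gen (inv_mem hg), Set.smul_set_subset_iff_subset_inv_smul_set, inv_inv]
      refine and_congr_left fun _ => ⟨fun hu => orbit_invariant K c _ (inv_mem hg) u hu,
        fun hu => ?_⟩
      have := orbit_invariant K c g hg _ hu
      rwa [smul_inv_smul] at this
    have hd := double_count (A := U) (B := Theta p G x y)
      (r := fun u η => lab p x u ⊆ η) (k := k) (l := {u ∈ U | lab p x u ⊆ θ}.ncard)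
      hkU hcnst
    have hW : W ⊆ {u ∈ U | lab p x u ⊆ θ} := by
      rintro _ ⟨⟨g, hg⟩, rfl⟩
      refine ⟨hWU ⟨⟨g, hg⟩, rfl⟩, ?_⟩
      show lab p x (g • c) ⊆ θ
      rw [← smul_smul_set_gen (hθK hg), ← h.gen_fix hθ hg]
      exact Set.smul_set_mono hsub
    have := Set.ncard_le_ncard hW
    have hk1' : k = 1 := by omega
    rw [hk1', mul_one] at hd
    have h11 := Nat.mul_le_mul_left m
      (le_trans hW2 this : 2 ≤ {u ∈ U | lab p x u ⊆ θ}.ncard)
    linarith
  -- a design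
  set ℬ := orbit K (Φ c) with hℬ
  have hℬmem : ∀ B ∈ ℬ, ∃ u ∈ U, B = Φ u := by
    rintro _ ⟨⟨g, hg⟩, rfl⟩
    exact ⟨g • c, ⟨⟨g, hg⟩, rfl⟩, hΦsmul g hg c⟩
  have hinv : ∀ g ∈ K, ∀ (s : Set (Set (Sylow p G))),
      {B ∈ ℬ | g • s ⊆ B}.ncard = {B ∈ ℬ | s ⊆ B}.ncard := by
    intro g hg s
    rw [← Set.ncard_smul_set g {B ∈ ℬ | s ⊆ B}]
    congr 1
    ext B
    rw [Set.mem_smul_set_iff_inv_smul_mem]
    simp only [Set.mem_setOf_eq]
    rw [Set.smul_set_subset_iff_subset_inv_smul_set]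
    refine and_congr_left fun _ => ⟨fun hu => orbit_invariant K (Φ c) _ (inv_mem hg) B hu,
      fun hu => ?_⟩
    have := orbit_invariant K (Φ c) g hg _ hu
    rwa [smul_inv_smul] at this
  have hpt' : ∀ η, {B ∈ ℬ | η ∈ B}.ncard = {B ∈ ℬ | {η} ⊆ B}.ncard := fun η => by simp
  have hpair' : ∀ η η', {B ∈ ℬ | η ∈ B ∧ η' ∈ B}.ncard = {B ∈ ℬ | {η, η'} ⊆ B}.ncard :=
    fun η η' => by simp [Set.insert_subset_iff]
  obtain ⟨η₁, hη₁, η₂, hη₂, hne12⟩ := (Set.one_lt_ncard (Set.toFinite _)).1 (show 1 < k by omega)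
  have hmvd := h.moved hP.1
  refine no_design hS.odd P.2 (Θ := Theta p G x y) (ℬ := ℬ) (k := k)
    (r := {B ∈ ℬ | θ ∈ B}.ncard) (lam := {B ∈ ℬ | η₁ ∈ B ∧ η₂ ∈ B}.ncard)
    ?_ (Theta_invariant hP.1) (fun g hg B hB => orbit_invariant K (Φ c) g (hPK hg) B hB)
    hmvd.1 hmvd.2 ?_ hk1 hkF ?_ ?_ ?_ ?_ ?_
  · intro B hB
    obtain ⟨u, -, rfl⟩ := hℬmem B hB
    exact fun η hη => hη.1
  · have := h.fixed_add hP.1
    omega
  · intro B hB
    obtain ⟨u, hu, rfl⟩ := hℬmem B hB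
    exact hkU u hu
  · intro η hη
    obtain ⟨⟨g, hg⟩, rfl⟩ : η ∈ orbit K θ := by rw [orbit_eq_iff.2 hθ]; exact hη
    rw [hpt', hpt', ← hinv g hg {θ}, Set.smul_set_singleton]
    rfl
  · intro η hη η' hη' hne
    obtain ⟨g, hg, hg1, hg2⟩ := h.two_trans hη₁.1 hη₂.1 hne12 hη hη' hne
    rw [hpair', hpair', ← hinv g hg {η₁, η₂}, Set.smul_set_insert, Set.smul_set_singleton, hg1,
      hg2]
  · exact (Set.ncard_pos).2 ⟨Φ c, mem_orbit_self _, hη₁, hη₂⟩
  · have hsub2 : {B ∈ ℬ | B ∉ Fix (P : Subgroup G)} ⊆ Φ '' (U \ Fix (P : Subgroup G)) := by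
      rintro B ⟨hB, hBm⟩
      obtain ⟨u, hu, rfl⟩ := hℬmem B hB
      refine ⟨u, ⟨hu, fun hf => hBm (mem_Fix.2 fun q hq => ?_)⟩, rfl⟩
      rw [hΦsmul q (hPK hq), mem_Fix.1 hf q hq]
    refine ((Set.ncard_le_ncard hsub2).trans (Set.ncard_image_le)).trans ?_
    have := Set.ncard_inter_add_ncard_sdiff_eq_ncard U (Fix (P : Subgroup G))
    have : p * t ≤ p * 2 := Nat.mul_le_mul_left p ht2
    omega

/-- A label outside a small orbit generates a group transitive on it. -/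
theorem Small.outside_trans {x y : α} (h : Small p G x y) {c : α} (hc : c ≠ x)
    (hne : (lab p x c : Set (Sylow p G)).Nonempty)
    (hout : (lab p x c : Set (Sylow p G)) ∉ Theta p G x y)
    {θ₁ θ₂ : Set (Sylow p G)} (h₁ : θ₁ ∈ Theta p G x y) (h₂ : θ₂ ∈ Theta p G x y) :
    ∃ g ∈ gen (lab p x c : Set (Sylow p G)), g • θ₁ = θ₂ := by
  by_contra hno
  obtain ⟨R, hR⟩ := hne
  have hle : gen (lab p x c : Set (Sylow p G)) ≤ gen (sylFix p x : Set (Sylow p G)) :=
    gen_mono (lab_subset_left x c)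
  have hinv : ∀ g ∈ gen (lab p x c : Set (Sylow p G)), ∀ η ∈ Theta p G x y,
      g • η ∈ Theta p G x y := fun g hg η hη => smul_mem_Theta (hle hg) hη
  have hkey : ∀ η ∈ Theta p G x y,
      ¬ ∀ z ∈ orbit (gen (lab p x c : Set (Sylow p G))) η,
        z ∈ Fix (α := Set (Sylow p G)) (R : Subgroup G) := by
    intro η hη hall
    refine h.excl hS hc ⟨R, hR⟩ hout hη fun Q hQ => (h.fix_iff hη).1 ?_
    obtain ⟨k, hk, rfl⟩ := exists_mem_smul_eq (le_gen hR) (le_gen hQ)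
    have h2 := (mem_Fix_smul_iff k R _).2 (hall (k⁻¹ • η) ⟨⟨k⁻¹, inv_mem hk⟩, rfl⟩)
    rwa [smul_inv_smul] at h2
  have h1' := hkey θ₁ h₁
  have h2' := hkey θ₂ h₂
  push Not at h1' h2'
  obtain ⟨z₁, hz₁, hm₁⟩ := h1'
  obtain ⟨z₂, hz₂, hm₂⟩ := h2'
  obtain ⟨q, hq, hqz⟩ := (h.moved hR.1).2 z₁
    ⟨orbit_subset_of_invariant hinv h₁ hz₁, hm₁⟩ z₂
    ⟨orbit_subset_of_invariant hinv h₂ hz₂, hm₂⟩
  have hz₂' : z₂ ∈ orbit (gen (lab p x c : Set (Sylow p G))) θ₁ := by
    rw [← hqz]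
    exact orbit_invariant _ _ q (le_gen hR hq) _ hz₁
  have : θ₂ ∈ orbit (gen (lab p x c : Set (Sylow p G))) θ₁ := by
    rw [← orbit_eq_iff.2 hz₂', orbit_eq_iff.2 hz₂]
    exact mem_orbit_self _
  obtain ⟨g, hg⟩ := this
  exact hno ⟨g, g.2, hg⟩

/-- The number of related points in a class does not depend on the class, for a point with label
outside. -/
theorem Small.uniform {x y : α} (h : Small p G x y) {c : α} (hc : c ≠ x)
    (hout : (lab p x c : Set (Sylow p G)) ∉ Theta p G x y) (T : α → Set α)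
    (hT : ∀ g ∈ gen (sylFix p x : Set (Sylow p G)), ∀ u w, w ∈ T u → g • w ∈ T (g • u))
    {θ θ' : Set (Sylow p G)} (hθ : θ ∈ Theta p G x y) (hθ' : θ' ∈ Theta p G x y) :
    {w ∈ T c | lab p x w = θ}.ncard = {w ∈ T c | lab p x w = θ'}.ncard := by
  set K := gen (sylFix p x : Set (Sylow p G)) with hK
  have hcnt : ∀ g ∈ K, ∀ u (η : Set (Sylow p G)),
      {w ∈ T (g • u) | lab p x w = g • η}.ncard = {w ∈ T u | lab p x w = η}.ncard := by
    intro g hg u η
    rw [← Set.ncard_smul_set g {w ∈ T u | lab p x w = η}]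
    congr 1
    ext w
    rw [Set.mem_smul_set_iff_inv_smul_mem]
    simp only [Set.mem_setOf_eq, ← smul_smul_set_gen (inv_mem hg), inv_smul_eq_iff]
    refine and_congr_left fun _ => ⟨fun hw => ?_, fun hw => ?_⟩
    · have := hT g⁻¹ (inv_mem hg) _ _ hw
      rwa [inv_smul_smul] at this
    · have := hT g hg _ _ hw
      rwa [smul_inv_smul] at this
  by_cases hne : (lab p x c : Set (Sylow p G)).Nonempty
  · obtain ⟨g, hg, rfl⟩ := h.outside_trans hS hc hne hout hθ hθ'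
    have := hcnt g (gen_mono (lab_subset_left x c) hg) c θ
    rw [smul_eq_of_mem_gen (x := c) (lab_subset_right x c) hg] at this
    exact this.symm
  -- each Sylow subgroup fixing `x` is transitive on the orbit of `c`, which has size `p`
  have hnofix : ∀ Q ∈ sylFix p x, ∀ u ∈ orbit K c, u ∉ Fix ((Q : Sylow p G) : Subgroup G) := by
    rintro Q hQ _ ⟨⟨g, hg⟩, rfl⟩ hu
    refine hne ⟨g⁻¹ • Q, ?_, ?_⟩
    · have := (le_stabilizer_smul_iff g⁻¹ Q x).2 hQ
      rwa [smul_eq_of_mem_gen subset_rfl (inv_mem hg)] at this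
    · have := (le_stabilizer_smul_iff g⁻¹ Q (g • c)).2 hu
      rwa [inv_smul_smul] at this
  obtain ⟨P, hP⟩ := h.1
  have hxU : x ∉ orbit K c := fun hx => not_mem_orbit_gen hc hx rfl
  have hdU := hS.dev_le_rest hP.1 hxU (orbit_invariant K c)
  obtain ⟨t, ht⟩ := exists_ncard_eq_Fix_add P.2 (U := orbit K c) (fun g hg z hz =>
    orbit_invariant K c g (le_gen hP.1 hg) z hz)
  have hf0 : orbit K c ∩ Fix (P : Subgroup G) = ∅ :=
    Set.eq_empty_iff_forall_notMem.2 fun u hu => hnofix P hP.1 u hu.1 hu.2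
  rw [hf0, Set.ncard_empty, zero_add] at ht
  rw [dev, hf0, Set.ncard_empty, ht] at hdU
  have hUp : (orbit K c).ncard = p := by
    have hpos : 0 < (orbit K c).ncard := (Set.ncard_pos).2 ⟨c, mem_orbit_self c⟩
    have ht1 : t < 2 := by
      by_contra ht2
      have h2t : (2 : ℤ) ≤ t := by exact_mod_cast (show 2 ≤ t by omega)
      have hp2 : (2 : ℤ) ≤ p := by exact_mod_cast hp.out.two_le
      push_cast at hdU
      have := mul_le_mul_of_nonneg_left h2t (show (0 : ℤ) ≤ ((p : ℤ) - 1) * p by nlinarith)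
      nlinarith
    interval_cases t <;> omega
  have hconst : ∀ η ∈ Theta p G x y, ∀ u ∈ orbit K c,
      {w ∈ T u | lab p x w = η}.ncard = {w ∈ T c | lab p x w = η}.ncard := by
    intro η hη u hu
    obtain ⟨Q, hQ⟩ := h.nonempty_of_mem hη
    have hQK : (Q : Subgroup G) ≤ K := le_gen (subset_sylFix_of_mem hη hQ)
    have hsub : orbit (Q : Subgroup G) c ⊆ orbit K c := by
      rintro _ ⟨q, rfl⟩
      exact ⟨⟨q, hQK q.2⟩, rfl⟩
    have heq : orbit (Q : Subgroup G) c = orbit K c := Set.eq_of_subset_of_ncard_le hsub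
      (hUp.symm ▸ le_ncard_orbit Q.2
        (hnofix Q (subset_sylFix_of_mem hη hQ) c (mem_orbit_self c)))
    obtain ⟨⟨q, hq⟩, rfl⟩ := heq.symm ▸ hu
    have := hcnt q (hQK hq) c η
    rwa [mem_Fix.1 ((h.fix_iff hη).2 hQ) q hq] at this
  obtain ⟨⟨g, hg⟩, rfl⟩ : θ' ∈ orbit K θ := by rw [orbit_eq_iff.2 hθ]; exact hθ'
  have h1 := hcnt g hg (g⁻¹ • c) θ
  rw [smul_inv_smul] at h1
  rw [← hconst θ hθ (g⁻¹ • c) (orbit_invariant K c g⁻¹ (inv_mem hg) c (mem_orbit_self c))]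
  exact h1.symm

end CfsgLib.SylowFix
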