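import Cfsg.Agent.Lib.SylowFix.Orbits

/-!
Pairs of points whose labels form a small orbit under the Sylow subgroups fixing the first point.
-/

set_option autoImplicit false

open scoped Pointwise
open MulAction

namespace CfsgLib.SylowFix

universe u v

/-- The standing hypotheses of the main argument. -/
structure Setting (p : ℕ) (G : Type u) [Group G] (α : Type v) [MulAction G α] : Prop where
  sylGen : SylGen p G
  prim : IsPreprimitive G α
  odd : p ≠ 2
  below : Below.{u, v} p (Nat.card α)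
  fix : ∀ P : Sylow p G, (Fix (α := α) (P : Subgroup G)).Nonempty
  two : ∀ P : Sylow p G, (Fix (α := α) (P : Subgroup G)).ncard + 2 * p ≤ Nat.card α
  small : ∀ P : Sylow p G,
    dev p (P : Subgroup G) (Set.univ : Set α) ≤ (2 * (p : ℤ) - 5) * p

variable (p : ℕ) (G : Type u) [Group G] {α : Type v} [MulAction G α]

/-- The orbit of the label of `(x, y)` under the group generated by the Sylow subgroups
fixing `x`. -/
def Theta (x y : α) : Set (Set (Sylow p G)) :=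
  orbit (gen (sylFix p x : Set (Sylow p G))) (lab p x y : Set (Sylow p G))

/-- The labels of `(x, y)` form a small orbit. -/
def Small (x y : α) : Prop :=
  (lab p x y : Set (Sylow p G)).Nonempty ∧ p + 2 ≤ (Theta p G x y).ncard ∧
    (Theta p G x y).ncard < 2 * p

/-- Small from both sides. -/
def Good (x y : α) : Prop := x ≠ y ∧ Small p G x y ∧ Small p G y x

/-- The line through two points. -/
def line (x y : α) : Set α :=
  {z | z = x ∨ (z ≠ x ∧ (lab p x z : Set (Sylow p G)) = lab p x y ∧ Small p G z x)}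

variable {p G}

theorem mem_Theta {x y : α} {θ : Set (Sylow p G)} :
    θ ∈ Theta p G x y ↔ ∃ g ∈ gen (sylFix p x : Set (Sylow p G)), lab p x (g • y) = θ := by
  have h : ∀ g ∈ gen (sylFix p x : Set (Sylow p G)),
      g • (lab p x y : Set (Sylow p G)) = lab p x (g • y) := fun g hg => by
    rw [smul_lab, smul_eq_of_mem_gen subset_rfl hg]
  constructor
  · rintro ⟨⟨g, hg⟩, rfl⟩
    exact ⟨g, hg, (h g hg).symm⟩
  · rintro ⟨g, hg, rfl⟩
    exact ⟨⟨g, hg⟩, h g hg⟩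

theorem lab_mem_Theta (x y : α) : (lab p x y : Set (Sylow p G)) ∈ Theta p G x y := mem_orbit_self _

theorem Theta_eq_of_mem {x y w : α} (h : (lab p x w : Set (Sylow p G)) ∈ Theta p G x y) :
    Theta p G x w = Theta p G x y := orbit_eq_iff.2 h

theorem smul_mem_Theta {x y : α} {g : G} (hg : g ∈ gen (sylFix p x : Set (Sylow p G)))
    {θ : Set (Sylow p G)} (h : θ ∈ Theta p G x y) : g • θ ∈ Theta p G x y := by
  obtain ⟨⟨l, hl⟩, rfl⟩ := h
  exact ⟨⟨g * l, mul_mem hg hl⟩, mul_smul g l _⟩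

theorem Theta_smul (g : G) (x y : α) :
    Theta p G (g • x) (g • y) = (fun θ : Set (Sylow p G) => g • θ) '' Theta p G x y := by
  ext θ
  constructor
  · intro h
    obtain ⟨l, hl, rfl⟩ := mem_Theta.1 h
    rw [← smul_sylFix, gen_smul] at hl
    obtain ⟨k, hk, rfl⟩ := (Subgroup.mem_smul_pointwise_iff_exists _ _ _).1 hl
    refine ⟨lab p x (k • y), mem_Theta.2 ⟨k, hk, rfl⟩, ?_⟩
    simp only [smul_lab, MulAut.smul_def, MulAut.conj_apply]
    simp [mul_smul]
  · rintro ⟨η, hη, rfl⟩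
    obtain ⟨k, hk, rfl⟩ := mem_Theta.1 hη
    refine mem_Theta.2 ⟨MulAut.conj g • k, ?_, ?_⟩
    · rw [← smul_sylFix, gen_smul]
      exact Subgroup.smul_mem_pointwise_smul k (MulAut.conj g) _ hk
    · simp only [smul_lab, MulAut.smul_def, MulAut.conj_apply]
      simp [mul_smul]

theorem ncard_Theta_smul (g : G) (x y : α) :
    (Theta p G (g • x) (g • y)).ncard = (Theta p G x y).ncard := by
  rw [Theta_smul, Set.ncard_image_of_injective _ (MulAction.injective g)]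

theorem Small.smul {x y : α} (h : Small p G x y) (g : G) : Small p G (g • x) (g • y) := by
  refine ⟨?_, by rw [ncard_Theta_smul]; exact h.2.1, by rw [ncard_Theta_smul]; exact h.2.2⟩
  rw [← smul_lab]
  exact h.1.smul_set

theorem Good.smul {x y : α} (h : Good p G x y) (g : G) : Good p G (g • x) (g • y) :=
  ⟨fun he => h.1 (smul_left_cancel g he), h.2.1.smul g, h.2.2.smul g⟩

theorem Good.symm {x y : α} (h : Good p G x y) : Good p G y x := ⟨h.1.symm, h.2.2, h.2.1⟩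

theorem Small.of_mem {x y w : α} (h : Small p G x y)
    (hne : (lab p x w : Set (Sylow p G)).Nonempty)
    (hw : (lab p x w : Set (Sylow p G)) ∈ Theta p G x y) : Small p G x w := by
  rw [Small, Theta_eq_of_mem hw]
  exact ⟨hne, h.2.1, h.2.2⟩

theorem Small.of_lab_eq {x y w : α} (h : Small p G x y)
    (hw : (lab p x w : Set (Sylow p G)) = lab p x y) : Small p G x w :=
  h.of_mem (hw ▸ h.1) (hw ▸ lab_mem_Theta x y)

section

variable [Finite G] [hp : Fact p.Prime] [Finite α] {x y : α}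

theorem Small.nonempty_of_mem (h : Small p G x y) {θ : Set (Sylow p G)}
    (hθ : θ ∈ Theta p G x y) : θ.Nonempty := by
  obtain ⟨⟨g, hg⟩, rfl⟩ := hθ
  exact h.1.smul_set

omit [Finite G] hp [Finite α] in
theorem subset_sylFix_of_mem {θ : Set (Sylow p G)} (hθ : θ ∈ Theta p G x y) :
    θ ⊆ sylFix p x := by
  obtain ⟨g, hg, rfl⟩ := mem_Theta.1 hθ
  exact lab_subset_left _ _

omit [Finite G] hp [Finite α] in
theorem ncard_eq_of_mem {θ : Set (Sylow p G)} (hθ : θ ∈ Theta p G x y) :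
    θ.ncard = (lab p x y : Set (Sylow p G)).ncard := by
  obtain ⟨⟨g, hg⟩, rfl⟩ := hθ
  exact Set.ncard_smul_set g _

omit [Finite G] hp [Finite α] in
theorem smul_mem_sylFix {Q : Sylow p G} {q : G} (hq : q ∈ (Q : Subgroup G))
    (hQ : Q ∈ sylFix p x) : q ∈ gen (sylFix p x : Set (Sylow p G)) := le_gen hQ hq

omit [Finite G] hp [Finite α] in
theorem smul_eq_self_of_mem {θ : Set (Sylow p G)} (hθ : θ ∈ Theta p G x y) {Q : Sylow p G}
    (hQ : Q ∈ θ) : θ ∈ Fix (α := Set (Sylow p G)) (Q : Subgroup G) := by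
  obtain ⟨g, hg, rfl⟩ := mem_Theta.1 hθ
  refine mem_Fix.2 fun q hq => ?_
  rw [smul_lab, mem_Fix.1 hQ.1 q hq, mem_Fix.1 hQ.2 q hq]

/-- A Sylow subgroup fixing `x` fixes a label exactly if it lies in it. -/
theorem Small.fix_iff (h : Small p G x y) {θ : Set (Sylow p G)} (hθ : θ ∈ Theta p G x y)
    {Q : Sylow p G} : θ ∈ Fix (α := Set (Sylow p G)) (Q : Subgroup G) ↔ Q ∈ θ := by
  refine ⟨fun hfix => ?_, smul_eq_self_of_mem hθ⟩
  obtain ⟨g, -, rfl⟩ := mem_Theta.1 hθ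
  refine mem_of_normalizes (T := ({x, g • y} : Set α)) (fun R => ?_)
    (h.nonempty_of_mem hθ) hfix
  simp [mem_lab]

theorem Small.gen_fix (h : Small p G x y) {θ : Set (Sylow p G)} (hθ : θ ∈ Theta p G x y)
    {g : G} (hg : g ∈ gen θ) : g • θ = θ :=
  gen_le.2 (fun _ hQ => (h.fix_iff hθ).2 hQ) hg

omit [Finite G] hp [Finite α] in
theorem gen_le_of_mem {θ : Set (Sylow p G)} (hθ : θ ∈ Theta p G x y) :
    gen θ ≤ gen (sylFix p x : Set (Sylow p G)) := gen_mono (subset_sylFix_of_mem hθ)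

omit [Finite α] in
theorem Theta_invariant {Q : Sylow p G} (hQ : Q ∈ sylFix p x) :
    ∀ g ∈ (Q : Subgroup G), ∀ θ ∈ Theta p G x y, g • θ ∈ Theta p G x y :=
  fun _ hg _ hθ => smul_mem_Theta (le_gen hQ hg) hθ

theorem Small.orbit_eq_p (h : Small p G x y) {Q : Sylow p G} (hQ : Q ∈ sylFix p x)
    {θ : Set (Sylow p G)} (hθ : θ ∈ Theta p G x y)
    (hmv : θ ∉ Fix (α := Set (Sylow p G)) (Q : Subgroup G)) :
    (orbit (Q : Subgroup G) θ).ncard = p := by
  refine ncard_orbit_eq Q.2 hmv ?_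
  have : (orbit (Q : Subgroup G) θ).ncard ≤ (Theta p G x y).ncard :=
    Set.ncard_le_ncard (orbit_subset_of_invariant (Theta_invariant hQ) hθ)
  have h2 := h.2.2
  have : 2 * p ≤ p * p := Nat.mul_le_mul_right p hp.out.two_le
  omega

theorem Small.moved_nonempty (h : Small p G x y) {Q : Sylow p G} (hQ : Q ∈ sylFix p x) :
    (Theta p G x y \ Fix (Q : Subgroup G)).Nonempty := by
  rw [Set.sdiff_nonempty]
  intro hall
  -- every Sylow subgroup fixing `x` lies in every label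
  have hlab : ∀ θ ∈ Theta p G x y, θ = sylFix p x := by
    refine fun θ hθ => Set.Subset.antisymm (subset_sylFix_of_mem hθ) fun R hR => ?_
    obtain ⟨k, hk, rfl⟩ := exists_mem_smul_eq (le_gen hQ) (le_gen hR)
    have hθ' := smul_mem_Theta (inv_mem hk) hθ
    have := Set.smul_mem_smul_set (a := k) ((h.fix_iff hθ').1 (hall hθ'))
    rwa [smul_inv_smul] at this
  have : (Theta p G x y).ncard ≤ 1 :=
    (Set.ncard_le_one (Set.toFinite _)).2 fun a ha b hb => (hlab a ha).trans (hlab b hb).symm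
  have := h.2.1
  omega

/-- A Sylow subgroup fixing `x` moves exactly `p` labels, in one orbit. -/
theorem Small.moved (h : Small p G x y) {Q : Sylow p G} (hQ : Q ∈ sylFix p x) :
    (Theta p G x y \ Fix (Q : Subgroup G)).ncard = p ∧
      ∀ z ∈ Theta p G x y \ Fix (Q : Subgroup G), ∀ z' ∈ Theta p G x y \ Fix (Q : Subgroup G),
        ∃ g ∈ (Q : Subgroup G), g • z = z' := by
  obtain ⟨z, hz⟩ := h.moved_nonempty hQ
  have hinv : ∀ g ∈ (Q : Subgroup G), ∀ θ ∈ Theta p G x y \ Fix (Q : Subgroup G),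
      g • θ ∈ Theta p G x y \ Fix (Q : Subgroup G) := by
    refine diff_invariant (Theta_invariant hQ) fun g hg θ hθ => ?_
    rw [mem_Fix.1 hθ g hg]
    exact hθ
  have hsub : ∀ w ∈ Theta p G x y \ Fix (Q : Subgroup G),
      orbit (Q : Subgroup G) w ⊆ Theta p G x y \ Fix (Q : Subgroup G) :=
    fun w hw => orbit_subset_of_invariant hinv hw
  have heq : Theta p G x y \ Fix (Q : Subgroup G) = orbit (Q : Subgroup G) z := by
    refine Set.Subset.antisymm (fun w hw => ?_) (hsub z hz)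
    by_contra hne
    have hdisj : Disjoint (orbit (Q : Subgroup G) z) (orbit (Q : Subgroup G) w) := by
      rw [Set.disjoint_left]
      intro v h1 h2
      exact hne (orbit_eq_iff.2 h1 ▸ orbit_eq_iff.2 h2 ▸ mem_orbit_self w)
    have h1 := Set.ncard_le_ncard (Set.union_subset (hsub z hz) (hsub w hw))
    rw [Set.ncard_union_eq hdisj, h.orbit_eq_p hQ hz.1 hz.2, h.orbit_eq_p hQ hw.1 hw.2] at h1
    have := Set.ncard_le_ncard
      (Set.sdiff_subset : Theta p G x y \ Fix (Q : Subgroup G) ⊆ Theta p G x y)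
    have := h.2.2
    omega
  refine ⟨heq ▸ h.orbit_eq_p hQ hz.1 hz.2, fun a ha b hb => ?_⟩
  rw [heq] at ha hb
  obtain ⟨g, hg⟩ := (orbit_eq_iff.2 ha).symm ▸ hb
  exact ⟨g, g.2, hg⟩

theorem Small.fixed_add (h : Small p G x y) {Q : Sylow p G} (hQ : Q ∈ sylFix p x) :
    (Theta p G x y ∩ Fix (Q : Subgroup G)).ncard + p = (Theta p G x y).ncard := by
  rw [← Set.ncard_inter_add_ncard_sdiff_eq_ncard (Theta p G x y) (Fix (Q : Subgroup G)),
    (h.moved hQ).1]

/-- The size of a label against the number of labels. -/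
theorem Small.count (h : Small p G x y) :
    (Theta p G x y).ncard * (lab p x y : Set (Sylow p G)).ncard =
      (sylFix p x : Set (Sylow p G)).ncard * ((Theta p G x y).ncard - p) := by
  refine double_count (r := fun (θ : Set (Sylow p G)) (Q : Sylow p G) => Q ∈ θ) ?_ ?_
  · intro θ hθ
    rw [← ncard_eq_of_mem hθ]
    congr 1
    ext Q
    exact ⟨And.right, fun hQ => ⟨subset_sylFix_of_mem hθ hQ, hQ⟩⟩
  · intro Q hQ
    rw [← h.fixed_add hQ, Nat.add_sub_cancel]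
    congr 1
    ext θ
    exact ⟨fun hθ => ⟨hθ.1, (h.fix_iff hθ.1).2 hθ.2⟩, fun hθ => ⟨hθ.1, (h.fix_iff hθ.1).1 hθ.2⟩⟩

theorem Small.eq_of_subset (_h : Small p G x y) {θ θ' : Set (Sylow p G)}
    (hθ : θ ∈ Theta p G x y) (hθ' : θ' ∈ Theta p G x y) (hs : θ ⊆ θ') : θ = θ' :=
  Set.eq_of_subset_of_ncard_le hs (by rw [ncard_eq_of_mem hθ, ncard_eq_of_mem hθ'])

theorem Small.eq_of_fixed (h : Small p G x y) {θ θ' : Set (Sylow p G)}
    (hθ : θ ∈ Theta p G x y) (hθ' : θ' ∈ Theta p G x y)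
    (hfix : ∀ Q ∈ θ, θ' ∈ Fix (α := Set (Sylow p G)) ((Q : Sylow p G) : Subgroup G)) : θ' = θ :=
  (h.eq_of_subset hθ hθ' fun Q hQ => (h.fix_iff hθ').1 (hfix Q hQ)).symm

/-- The group generated by a label is transitive on the other labels. -/
theorem Small.trans_rest (h : Small p G x y) {θ θ₁ θ₂ : Set (Sylow p G)}
    (hθ : θ ∈ Theta p G x y) (h₁ : θ₁ ∈ Theta p G x y) (h₂ : θ₂ ∈ Theta p G x y)
    (hne₁ : θ₁ ≠ θ) (hne₂ : θ₂ ≠ θ) : ∃ g ∈ gen θ, g • θ₁ = θ₂ := by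
  by_contra hno
  obtain ⟨R, hR⟩ := h.nonempty_of_mem hθ
  -- each `Q` in `θ` fixes one of the two orbits pointwise
  have hinv : ∀ g ∈ gen θ, ∀ η ∈ Theta p G x y, g • η ∈ Theta p G x y :=
    fun g hg η hη => smul_mem_Theta (gen_le_of_mem hθ hg) hη
  have hkey : ∀ η ∈ Theta p G x y, η ≠ θ →
      ¬ ∀ z ∈ orbit (gen θ) η, z ∈ Fix (α := Set (Sylow p G)) (R : Subgroup G) := by
    intro η hη hne hall
    refine hne (h.eq_of_fixed hθ hη fun Q hQ => ?_)
    obtain ⟨k, hk, rfl⟩ := exists_mem_smul_eq (le_gen hR) (le_gen hQ)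
    have h1 := hall (k⁻¹ • η) ⟨⟨k⁻¹, inv_mem hk⟩, rfl⟩
    have h2 := (mem_Fix_smul_iff k R _).2 h1
    rwa [smul_inv_smul] at h2
  have h1 := hkey θ₁ h₁ hne₁
  have h2 := hkey θ₂ h₂ hne₂
  push Not at h1 h2
  obtain ⟨z₁, hz₁, hm₁⟩ := h1
  obtain ⟨z₂, hz₂, hm₂⟩ := h2
  obtain ⟨q, hq, hqz⟩ := (h.moved (subset_sylFix_of_mem hθ hR)).2 z₁
    ⟨orbit_subset_of_invariant hinv h₁ hz₁, hm₁⟩ z₂
    ⟨orbit_subset_of_invariant hinv h₂ hz₂, hm₂⟩
  have hz₂' : z₂ ∈ orbit (gen θ) θ₁ := by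
    rw [← hqz]
    exact orbit_invariant _ _ q (le_gen hR hq) _ hz₁
  have : θ₂ ∈ orbit (gen θ) θ₁ := by
    rw [← orbit_eq_iff.2 hz₂', orbit_eq_iff.2 hz₂]
    exact mem_orbit_self _
  obtain ⟨g, hg⟩ := this
  exact hno ⟨g, g.2, hg⟩

theorem Small.two_trans (h : Small p G x y) {θ₁ θ₂ η₁ η₂ : Set (Sylow p G)}
    (h₁ : θ₁ ∈ Theta p G x y) (h₂ : θ₂ ∈ Theta p G x y) (hne : θ₁ ≠ θ₂)
    (k₁ : η₁ ∈ Theta p G x y) (k₂ : η₂ ∈ Theta p G x y) (hne' : η₁ ≠ η₂) :
    ∃ g ∈ gen (sylFix p x : Set (Sylow p G)), g • θ₁ = η₁ ∧ g • θ₂ = η₂ := by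
  obtain ⟨⟨g, hg⟩, hgθ⟩ : η₁ ∈ orbit (gen (sylFix p x : Set (Sylow p G))) θ₁ := by
    rw [orbit_eq_iff.2 h₁]
    exact k₁
  change g • θ₁ = η₁ at hgθ
  obtain ⟨l, hl, hlθ⟩ := h.trans_rest k₁ (smul_mem_Theta hg h₂) k₂
    (fun he => hne (smul_left_cancel g (hgθ.trans he.symm))) hne'.symm
  refine ⟨l * g, mul_mem (gen_le_of_mem k₁ hl) hg, ?_, by rw [mul_smul, hlθ]⟩
  rw [mul_smul, hgθ, h.gen_fix k₁ hl]

theorem Small.inter_nonempty (h : Small p G x y) (hp2 : 2 ≤ (Theta p G x y).ncard - p)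
    {θ₁ θ₂ : Set (Sylow p G)} (h₁ : θ₁ ∈ Theta p G x y) (h₂ : θ₂ ∈ Theta p G x y) :
    (θ₁ ∩ θ₂).Nonempty := by
  rcases eq_or_ne θ₁ θ₂ with rfl | hne
  · rw [Set.inter_self]
    exact h.nonempty_of_mem h₁
  obtain ⟨Q, hQ⟩ := h.1
  have hfix := h.fixed_add (lab_subset_left x y hQ)
  obtain ⟨η₁, hη₁, η₂, hη₂, hne'⟩ :=
    (Set.one_lt_ncard (Set.toFinite _)).1
      (show 1 < (Theta p G x y ∩ Fix (Q : Subgroup G)).ncard by omega)
  obtain ⟨g, -, hg₁, hg₂⟩ := h.two_trans hη₁.1 hη₂.1 hne' h₁ h₂ hne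
  rw [← hg₁, ← hg₂]
  exact ⟨g • Q, Set.smul_mem_smul_set ((h.fix_iff hη₁.1).1 hη₁.2),
    Set.smul_mem_smul_set ((h.fix_iff hη₂.1).1 hη₂.2)⟩

theorem Small.two_le_fixed (h : Small p G x y) : 2 ≤ (Theta p G x y).ncard - p := by
  have := h.2.1
  omega

/-- No label contains the intersection of two others. -/
theorem Small.pair (h : Small p G x y) {θ₁ θ₂ θ₃ : Set (Sylow p G)}
    (h₁ : θ₁ ∈ Theta p G x y) (h₂ : θ₂ ∈ Theta p G x y) (h₃ : θ₃ ∈ Theta p G x y)
    (h12 : θ₂ ≠ θ₁) (h13 : θ₃ ≠ θ₁) (hsub : θ₁ ∩ θ₂ ⊆ θ₃) : θ₂ = θ₃ := by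
  have hgθ : ∀ g ∈ gen θ₁, ∀ η, g • (θ₁ ∩ η) = θ₁ ∩ g • η := fun g hg η => by
    rw [Set.smul_set_inter, h.gen_fix h₁ hg]
  have hcardI : ∀ η ∈ Theta p G x y, η ≠ θ₁ → (θ₁ ∩ η).ncard = (θ₁ ∩ θ₂).ncard := by
    intro η hη hne
    obtain ⟨g, hg, rfl⟩ := h.trans_rest h₁ h₂ hη h12 hne
    rw [← hgθ g hg, Set.ncard_smul_set]
  have hI : θ₁ ∩ θ₂ = θ₁ ∩ θ₃ :=
    Set.eq_of_subset_of_ncard_le (Set.subset_inter Set.inter_subset_left hsub)
      (hcardI θ₃ h₃ h13).le
  by_contra h23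
  obtain ⟨Q, hQ⟩ := h.nonempty_of_mem h₁
  have hQx := subset_sylFix_of_mem h₁ hQ
  -- a moved label is alone in its class
  obtain ⟨η, hη, hηm⟩ := h.moved_nonempty hQx
  have hη1 : η ≠ θ₁ := fun he => hηm (he ▸ (h.fix_iff h₁).2 hQ)
  obtain ⟨g, hg, hgη⟩ := h.trans_rest h₁ h₂ hη h12 hη1
  have hη'T : g • θ₃ ∈ Theta p G x y := smul_mem_Theta (gen_le_of_mem h₁ hg) h₃
  have hη'I : θ₁ ∩ η = θ₁ ∩ g • θ₃ := by rw [← hgη, ← hgθ g hg, ← hgθ g hg, hI]
  have hη'ne : g • θ₃ ≠ η := fun he => h23 (smul_left_cancel g (hgη.trans he.symm))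
  have hη'm : g • θ₃ ∉ Fix (α := Set (Sylow p G)) (Q : Subgroup G) := fun hf => by
    have : Q ∈ θ₁ ∩ g • θ₃ := ⟨hQ, (h.fix_iff hη'T).1 hf⟩
    rw [← hη'I] at this
    exact hηm ((h.fix_iff hη).2 this.2)
  obtain ⟨q, hq, hqη⟩ := (h.moved hQx).2 η ⟨hη, hηm⟩ _ ⟨hη'T, hη'm⟩
  -- the intersection is fixed by `q`, so by all of `Q`
  have hI0 : (θ₁ ∩ η).Nonempty := h.inter_nonempty h.two_le_fixed h₁ hη
  set C : Subgroup G := stabilizer G (θ₁ ∩ η)
  have hqC : q ∈ C := by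
    rw [mem_stabilizer_iff, hgθ q (le_gen hQ hq), hqη, ← hη'I]
  have hblock : ∀ r ∈ (Q : Subgroup G), r ∈ C := by
    by_contra hcon
    -- `C ⊓ Q` has orbit of size a power of `p`, inside the moved labels
    have hsub' : orbit (C ⊓ (Q : Subgroup G) : Subgroup G) η ⊆ orbit (Q : Subgroup G) η := by
      rintro _ ⟨⟨r, hr⟩, rfl⟩
      exact ⟨⟨r, hr.2⟩, rfl⟩
    have hmoved : η ∉ Fix (α := Set (Sylow p G)) (C ⊓ (Q : Subgroup G) : Subgroup G) :=
      fun hf => hη'ne (hqη.symm.trans (mem_Fix.1 hf q ⟨hqC, hq⟩))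
    have h1 := le_ncard_orbit (Q.2.to_le inf_le_right) hmoved
    have hall : orbit (C ⊓ (Q : Subgroup G) : Subgroup G) η = orbit (Q : Subgroup G) η :=
      Set.eq_of_subset_of_ncard_le hsub' (by rw [h.orbit_eq_p hQx hη hηm]; exact h1)
    refine hcon fun r hr => ?_
    have : r • η ∈ orbit (C ⊓ (Q : Subgroup G) : Subgroup G) η := hall ▸ ⟨⟨r, hr⟩, rfl⟩
    obtain ⟨⟨c, hc⟩, hcη⟩ := this
    change c • η = r • η at hcη
    have hc1 : c • (θ₁ ∩ η) = θ₁ ∩ η := mem_stabilizer_iff.1 hc.1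
    rw [mem_stabilizer_iff, hgθ r (le_gen hQ hr), ← hcη, ← hgθ c (le_gen hQ hc.2), hc1]
  obtain ⟨a, -, rfl⟩ := mem_Theta.1 h₁
  obtain ⟨b, -, rfl⟩ := mem_Theta.1 hη
  have hmem : Q ∈ lab p x (a • y) ∩ lab p x (b • y) :=
    mem_of_normalizes (T := ({x, a • y, b • y} : Set α))
      (fun R => by simp [mem_lab]; tauto) hI0 hblock
  exact hηm ((h.fix_iff hη).2 hmem.2)

variable (hS : Setting p G α)

include hS in
/-- A label is maximal among the labels at `x`. -/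
theorem Small.lab_eq_of_subset (h : Small p G x y) {w : α} (hw : w ≠ x)
    (hsub : lab p x y ⊆ (lab p x w : Set (Sylow p G))) :
    (lab p x w : Set (Sylow p G)) = lab p x y := by
  have := hS.prim
  obtain ⟨P, hP⟩ := h.1
  by_contra hne
  have hM : gen (lab p x w : Set (Sylow p G)) ≤ gen (sylFix p x : Set (Sylow p G)) :=
    gen_mono (lab_subset_left x w)
  have hθ := lab_mem_Theta (p := p) (G := G) x y
  have hnot : ¬ ∀ g ∈ gen (lab p x w : Set (Sylow p G)),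
      g • (lab p x y : Set (Sylow p G)) = lab p x y := fun hall =>
    hne (Set.Subset.antisymm (fun Q hQ => (h.fix_iff hθ).1
      (mem_Fix.2 fun q hq => hall q (le_gen hQ hq))) hsub)
  push Not at hnot
  obtain ⟨g, hg, hgθ⟩ := hnot
  refine hw (eq_of_subset_sylFix hS.sylGen P (hS.fix P) fun Q hQ => ?_)
  -- `Q` lies in some label, and all the labels are conjugate in the generated subgroup
  obtain ⟨η, hη, hηf⟩ := Set.nonempty_of_ncard_ne_zero
    (s := Theta p G x y ∩ Fix (Q : Subgroup G))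
    (by have := h.fixed_add hQ; have := h.2.1; omega)
  have hQη := (h.fix_iff hη).1 hηf
  obtain ⟨m, hm, hmη⟩ : ∃ m ∈ gen (lab p x w : Set (Sylow p G)),
      m • (lab p x y : Set (Sylow p G)) = η := by
    by_cases he : η = lab p x y
    · exact ⟨1, one_mem _, by rw [one_smul, he]⟩
    obtain ⟨l, hl, hlθ⟩ := h.trans_rest hθ (smul_mem_Theta (hM hg) hθ) hη hgθ he
    exact ⟨l * g, mul_mem (gen_mono hsub hl) hg, by rw [mul_smul, hlθ]⟩
  rw [← hmη] at hQη
  obtain ⟨R, hR, rfl⟩ := Set.mem_smul_set.1 hQη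
  have hmx : ((m • R : Sylow p G) : Subgroup G) ≤ gen (lab p x w : Set (Sylow p G)) :=
    smul_eq_self_of_mem_gen hm R (le_gen (hsub hR))
  exact hmx.trans (gen_le.2 fun W hW => hW.2)

include hS in
theorem Good.card_eq (h : Good p G x y) :
    (Theta p G y x).ncard = (Theta p G x y).ncard := by
  have := hS.prim
  have h1 := h.2.1.count
  have h2 := h.2.2.count
  rw [lab_comm y x, ncard_sylFix_eq y x] at h2
  have hN : 0 < (sylFix p x : Set (Sylow p G)).ncard := by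
    obtain ⟨Q, hQ⟩ := h.2.1.1
    exact (Set.ncard_pos).2 ⟨Q, lab_subset_left x y hQ⟩
  have := h.2.1.2.1
  have := h.2.2.2.1
  have hp0 : 0 < p := hp.out.pos
  zify [show p ≤ (Theta p G x y).ncard by omega] at h1
  zify [show p ≤ (Theta p G y x).ncard by omega] at h2
  have key : ((sylFix p x : Set (Sylow p G)).ncard : ℤ) * p *
      ((Theta p G y x).ncard - (Theta p G x y).ncard) = 0 := by
    linear_combination ((Theta p G y x).ncard : ℤ) * h1 - ((Theta p G x y).ncard : ℤ) * h2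
  rcases mul_eq_zero.1 key with hk | hk
  · rcases mul_eq_zero.1 hk with hk | hk <;> omega
  · omega

omit [Finite G] hp [Finite α] in
theorem mem_line_iff {z : α} : z ∈ line p G x y ↔
    z = x ∨ (z ≠ x ∧ (lab p x z : Set (Sylow p G)) = lab p x y ∧ Small p G z x) := Iff.rfl

omit [Finite G] hp [Finite α] in
theorem Good.left_mem_line (_h : Good p G x y) : x ∈ line p G x y := Or.inl rfl

omit [Finite G] hp [Finite α] in
theorem Good.right_mem_line (h : Good p G x y) : y ∈ line p G x y :=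
  Or.inr ⟨h.1.symm, rfl, h.2.2⟩

omit [Finite G] hp [Finite α] in
theorem line_smul (g : G) (x y : α) :
    line p G (g • x) (g • y) = g • line p G x y := by
  ext z
  rw [Set.mem_smul_set_iff_inv_smul_mem, mem_line_iff, mem_line_iff]
  constructor
  · rintro (rfl | ⟨h1, h2, h3⟩)
    · exact Or.inl (inv_smul_smul _ _)
    · refine Or.inr ⟨fun he => h1 (inv_smul_eq_iff.1 he), ?_, ?_⟩
      · have := congrArg (fun s : Set (Sylow p G) => g⁻¹ • s) h2
        simpa [smul_lab] using this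
      · have := h3.smul g⁻¹
        rwa [inv_smul_smul] at this
  · rintro (h | ⟨h1, h2, h3⟩)
    · exact Or.inl (inv_smul_eq_iff.1 h)
    · refine Or.inr ⟨fun he => h1 (inv_smul_eq_iff.2 he), ?_, ?_⟩
      · have := congrArg (fun s : Set (Sylow p G) => g • s) h2
        simpa [smul_lab] using this
      · have := h3.smul g
        rwa [smul_inv_smul] at this

omit [Finite G] hp [Finite α] in
theorem line_congr {w : α} (h : (lab p x w : Set (Sylow p G)) = lab p x y) :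
    line p G x w = line p G x y := by
  ext z
  rw [mem_line_iff, mem_line_iff, h]

include hS in
/-- Two points of a line determine it. -/
theorem Good.line_eq (h : Good p G x y) {z w : α} (hz : z ∈ line p G x y)
    (hw : w ∈ line p G x y) (hzw : z ≠ w) :
    Good p G z w ∧ (lab p z w : Set (Sylow p G)) = lab p x y ∧
      line p G z w = line p G x y := by
  set θ : Set (Sylow p G) := lab p x y with hθ
  have hxz : ∀ v ∈ line p G x y, v ≠ x → Good p G x v ∧ (lab p x v : Set (Sylow p G)) = θ := by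
    intro v hv hvx
    rcases hv with rfl | ⟨-, h2, h3⟩
    · exact absurd rfl hvx
    · exact ⟨⟨hvx.symm, h.2.1.of_lab_eq h2, h3⟩, h2⟩
  -- any two points of the line have the same label
  have hlab : ∀ u ∈ line p G x y, ∀ v ∈ line p G x y, u ≠ v →
      (lab p u v : Set (Sylow p G)) = θ ∧ Small p G u v := by
    intro u hu v hv huv
    rcases eq_or_ne u x with rfl | hux
    · exact ⟨(hxz v hv huv.symm).2, (hxz v hv huv.symm).1.2.1⟩
    obtain ⟨hgu, hlu⟩ := hxz u hu hux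
    have hux' : (lab p u x : Set (Sylow p G)) = θ := by rw [lab_comm, hlu]
    rcases eq_or_ne v x with rfl | hvx
    · exact ⟨hux', hgu.2.2⟩
    obtain ⟨hgv, hlv⟩ := hxz v hv hvx
    have hsub : lab p u x ⊆ (lab p u v : Set (Sylow p G)) := fun Q hQ => by
      refine ⟨hQ.1, ?_⟩
      have : Q ∈ (lab p x v : Set (Sylow p G)) := by rw [hlv, ← hux']; exact hQ
      exact this.2
    have he := hgu.2.2.lab_eq_of_subset hS huv.symm hsub
    exact ⟨by rw [he, hux'], hgu.2.2.of_lab_eq he⟩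
  obtain ⟨hl, hsm⟩ := hlab z hz w hw hzw
  obtain ⟨-, hsm'⟩ := hlab w hw z hz hzw.symm
  refine ⟨⟨hzw, hsm, hsm'⟩, hl, Set.Subset.antisymm ?_ ?_⟩
  · rintro v (rfl | ⟨hvz, hv, hvs⟩)
    · exact hz
    rcases eq_or_ne v x with rfl | hvx
    · exact Or.inl rfl
    have hzv : (lab p z v : Set (Sylow p G)) = θ := hv.trans hl
    rcases eq_or_ne z x with rfl | hzx
    · exact Or.inr ⟨hvx, hzv, hvs⟩
    obtain ⟨hgz, hlz⟩ := hxz z hz hzx
    have hsub : lab p x z ⊆ (lab p x v : Set (Sylow p G)) := fun Q hQ => by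
      refine ⟨hQ.1, ?_⟩
      have : Q ∈ (lab p z v : Set (Sylow p G)) := by rw [hzv, ← hlz]; exact hQ
      exact this.2
    have he := hgz.2.1.lab_eq_of_subset hS hvx hsub
    refine Or.inr ⟨hvx, he.trans hlz, hvs.of_lab_eq ?_⟩
    rw [lab_comm v x, he, hlz, lab_comm v z, hzv]
  · intro v hv
    rcases eq_or_ne v z with rfl | hvz
    · exact Or.inl rfl
    exact Or.inr ⟨hvz, ((hlab z hz v hv hvz.symm).1).trans hl.symm, (hlab v hv z hz hvz).2⟩

end

end CfsgLib.SylowFix
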